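import Mathlib
import Cfsg.Agent.Lib.Lead.CITBase
import Cfsg.Agent.Lib.H25.StrEmb

/-!
A strongly embedded Frobenius group (adapted from helper83's `H83.CITM4a`, where the kernel is a
`2`-group).
-/
set_option autoImplicit false
set_option linter.style.haveILetI false

namespace H74.ZDat

open Subgroup H28.Cj H28.RelSyl H25.Isolated H25.StrEmb

variable {L : Type*} [Group L] [Finite L]

/-- an odd power of an inverting element inverts -/
theorem inverts_pow {g k : L} (h : g * k * g⁻¹ = k⁻¹) (n : ℕ) :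
    g ^ (2 * n + 1) * k * (g ^ (2 * n + 1))⁻¹ = k⁻¹ := by
  have h2 : g * k⁻¹ * g⁻¹ = k := by
    have := congrArg (fun x => x⁻¹) h
    simp only [mul_inv_rev, inv_inv] at this
    rw [← mul_assoc] at this
    exact this
  induction n with
  | zero => simpa using h
  | succ n ih =>
    have e : g ^ (2 * (n + 1) + 1) = g * g * g ^ (2 * n + 1) := by
      rw [← pow_two, ← pow_add]; congr 1; ring
    rw [e]
    calc g * g * g ^ (2 * n + 1) * k * (g * g * g ^ (2 * n + 1))⁻¹
        = g * (g * (g ^ (2 * n + 1) * k * (g ^ (2 * n + 1))⁻¹) * g⁻¹) * g⁻¹ := by group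
      _ = k⁻¹ := by rw [ih, h2, h]

/-- the situation -/
structure Dat (P M : Subgroup L) (m : ℕ) : Prop where
  emb : Cfsg.IsStronglyEmbedded M
  even : 2 ∣ Nat.card P
  le : P ≤ M
  nor : M ≤ normalizer (P : Set L)
  cardM : Nat.card M = Nat.card P * m
  cop : (Nat.card P).Coprime m
  one : 1 < m
  cent : ∀ u ∈ P, u ≠ 1 → ∀ x : L, x * u = u * x → x ∈ P
  ti : ∀ g : L, ∀ u ∈ P, u ≠ 1 → g⁻¹ * u * g ∈ P → g ∈ M

theorem Dat.odd {P M : Subgroup L} {m : ℕ} (hd : Dat P M m) : Odd m := by
  rw [← Nat.not_even_iff_odd, even_iff_two_dvd]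
  intro h
  have h1 := Nat.dvd_gcd hd.even h
  rw [hd.cop] at h1
  omega

theorem Dat.idx {P M : Subgroup L} {m : ℕ} (hd : Dat P M m) : (P.subgroupOf M).index = m := by
  have h1 := relIndex_mul_card hd.le
  rw [hd.cardM, mul_comm] at h1
  exact Nat.eq_of_mul_eq_mul_left Nat.card_pos h1

theorem Dat.pow_mem {P M : Subgroup L} {m : ℕ} (hd : Dat P M m) {g : L} (hg : g ∈ M) :
    g ^ m ∈ P := by
  haveI hN : (P.subgroupOf M).Normal :=
    (Subgroup.normal_subgroupOf_iff_le_normalizer hd.le).mpr hd.nor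
  have := Subgroup.pow_index_mem (H := P.subgroupOf M) ⟨g, hg⟩
  rw [hd.idx] at this
  exact this

/-- an element of `P` conjugate into `M` by an element outside `M` is trivial -/
theorem Dat.disj {P M : Subgroup L} {m : ℕ} (hd : Dat P M m) {u a : L} (hu : u ∈ P)
    (ha : a ∉ M) (h : a⁻¹ * u * a ∈ M) : u = 1 := by
  have h1 : (a⁻¹ * u * a) ^ m ∈ P := hd.pow_mem h
  have h2 : (a⁻¹ * u * a) ^ m = a⁻¹ * u ^ m * a := by
    have := conj_pow (i := m) (a := a⁻¹) (b := u)
    rw [inv_inv] at this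
    exact this
  rw [h2] at h1
  have h3 : u ^ m = 1 := by
    by_contra hne
    exact ha (hd.ti a (u ^ m) (P.pow_mem hu m) hne h1)
  have h4 : orderOf u ∣ m := orderOf_dvd_of_pow_eq_one h3
  have h5 : orderOf u ∣ Nat.card P := Subgroup.orderOf_dvd_natCard _ hu
  have h6 := Nat.dvd_gcd h5 h4
  rw [hd.cop] at h6
  exact orderOf_eq_one_iff.mp (Nat.dvd_one.mp h6)

variable {P M : Subgroup L} {m : ℕ}

/-- the base point -/
def x0 (M : Subgroup L) : L ⧸ M := QuotientGroup.mk 1

/-- stabiliser of `y` in `M` -/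
def K (M : Subgroup L) (y : L ⧸ M) : Subgroup L := M ⊓ MulAction.stabilizer L y

theorem mem_K {y : L ⧸ M} {g : L} : g ∈ K M y ↔ g ∈ M ∧ g • y = y := Iff.rfl

theorem smul_x0 {g : L} : g • x0 M = x0 M ↔ g ∈ M := by
  rw [x0, smul_mk_eq_iff]; simp

theorem K_odd (hd : Dat P M m) {y : L ⧸ M} (hy : y ≠ x0 M) : Odd (Nat.card (K M y)) := by
  induction y using QuotientGroup.induction_on with
  | H a =>
  have ha : a ∉ M := by
    intro h
    apply hy
    rw [x0, eq_comm, QuotientGroup.eq]
    simpa using h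
  have := hd.emb.2.2 a ha
  have e : K M (QuotientGroup.mk a) = M ⊓ M.map (MulAut.conj a).toMonoidHom := by
    ext g
    rw [mem_K, Subgroup.mem_inf, mem_map_conj, smul_mk_eq_iff]
  rw [e]
  exact this

theorem odd_of_mem_K (hd : Dat P M m) {y : L ⧸ M} (hy : y ≠ x0 M) {k : L} (hk : k ∈ K M y) :
    Odd (orderOf k) := by
  have h1 := K_odd hd hy
  have h2 : orderOf k ∣ Nat.card (K M y) := Subgroup.orderOf_dvd_natCard _ hk
  exact Odd.of_dvd_nat h1 h2

theorem K_disj (hd : Dat P M m) {y : L ⧸ M} (hy : y ≠ x0 M) {u : L} (hu : u ∈ P)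
    (hk : u ∈ K M y) : u = 1 := by
  induction y using QuotientGroup.induction_on with
  | H a =>
  have ha : a ∉ M := by
    intro h
    apply hy
    rw [x0, eq_comm, QuotientGroup.eq]
    simpa using h
  have h1 := (mem_K.mp hk).2
  rw [smul_mk_eq_iff] at h1
  exact hd.disj hu ha h1

/-- an element of a two-point stabiliser commuting with a nontrivial element of `P` -/
theorem K_cent (hd : Dat P M m) {y : L ⧸ M} (hy : y ≠ x0 M) {u k : L} (hu : u ∈ P)
    (hu1 : u ≠ 1) (hk : k ∈ K M y) (hc : k * u = u * k) : k = 1 :=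
  K_disj hd hy (hd.cent u hu hu1 k hc) hk

theorem eq_one_of_sq (hd : Dat P M m) {y : L ⧸ M} (hy : y ≠ x0 M) {k : L} (hk : k ∈ K M y)
    (h2 : k * k = 1) : k = 1 := by
  have h1 := odd_of_mem_K hd hy hk
  obtain ⟨r, hr⟩ := h1
  have h3 : k ^ (2 * r + 1) = 1 := by rw [← hr]; exact pow_orderOf_eq_one k
  rw [pow_succ, pow_mul, pow_two, h2, one_pow, one_mul] at h3
  exact h3

/-- a subgroup of `M` disjoint from `P` has order at most `m` -/
theorem card_le_of_disj (hd : Dat P M m) {K : Subgroup L} (hK : K ≤ M)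
    (hdis : ∀ u ∈ P, u ∈ K → u = 1) : Nat.card K ≤ m := by
  have hdisj : Disjoint P K := by
    rw [Subgroup.disjoint_def]
    intro x h1 h2
    exact hdis x h1 h2
  have hinj : Function.Injective (fun g : P × K => (⟨(g.1 : L) * (g.2 : L),
      M.mul_mem (hd.le g.1.2) (hK g.2.2)⟩ : M)) := by
    intro a b h
    exact Subgroup.mul_injective_of_disjoint hdisj (congrArg Subtype.val h)
  have h1 := Nat.card_le_card_of_injective _ hinj
  rw [Nat.card_prod, hd.cardM] at h1
  exact Nat.le_of_mul_le_mul_left h1 Nat.card_pos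

theorem le_card_inv (hd : Dat P M m) : m ≤ Nat.card {t : L // orderOf t = 2 ∧ t ∈ M} := by
  haveI : Fact (Nat.Prime 2) := ⟨Nat.prime_two⟩
  obtain ⟨t, ht⟩ := exists_prime_orderOf_dvd_card' (G := P) 2 hd.even
  rw [← Subgroup.orderOf_coe] at ht
  have ht1 : (t : L) ≠ 1 := by
    intro h; rw [h, orderOf_one] at ht; omega
  -- map `M ⧸ P → involutions`
  let f : M ⧸ (P.subgroupOf M) → {t : L // orderOf t = 2 ∧ t ∈ M} := fun c =>
    ⟨(c.out : L) * t * (c.out : L)⁻¹, by
      rw [← MulAut.conj_apply, MulEquiv.orderOf_eq]; exact ht,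
      M.mul_mem (M.mul_mem c.out.2 (hd.le t.2)) (M.inv_mem c.out.2)⟩
  have hf : Function.Injective f := by
    intro c d h
    have h1 := congrArg Subtype.val h
    simp only [f] at h1
    have h2 : ((d.out : L)⁻¹ * (c.out : L)) * t = t * ((d.out : L)⁻¹ * (c.out : L)) := by
      calc ((d.out : L)⁻¹ * (c.out : L)) * t
          = (d.out : L)⁻¹ * ((c.out : L) * t * (c.out : L)⁻¹) * (c.out : L) := by group
        _ = (d.out : L)⁻¹ * ((d.out : L) * t * (d.out : L)⁻¹) * (c.out : L) := by rw [h1]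
        _ = _ := by group
    have h3 := hd.cent t t.2 ht1 _ h2
    rw [← QuotientGroup.out_eq' c, ← QuotientGroup.out_eq' d]
    symm
    rw [QuotientGroup.eq, Subgroup.mem_subgroupOf]
    exact h3
  have h1 := Nat.card_le_card_of_injective f hf
  have h2 : Nat.card (M ⧸ (P.subgroupOf M)) = m := hd.idx
  rwa [h2] at h1

theorem card_K_and_aux (hd : Dat P M m) {y : L ⧸ M} (hy : y ≠ x0 M) :
    Nat.card {t : L // orderOf t = 2 ∧ t ∈ M} = m := by
  have h1 : Nat.card {i : L // orderOf i = 2 ∧ i • x0 M = y} =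
      Nat.card {t : L // orderOf t = 2 ∧ t ∈ M} := card_swap hd.emb (x0 M) y (Ne.symm hy)
  have hle : Nat.card (K M y) ≤ m :=
    card_le_of_disj hd inf_le_left (fun u hu hk => K_disj hd hy hu hk)
  apply le_antisymm _ (le_card_inv hd)
  rw [← h1]
  refine le_trans ?_ hle
  have hne : 0 < Nat.card {i : L // orderOf i = 2 ∧ i • x0 M = y} := by
    rw [h1]; exact lt_of_lt_of_le (lt_trans one_pos hd.one) (le_card_inv hd)
  obtain ⟨⟨i, hi, hiy⟩⟩ := (Nat.card_pos_iff.1 hne).1
  have hi2 := self_mul_self hi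
  have hiy' : i • y = x0 M := by rw [← hiy, ← mul_smul, hi2, one_smul]
  let f : {i : L // orderOf i = 2 ∧ i • x0 M = y} → K M y := fun j =>
      ⟨i * j.1, by
        have hj2 := self_mul_self j.2.1
        have hjy : j.1 • y = x0 M := by
          have h := congrArg (fun z => j.1 • z) j.2.2
          simp only [← mul_smul, hj2, one_smul] at h
          exact h.symm
        refine mem_K.mpr ⟨?_, ?_⟩
        · rw [← smul_x0, mul_smul, j.2.2, hiy']
        · rw [mul_smul, hjy, hiy]⟩
  have hf : Function.Injective f := by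
    intro a b h
    have := congrArg Subtype.val h
    simp only [f] at this
    exact Subtype.ext (mul_left_cancel this)
  exact Nat.card_le_card_of_injective f hf

theorem Dat.inv (hd : Dat P M m) : Nat.card {t : L // orderOf t = 2 ∧ t ∈ M} = m := by
  obtain ⟨a, ha⟩ : ∃ a : L, a ∉ M := by
    by_contra hcon
    push Not at hcon
    exact hd.emb.1 (eq_top_iff.mpr fun a _ => hcon a)
  have hy : (QuotientGroup.mk a : L ⧸ M) ≠ x0 M := by
    intro h
    rw [x0, eq_comm, QuotientGroup.eq] at h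
    apply ha
    simpa using h
  exact card_K_and_aux hd hy

theorem card_K_and (hd : Dat P M m) {y : L ⧸ M} (hy : y ≠ x0 M) :
    Nat.card (K M y) = m ∧ ∀ i : L, orderOf i = 2 → i • x0 M = y →
      ∀ k ∈ K M y, i * k * i⁻¹ = k⁻¹ := by
  have h1 : Nat.card {i : L // orderOf i = 2 ∧ i • x0 M = y} = m := by
    rw [card_swap hd.emb (x0 M) y (Ne.symm hy)]
    exact hd.inv
  have hle : Nat.card (K M y) ≤ m :=
    card_le_of_disj hd inf_le_left (fun u hu hk => K_disj hd hy hu hk)
  have key : ∀ i : L, orderOf i = 2 → i • x0 M = y →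
      Nat.card (K M y) = m ∧ ∀ k ∈ K M y, i * k * i⁻¹ = k⁻¹ := by
    intro i hi hiy
    have hi2 := self_mul_self hi
    have hiy' : i • y = x0 M := by rw [← hiy, ← mul_smul, hi2, one_smul]
    let f : {i : L // orderOf i = 2 ∧ i • x0 M = y} → K M y := fun j =>
      ⟨i * j.1, by
        have hj2 := self_mul_self j.2.1
        have hjy : j.1 • y = x0 M := by
          have h := congrArg (fun z => j.1 • z) j.2.2
          simp only [← mul_smul, hj2, one_smul] at h
          exact h.symm
        refine mem_K.mpr ⟨?_, ?_⟩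
        · rw [← smul_x0, mul_smul, j.2.2, hiy']
        · rw [mul_smul, hjy, hiy]⟩
    have hf : Function.Injective f := by
      intro a b h
      have := congrArg Subtype.val h
      simp only [f] at this
      exact Subtype.ext (mul_left_cancel this)
    have hle2 : m ≤ Nat.card (K M y) := by
      rw [← h1]; exact Nat.card_le_card_of_injective f hf
    have hcard : Nat.card (K M y) = m := le_antisymm hle hle2
    refine ⟨hcard, ?_⟩
    have hbij : Function.Bijective f := by
      rw [Nat.bijective_iff_injective_and_card]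
      exact ⟨hf, by rw [h1, hcard]⟩
    intro k hk
    obtain ⟨j, hj⟩ := hbij.2 ⟨k, hk⟩
    have hj1 := congrArg Subtype.val hj
    simp only [f] at hj1
    have hj2 := self_mul_self j.2.1
    rw [← hj1]
    calc i * (i * j.1) * i⁻¹ = (i * i) * j.1 * i⁻¹ := by group
      _ = j.1 * i⁻¹ := by rw [hi2, one_mul]
      _ = j.1⁻¹ * i⁻¹ := by rw [inv_eq_self_of_sq hj2]
      _ = (i * j.1)⁻¹ := by rw [mul_inv_rev]
  have hne : 0 < Nat.card {i : L // orderOf i = 2 ∧ i • x0 M = y} := by
    rw [h1]; exact lt_trans one_pos hd.one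
  obtain ⟨i⟩ := (Nat.card_pos_iff.1 hne).1
  exact ⟨(key i.1 i.2.1 i.2.2).1, fun j hj hjy => (key j hj hjy).2⟩

theorem card_K (hd : Dat P M m) {y : L ⧸ M} (hy : y ≠ x0 M) : Nat.card (K M y) = m :=
  (card_K_and hd hy).1

theorem inverts (hd : Dat P M m) {y : L ⧸ M} (hy : y ≠ x0 M) {i : L} (hi : orderOf i = 2)
    (hiy : i • x0 M = y) {k : L} (hk : k ∈ K M y) : i * k * i⁻¹ = k⁻¹ :=
  (card_K_and hd hy).2 i hi hiy k hk

theorem exists_swap (hd : Dat P M m) {y : L ⧸ M} (hy : y ≠ x0 M) :
    ∃ i : L, orderOf i = 2 ∧ i • x0 M = y := by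
  have h1 : Nat.card {i : L // orderOf i = 2 ∧ i • x0 M = y} = m := by
    rw [card_swap hd.emb (x0 M) y (Ne.symm hy)]
    exact hd.inv
  have hne : 0 < Nat.card {i : L // orderOf i = 2 ∧ i • x0 M = y} := by
    rw [h1]; exact lt_trans one_pos hd.one
  obtain ⟨i⟩ := (Nat.card_pos_iff.1 hne).1
  exact ⟨i.1, i.2⟩

theorem K_comm (hd : Dat P M m) {y : L ⧸ M} (hy : y ≠ x0 M) {k l : L} (hk : k ∈ K M y)
    (hl : l ∈ K M y) : k * l = l * k := by
  obtain ⟨i, hi, hiy⟩ := exists_swap hd hy
  have h1 := inverts hd hy hi hiy hk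
  have h2 := inverts hd hy hi hiy hl
  have h3 := inverts hd hy hi hiy ((K M y).mul_mem hk hl)
  have h4 : i * (k * l) * i⁻¹ = (i * k * i⁻¹) * (i * l * i⁻¹) := by group
  rw [h4, h1, h2] at h3
  -- k⁻¹ l⁻¹ = (k l)⁻¹
  have := congrArg (fun x => x⁻¹) h3
  simp only [mul_inv_rev, inv_inv] at this
  exact this.symm

/-- no element of `M` inverts `K M y` -/
theorem not_inverts (hd : Dat P M m) {y : L ⧸ M} (hy : y ≠ x0 M) {g : L} (hg : g ∈ M)
    (hinv : ∀ k ∈ K M y, g * k * g⁻¹ = k⁻¹) : False := by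
  have hgm : g ^ m ∈ P := hd.pow_mem hg
  obtain ⟨r, hr⟩ := hd.odd
  have hsub : K M y = ⊥ := by
    rw [eq_bot_iff]
    intro k hk
    rw [Subgroup.mem_bot]
    have h1 : g ^ m * k * (g ^ m)⁻¹ = k⁻¹ := by
      rw [hr]; exact inverts_pow (hinv k hk) r
    have h2 : k * (g ^ m)⁻¹ * k⁻¹ ∈ P :=
      (Subgroup.mem_normalizer_iff.mp (hd.nor (mem_K.mp hk).1) _).mp (P.inv_mem hgm)
    have h3 : g ^ m * (k * (g ^ m)⁻¹ * k⁻¹) ∈ P := P.mul_mem hgm h2
    have e : g ^ m * (k * (g ^ m)⁻¹ * k⁻¹) = k⁻¹ * k⁻¹ := by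
      rw [← h1]; group
    rw [e] at h3
    have h4 := K_disj hd hy h3 ((K M y).mul_mem ((K M y).inv_mem hk) ((K M y).inv_mem hk))
    have h5 : k * k = 1 := by
      have := congrArg (fun x => x⁻¹) h4
      simpa using this
    exact eq_one_of_sq hd hy hk h5
  have h6 := card_K hd hy
  rw [hsub, Subgroup.card_bot] at h6
  have := hd.one
  omega

/-- two-point stabilisers fix exactly two points -/
theorem fix_two (hd : Dat P M m) {y z : L ⧸ M} (hy : y ≠ x0 M) (hz : z ≠ x0 M) (hzy : z ≠ y)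
    (hfix : ∀ k ∈ K M y, k • z = z) : False := by
  have hKz : K M y = K M z := by
    apply Subgroup.eq_of_le_of_card_ge
    · intro k hk
      exact mem_K.mpr ⟨(mem_K.mp hk).1, hfix k hk⟩
    · rw [card_K hd hy, card_K hd hz]
  obtain ⟨i, hi, hiy⟩ := exists_swap hd hy
  obtain ⟨j, hj, hjz⟩ := exists_swap hd hz
  have hi2 := self_mul_self hi
  have hii : i⁻¹ = i := inv_eq_self_of_sq hi2
  have hiy' : i • y = x0 M := by rw [← hiy, ← mul_smul, hi2, one_smul]
  have hw : i • z ≠ x0 M := by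
    intro h
    apply hzy
    rw [← hiy'] at h
    exact smul_left_cancel i h
  have hKw : K M y = K M (i • z) := by
    apply Subgroup.eq_of_le_of_card_ge
    · intro k hk
      refine mem_K.mpr ⟨(mem_K.mp hk).1, ?_⟩
      have h1 := inverts hd hy hi hiy hk
      have h2 : k * i = i * k⁻¹ := by
        calc k * i = (i * i) * k * i := by rw [hi2, one_mul]
          _ = i * (i * k * i⁻¹) := by rw [hii]; group
          _ = i * k⁻¹ := by rw [h1]
      rw [← mul_smul, h2, mul_smul, hfix _ ((K M y).inv_mem hk)]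
    · rw [card_K hd hy, card_K hd hw]
  obtain ⟨l, hl, hlw⟩ := exists_swap hd hw
  have hl2 := self_mul_self hl
  have hlw' : l • (i • z) = x0 M := by rw [← hlw, ← mul_smul, hl2, one_smul]
  have hg : l * i * j ∈ M := by
    rw [← smul_x0, mul_smul, mul_smul, hjz, hlw']
  apply not_inverts hd hy hg
  intro k hk
  have h1 : j * k * j⁻¹ = k⁻¹ := inverts hd hz hj hjz (hKz ▸ hk)
  have h2 : i * k⁻¹ * i⁻¹ = k := by
    have := inverts hd hy hi hiy ((K M y).inv_mem hk)
    rw [this, inv_inv]
  have h3 : l * k * l⁻¹ = k⁻¹ := inverts hd hw hl hlw (hKw ▸ hk)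
  calc l * i * j * k * (l * i * j)⁻¹ = l * (i * (j * k * j⁻¹) * i⁻¹) * l⁻¹ := by group
    _ = k⁻¹ := by rw [h1, h2, h3]

/-- the stabilisers in `M` of the points different from the base point are conjugate: `M` is
transitive on these points -/
theorem transitive (hd : Dat P M m) {y z : L ⧸ M} (hy : y ≠ x0 M) (hz : z ≠ x0 M) :
    ∃ g ∈ M, g • y = z := by
  obtain ⟨p, hp, hpm⟩ := Nat.exists_prime_and_dvd (n := m) (by have := hd.one; omega)
  haveI : Fact p.Prime := ⟨hp⟩
  have hp2 : p ≠ 2 := by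
    rintro rfl
    exact (Nat.not_even_iff_odd.mpr hd.odd) (even_iff_two_dvd.mpr hpm)
  have hsyl : ∀ w : L ⧸ M, w ≠ x0 M → ∀ R, IsSyl p R (K M w) → IsSyl p R M := by
    intro w hw R hR
    apply hR.trans inf_le_left
    have h1 : (K M w).relIndex M * Nat.card (K M w) = Nat.card M := relIndex_mul_card inf_le_left
    rw [card_K hd hw, hd.cardM] at h1
    have h2 : (K M w).relIndex M = Nat.card P :=
      Nat.eq_of_mul_eq_mul_right (lt_trans one_pos hd.one) h1
    rw [h2]
    intro hdvd
    have h3 := Nat.dvd_gcd hdvd hpm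
    rw [hd.cop] at h3
    exact hp.one_lt.ne' (Nat.dvd_one.mp h3)
  obtain ⟨R, hR⟩ := exists_isSyl p (K M y)
  obtain ⟨R', hR'⟩ := exists_isSyl p (K M z)
  obtain ⟨g, hg, hgR⟩ := (hsyl y hy R hR).exists_conj_eq (hsyl z hz R' hR')
  refine ⟨g, hg, ?_⟩
  have hR'ne : R' ≠ ⊥ := by
    apply hR'.ne_bot
    rw [card_K hd hz]; exact hpm
  -- `N_M(R') = K M z`
  have hN : M ⊓ normalizer (R' : Set L) = K M z := by
    symm
    apply Subgroup.eq_of_le_of_card_ge
    · apply le_inf inf_le_left
      intro k hk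
      rw [Subgroup.mem_normalizer_iff]
      intro r
      constructor
      · intro hr
        have := K_comm hd hz hk (hR'.le hr)
        rw [this, mul_assoc, mul_inv_cancel, mul_one]
        exact hr
      · intro hr
        have h1 := K_comm hd hz ((K M z).inv_mem hk) (hR'.le hr)
        have e : r = k⁻¹ * (k * r * k⁻¹) * k := by group
        rw [h1, mul_assoc, inv_mul_cancel, mul_one] at e
        rw [e]; exact hr
    · rw [card_K hd hz]
      apply card_le_of_disj hd inf_le_left
      intro u hu hun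
      obtain ⟨r, hr, hr1⟩ : ∃ r : L, r ∈ R' ∧ r ≠ 1 := by
        by_contra hcon
        push Not at hcon
        exact hR'ne ((Subgroup.eq_bot_iff_forall _).mpr hcon)
      by_contra hu1
      apply hr1
      have hrK := hR'.le hr
      apply K_cent hd hz hu hu1 hrK
      -- commutator in `P ∩ R'`
      have hc1 : u * (r * u⁻¹ * r⁻¹) ∈ P :=
        P.mul_mem hu ((Subgroup.mem_normalizer_iff.mp (hd.nor (mem_K.mp hrK).1) _).mp
          (P.inv_mem hu))
      have hc2 : u * r * u⁻¹ * r⁻¹ ∈ R' :=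
        R'.mul_mem ((Subgroup.mem_normalizer_iff.mp (Subgroup.mem_inf.mp hun).2 _).mp hr)
          (R'.inv_mem hr)
      have e : u * (r * u⁻¹ * r⁻¹) = u * r * u⁻¹ * r⁻¹ := by group
      rw [e] at hc1
      have h1 := K_disj hd hz hc1 (hR'.le hc2)
      have h2 : u * r = r * u := by
        have := congrArg (fun x => x * r * u) h1
        simp only [one_mul] at this
        rw [← this]; group
      exact h2.symm
  -- `K (g y) = K z`
  have hgy : g • y ≠ x0 M := by
    intro h
    apply hy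
    rw [← smul_x0 (M := M)] at hg
    rw [← hg] at h
    exact smul_left_cancel g h
  have hKg : ∀ k ∈ K M z, k • (g • y) = g • y := by
    have hle : cj g (K M y) ≤ K M z := by
      rw [← hN]
      apply le_inf
      · have : cj g (K M y) ≤ cj g M := by rw [cj_le_cj]; exact inf_le_left
        rwa [cj_eq_self_of_mem hg] at this
      · rw [hgR]
        rw [← cj_normalizer, cj_le_cj]
        intro k hk
        rw [Subgroup.mem_normalizer_iff]
        intro r
        constructor
        · intro hr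
          have := K_comm hd hy hk (hR.le hr)
          rw [this, mul_assoc, mul_inv_cancel, mul_one]
          exact hr
        · intro hr
          have h1 := K_comm hd hy ((K M y).inv_mem hk) (hR.le hr)
          have e : r = k⁻¹ * (k * r * k⁻¹) * k := by group
          rw [h1, mul_assoc, inv_mul_cancel, mul_one] at e
          rw [e]; exact hr
    have heq : cj g (K M y) = K M z := by
      apply Subgroup.eq_of_le_of_card_ge hle
      rw [card_cj, card_K hd hy, card_K hd hz]
    intro k hk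
    rw [← heq, mem_cj] at hk
    have := (mem_K.mp hk).2
    rw [mul_smul, mul_smul, inv_smul_eq_iff] at this
    exact this
  by_contra hne
  exact fix_two hd hz hgy hne hKg

/-- the number of points -/
theorem card_points (hd : Dat P M m) : Nat.card (L ⧸ M) = 1 + Nat.card P := by
  classical
  -- there is a point different from the base point
  obtain ⟨a, ha⟩ : ∃ a : L, a ∉ M := by
    by_contra hcon
    push Not at hcon
    exact hd.emb.1 (eq_top_iff.mpr fun a _ => hcon a)
  set y : L ⧸ M := QuotientGroup.mk a with hy0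
  have hy : y ≠ x0 M := by
    intro h
    rw [hy0, x0, eq_comm, QuotientGroup.eq] at h
    apply ha
    simpa using h
  have hK : (K M y).relIndex M = Nat.card P := by
    have h1 : (K M y).relIndex M * Nat.card (K M y) = Nat.card M := relIndex_mul_card inf_le_left
    rw [card_K hd hy, hd.cardM] at h1
    exact Nat.eq_of_mul_eq_mul_right (lt_trans one_pos hd.one) h1
  have hst : (MulAction.stabilizer M y) = (K M y).subgroupOf M := by
    ext g
    rw [Subgroup.mem_subgroupOf, mem_K, MulAction.mem_stabilizer_iff]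
    exact ⟨fun h => ⟨g.2, h⟩, fun h => h.2⟩
  have horb : MulAction.orbit M y = {z | z ≠ x0 M} := by
    ext z
    constructor
    · rintro ⟨g, rfl⟩
      intro h
      apply hy
      have hg : (g : L) • x0 M = x0 M := smul_x0.mpr g.2
      change (g : L) • y = x0 M at h
      rw [← hg] at h
      exact smul_left_cancel (g : L) h
    · intro hz
      obtain ⟨g, hg, hgy⟩ := transitive hd hy hz
      exact ⟨⟨g, hg⟩, hgy⟩
  have h2 : Nat.card (MulAction.orbit M y) = Nat.card P := by
    rw [← hK, Subgroup.relIndex, ← hst]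
    exact (MulAction.index_stabilizer M y).symm ▸ (Nat.card_coe_set_eq _)
  rw [horb] at h2
  have : Fintype (L ⧸ M) := Fintype.ofFinite _
  have h3 : Nat.card (L ⧸ M) = Nat.card {z : L ⧸ M | z ≠ x0 M} + 1 := by
    rw [Nat.card_coe_set_eq]
    have : {z : L ⧸ M | z ≠ x0 M} = {x0 M}ᶜ := by ext; simp
    rw [this, Set.ncard_compl, Set.ncard_singleton]
    have : 0 < Nat.card (L ⧸ M) := Nat.card_pos
    omega
  rw [h3, h2, add_comm]

/-- `P` is transitive on the points different from the base point -/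
theorem P_transitive (hd : Dat P M m) {y z : L ⧸ M} (hy : y ≠ x0 M) (hz : z ≠ x0 M) :
    ∃ u ∈ P, u • y = z := by
  classical
  have hgt : ∀ u ∈ P, u • y ≠ x0 M := by
    intro u hu h
    apply hy
    have hg : u • x0 M = x0 M := smul_x0.mpr (hd.le hu)
    rw [← hg] at h
    exact smul_left_cancel u h
  let f : P → {z : L ⧸ M // z ≠ x0 M} := fun u => ⟨(u : L) • y, hgt u u.2⟩
  have hf : Function.Injective f := by
    intro a b h
    have h1 := congrArg Subtype.val h
    simp only [f] at h1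
    have h2 : ((b : L)⁻¹ * (a : L)) • y = y := by
      rw [mul_smul, h1, inv_smul_smul]
    have h3 : ((b : L)⁻¹ * (a : L)) ∈ P := P.mul_mem (P.inv_mem b.2) a.2
    have h4 := K_disj hd hy h3 (mem_K.mpr ⟨hd.le h3, h2⟩)
    apply Subtype.ext
    exact (inv_mul_eq_one.mp h4).symm
  have hcard : Nat.card {z : L ⧸ M // z ≠ x0 M} = Nat.card P := by
    have h1 := card_points hd
    have : Fintype (L ⧸ M) := Fintype.ofFinite _
    have h3 : Nat.card (L ⧸ M) = Nat.card {z : L ⧸ M | z ≠ x0 M} + 1 := by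
      rw [Nat.card_coe_set_eq]
      have : {z : L ⧸ M | z ≠ x0 M} = {x0 M}ᶜ := by ext; simp
      rw [this, Set.ncard_compl, Set.ncard_singleton]
      have : 0 < Nat.card (L ⧸ M) := Nat.card_pos
      omega
    have h4 : Nat.card {z : L ⧸ M // z ≠ x0 M} = Nat.card {z : L ⧸ M | z ≠ x0 M} := rfl
    omega
  have hbij : Function.Bijective f := by
    rw [Nat.bijective_iff_injective_and_card]
    exact ⟨hf, hcard.symm⟩
  obtain ⟨u, hu⟩ := hbij.2 ⟨z, hz⟩
  exact ⟨u, u.2, congrArg Subtype.val hu⟩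

/-- three-point stabilisers are trivial -/
theorem fix_three (hd : Dat P M m) {k : L} (hk : k ∈ M) {y z : L ⧸ M} (hy : y ≠ x0 M)
    (hz : z ≠ x0 M) (hyz : y ≠ z) (hky : k • y = y) (hkz : k • z = z) : k = 1 := by
  obtain ⟨u, hu, huz⟩ := P_transitive hd hy hz
  have hu1 : u ≠ 1 := by
    rintro rfl
    apply hyz
    rw [← huz, one_smul]
  have hkK : k ∈ K M y := mem_K.mpr ⟨hk, hky⟩
  apply K_cent hd hy hu hu1 hkK
  have h1 : u⁻¹ * (k * u * k⁻¹) ∈ P :=
    P.mul_mem (P.inv_mem hu) ((Subgroup.mem_normalizer_iff.mp (hd.nor hk) _).mp hu)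
  have h2 : (u⁻¹ * (k * u * k⁻¹)) • y = y := by
    have hk' : k⁻¹ • y = y := by rw [inv_smul_eq_iff, hky]
    rw [mul_smul, mul_smul, mul_smul, hk', huz, hkz, ← huz, inv_smul_smul]
  have h3 := K_disj hd hy h1 (mem_K.mpr ⟨hd.le h1, h2⟩)
  have := congrArg (fun x => u * x * k) h3
  simp only [mul_one] at this
  rw [← this]; group

end H74.ZDat
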