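import Mathlib
import Cfsg.Agent.Lib.H74.ZDat
import Cfsg.Agent.Lib.H8.SzRec11
import Cfsg.Agent.S0338

/-!
A strongly embedded Frobenius group: the ambient group is a Zassenhaus group of odd degree, hence
`PSL₂(2 ^ n)` or a Suzuki group.
-/
set_option autoImplicit false
set_option linter.style.haveILetI false

namespace H74.ZDat

open Subgroup H28.Cj H28.RelSyl H25.Isolated H25.StrEmb

universe u

variable {L : Type u} [Group L] [Finite L] {P M : Subgroup L} {m : ℕ}

theorem Dat.exists_notMem (hd : Dat P M m) : ∃ a : L, a ∉ M := by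
  by_contra hcon
  push Not at hcon
  exact hd.emb.1 (eq_top_iff.mpr fun a _ => hcon a)

theorem Dat.exists_ne (hd : Dat P M m) : ∃ y : L ⧸ M, y ≠ x0 M := by
  obtain ⟨a, ha⟩ := hd.exists_notMem
  refine ⟨QuotientGroup.mk a, fun h => ha ?_⟩
  rw [x0, eq_comm, QuotientGroup.eq] at h
  simpa using h

theorem Dat.two_le (hd : Dat P M m) : 2 ≤ Nat.card P :=
  Nat.le_of_dvd Nat.card_pos hd.even

theorem Dat.inv_mem_P (hd : Dat P M m) {t : L} (ht : orderOf t = 2) (htM : t ∈ M) : t ∈ P := by
  have h1 := hd.pow_mem htM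
  obtain ⟨r, hr⟩ := hd.odd
  have htt := self_mul_self ht
  have h2 : t ^ m = t := by
    rw [hr, pow_succ, pow_mul, pow_two, htt, one_pow, one_mul]
  rwa [h2] at h1

theorem Dat.three_le (hd : Dat P M m) : 3 ≤ Nat.card P := by
  have h1 : Nat.card (Option {t : L // orderOf t = 2 ∧ t ∈ M}) ≤ Nat.card P := by
    refine Nat.card_le_card_of_injective (fun o => match o with
      | none => (1 : P)
      | some t => ⟨t.1, hd.inv_mem_P t.2.1 t.2.2⟩) ?_
    rintro (_ | a) (_ | b) h
    · rfl
    · exfalso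
      have h2 := congrArg Subtype.val h
      have h3 := b.2.1
      simp only [OneMemClass.coe_one] at h2
      rw [← h2, orderOf_one] at h3
      omega
    · exfalso
      have h2 := congrArg Subtype.val h
      have h3 := a.2.1
      simp only [OneMemClass.coe_one] at h2
      rw [h2, orderOf_one] at h3
      omega
    · have h2 := congrArg Subtype.val h
      exact congrArg some (Subtype.ext h2)
  rw [Finite.card_option, hd.inv] at h1
  have := hd.one
  omega

theorem Dat.exists_P (hd : Dat P M m) : ∃ u ∈ P, u ≠ 1 := by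
  by_contra hcon
  push Not at hcon
  have h1 : P = ⊥ := (Subgroup.eq_bot_iff_forall _).mpr hcon
  have := hd.two_le
  rw [h1, Subgroup.card_bot] at this
  omega

/-- an element fixing every point is trivial -/
theorem Dat.faithful (hd : Dat P M m) {g : L} (hg : ∀ x : L ⧸ M, g • x = x) : g = 1 := by
  obtain ⟨y, hy⟩ := hd.exists_ne
  obtain ⟨u, hu, hu1⟩ := hd.exists_P
  have hgM : g ∈ M := smul_x0.mp (hg _)
  refine fix_three hd hgM hy (z := u • y) ?_ ?_ (hg y) (hg _)
  · intro h
    apply hy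
    have h2 : u • x0 M = x0 M := smul_x0.mpr (hd.le hu)
    rw [← h2] at h
    exact smul_left_cancel u h
  · intro h
    exact hu1 (K_disj hd hy hu (mem_K.mpr ⟨hd.le hu, h.symm⟩))

theorem zassenhaus (hd : Dat P M m) : Cfsg.IsZassenhausGroup L (L ⧸ M) := by
  obtain ⟨y, hy⟩ := hd.exists_ne
  have htr : ∀ x : L ⧸ M, ∃ g : L, g • x0 M = x := by
    intro x
    obtain ⟨g, hg⟩ := MulAction.exists_smul_eq L (x0 M) x
    exact ⟨g, hg⟩
  refine ⟨?_, ?_, ?_, ?_, ?_⟩
  · refine ⟨fun {g h} hgh => ?_⟩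
    have := hd.faithful (g := g⁻¹ * h) (fun x => by rw [mul_smul, ← hgh x, inv_smul_smul])
    exact inv_mul_eq_one.mp this
  · rw [MulAction.is_two_pretransitive_iff]
    intro x y z w hxy hzw
    obtain ⟨g, hg⟩ := htr x
    obtain ⟨h, hh⟩ := htr z
    have h1 : g⁻¹ • y ≠ x0 M := by
      intro h; apply hxy; rw [← hg, ← h, smul_inv_smul]
    have h2 : h⁻¹ • w ≠ x0 M := by
      intro h'; apply hzw; rw [← hh, ← h', smul_inv_smul]
    obtain ⟨k, hk, hky⟩ := transitive hd h1 h2
    refine ⟨h * k * g⁻¹, ?_, ?_⟩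
    · rw [mul_smul, mul_smul, ← hg, inv_smul_smul, smul_x0.mpr hk, hh]
    · rw [mul_smul, mul_smul, hky, smul_inv_smul]
  · intro g x y z hxy hyz hxz hx hy' hz
    obtain ⟨h, hh⟩ := htr x
    have e : ∀ w : L ⧸ M, g • w = w → (h⁻¹ * g * h) • (h⁻¹ • w) = h⁻¹ • w := by
      intro w hw
      rw [mul_smul, mul_smul, smul_inv_smul, hw]
    have h1 : h⁻¹ * g * h ∈ M := by
      rw [← smul_x0]
      have := e x hx
      rwa [← hh, inv_smul_smul] at this
    have h2 : h⁻¹ • y ≠ x0 M := by
      intro h'; apply hxy; rw [← hh, ← h', smul_inv_smul]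
    have h3 : h⁻¹ • z ≠ x0 M := by
      intro h'; apply hxz; rw [← hh, ← h', smul_inv_smul]
    have h4 := fix_three hd h1 h2 h3 (fun h' => hyz (smul_left_cancel _ h')) (e y hy') (e z hz)
    have := congrArg (fun x => h * x * h⁻¹) h4
    simpa [mul_assoc] using this
  · have h1 := card_K hd hy
    have h2 : 1 < Nat.card (K M y) := by rw [h1]; exact hd.one
    obtain ⟨k, hk⟩ := (Subgroup.one_lt_card_iff_ne_bot _).mp h2 |>
      Subgroup.ne_bot_iff_exists_ne_one.mp
    refine ⟨k, fun h => hk (Subtype.ext h), x0 M, y, hy.symm, ?_, ?_⟩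
    · exact smul_x0.mpr (mem_K.mp k.2).1
    · exact (mem_K.mp k.2).2
  · intro N hN htrN
    refine ⟨x0 M, ?_⟩
    intro hbot
    have hfixN : ∀ n ∈ N, n • x0 M = x0 M → n = 1 := by
      intro n hn h
      have h1 : (⟨n, hn⟩ : N) ∈ (⊥ : Subgroup N) := by rw [← hbot]; exact h
      rw [Subgroup.mem_bot] at h1
      exact congrArg Subtype.val h1
    -- `|N| = 1 + |P|` is odd
    have hcN : Nat.card N = 1 + Nat.card P := by
      rw [← card_points hd]
      apply Nat.card_congr
      refine Equiv.ofBijective (fun n : N => (n : L) • x0 M) ⟨?_, ?_⟩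
      · intro a b h
        simp only at h
        have h1 : ((b : L)⁻¹ * (a : L)) • x0 M = x0 M := by
          rw [mul_smul, h, inv_smul_smul]
        have h2 := hfixN _ (N.mul_mem (N.inv_mem b.2) a.2) h1
        exact Subtype.ext (inv_mul_eq_one.mp h2).symm
      · intro x
        obtain ⟨n, hn⟩ := htrN.exists_smul_eq (x0 M) x
        exact ⟨n, hn⟩
    have hodd : Odd (Nat.card N) := by
      rw [hcN]
      obtain ⟨k, hk⟩ := hd.even
      exact ⟨k, by omega⟩
    -- an involution of `P` inverts `N`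
    have hinv : ∀ t ∈ P, orderOf t = 2 → ∀ n ∈ N, t * n * t⁻¹ = n⁻¹ := by
      intro t ht ht2
      have ht1 : t ≠ 1 := by
        intro h; rw [h, orderOf_one] at ht2; omega
      have htt := self_mul_self ht2
      have hti : t⁻¹ = t := inv_eq_self_of_sq htt
      -- the map n ↦ n⁻¹ (t n t⁻¹) is injective on N
      let f : N → N := fun n => ⟨(n : L)⁻¹ * (t * n * t⁻¹),
        N.mul_mem (N.inv_mem n.2) (hN.conj_mem _ n.2 t)⟩
      have hf : Function.Injective f := by
        intro a b h
        have h1 := congrArg Subtype.val h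
        simp only [f] at h1
        -- `b a⁻¹` commutes with `t`
        have h2 : ((b : L) * (a : L)⁻¹) * t = t * ((b : L) * (a : L)⁻¹) := by
          have h3 : (b : L) * ((a : L)⁻¹ * (t * a * t⁻¹)) = t * b * t⁻¹ := by
            rw [h1]; group
          calc ((b : L) * (a : L)⁻¹) * t
              = (b : L) * ((a : L)⁻¹ * (t * a * t⁻¹)) * t * (a : L)⁻¹ := by group
            _ = t * b * t⁻¹ * t * (a : L)⁻¹ := by rw [h3]
            _ = _ := by group
        have h3 : (b : L) * (a : L)⁻¹ ∈ P := hd.cent t ht ht1 _ h2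
        have h4 := hfixN _ (N.mul_mem b.2 (N.inv_mem a.2)) (smul_x0.mpr (hd.le h3))
        exact Subtype.ext (mul_inv_eq_one.mp h4).symm
      have hsurj : Function.Surjective f := Finite.surjective_of_injective hf
      intro n hn
      obtain ⟨a, ha⟩ := hsurj ⟨n, hn⟩
      have h1 : (a : L)⁻¹ * (t * a * t⁻¹) = n := congrArg Subtype.val ha
      rw [← h1, hti]
      calc t * ((a : L)⁻¹ * (t * a * t)) * t = t * (a : L)⁻¹ * t * a * (t * t) := by group
        _ = t * (a : L)⁻¹ * t * a := by rw [htt, mul_one]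
        _ = t⁻¹ * (a : L)⁻¹ * t⁻¹ * a := by rw [hti]
        _ = ((a : L)⁻¹ * (t * a * t))⁻¹ := by group
    -- two different involutions
    have hm : 1 < Nat.card {t : L // orderOf t = 2 ∧ t ∈ M} := by rw [hd.inv]; exact hd.one
    haveI hnt : Nontrivial {t : L // orderOf t = 2 ∧ t ∈ M} := Finite.one_lt_card_iff_nontrivial.mp hm
    obtain ⟨s, t, hst⟩ := hnt.exists_pair_ne
    have hP : ∀ t : L, orderOf t = 2 → t ∈ M → t ∈ P := fun t => hd.inv_mem_P
    have hs := hinv s.1 (hP s.1 s.2.1 s.2.2) s.2.1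
    have ht := hinv t.1 (hP t.1 t.2.1 t.2.2) t.2.1
    have hss := self_mul_self s.2.1
    have hsi : (s : L)⁻¹ = s := inv_eq_self_of_sq hss
    have h1 : (s : L) * t = 1 := by
      apply hd.faithful
      intro x
      obtain ⟨n, hn⟩ := htrN.exists_smul_eq (x0 M) x
      have h2 : (s : L) * t * n = n * (s * t) := by
        have h3 : (s : L) * (t * n * (t : L)⁻¹) * (s : L)⁻¹ = n := by
          rw [ht n n.2, hs _ (N.inv_mem n.2), inv_inv]
        calc (s : L) * t * n = (s : L) * (t * n * (t : L)⁻¹) * (s : L)⁻¹ * (s * t) := by group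
          _ = n * (s * t) := by rw [h3]
      rw [← hn]
      change ((s : L) * t) • (n : L) • x0 M = (n : L) • x0 M
      rw [← mul_smul, h2, mul_smul]
      congr 1
      exact smul_x0.mpr (M.mul_mem s.2.2 t.2.2)
    apply hst
    apply Subtype.ext
    rw [← hsi, eq_comm]
    exact eq_inv_of_mul_eq_one_right h1

theorem simple (hd : Dat P M m) : IsSimpleGroup L := by
  letI : Fintype (L ⧸ M) := Fintype.ofFinite _
  apply Cfsg.Agent.S0338.result (zassenhaus hd)
  rw [← Nat.card_eq_fintype_card, card_points hd]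
  obtain ⟨k, hk⟩ := hd.even
  exact ⟨k, by omega⟩

/-- the classification of groups with a strongly embedded Frobenius subgroup whose kernel is a TI
subgroup containing the centralisers of its nontrivial elements -/
theorem main (hd : Dat P M m) :
    (∃ (F : Type) (_ : Field F) (_ : Fintype F) (n : ℕ), 2 ≤ n ∧ Fintype.card F = 2 ^ n ∧
      Nat.card P = Fintype.card F ∧ Nonempty (L ≃* Matrix.ProjectiveSpecialLinearGroup (Fin 2) F)) ∨
    (Cfsg.Lie.IsoSuzuki L ∧ ∃ (F : Type) (_ : Field F) (_ : Fintype F) (m : ℕ), 1 ≤ m ∧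
      Fintype.card F = 2 ^ (2 * m + 1) ∧ Nat.card P = Fintype.card F ^ 2 ∧
      Nonempty (L ≃* Cfsg.Sz F m)) := by
  haveI := simple hd
  haveI : Fact (Nat.Prime 2) := ⟨Nat.prime_two⟩
  have hna : ∃ a b : L, a * b ≠ b * a := by
    by_contra hcon
    push Not at hcon
    obtain ⟨u, hu, hu1⟩ := hd.exists_P
    obtain ⟨a, ha⟩ := hd.exists_notMem
    exact ha (hd.le (hd.cent u hu hu1 a (hcon a u)))
  have hpts := card_points hd
  rcases H8.SzRec.classify (zassenhaus hd) with ⟨F, _, _, hF, ⟨e⟩⟩ | ⟨h1, F, _, _, k, hk, hF, hΩ, he⟩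
  · left
    have hcP : Nat.card P = Fintype.card F := by omega
    have h2 : 2 ∣ Fintype.card F := by rw [← hcP]; exact hd.even
    obtain ⟨p, hp, n, hpp, hn⟩ := FiniteField.card' F
    have h3 : p = 2 := by
      rw [hn] at h2
      exact ((Nat.prime_dvd_prime_iff_eq Nat.prime_two hpp).mp
        (Nat.prime_two.dvd_of_dvd_pow h2)).symm
    subst h3
    refine ⟨F, inferInstance, inferInstance, n, ?_, hn, hcP, ⟨e⟩⟩
    have h4 := hd.three_le
    rw [hcP, hn] at h4
    by_contra hlt
    push Not at hlt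
    have : (2 : ℕ) ^ (n : ℕ) ≤ 2 ^ 1 := Nat.pow_le_pow_right (by norm_num) (by omega)
    omega
  · right
    exact ⟨h1, F, inferInstance, inferInstance, k, hk, hF, by omega, he⟩

end H74.ZDat
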