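import Mathlib
import Cfsg.Agent.Lib.H1.Coprime2

set_option autoImplicit false
set_option linter.unusedSectionVars false

/-! Numbers of Sylow subgroups (M. Hall). -/

namespace H74.SylNum

open Subgroup H1.Coprime2
open scoped Pointwise

variable {G : Type*} [Group G] [Finite G]

/-- coprime action of a `p`-group: the index of the fixed points -/
theorem coprime_index {p : ℕ} [hp : Fact p.Prime] (A K : Subgroup G) (hA : IsPGroup p A)
    (hAK : A ≤ normalizer (K : Set G)) (hK : ¬ p ∣ Nat.card K) (q : ℕ) (hq : q.Prime) :
    q ^ ((K ⊓ centralizer (A : Set G)).relIndex K).factorization q % p = 1 := by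
  classical
  have hqf : Fact q.Prime := ⟨hq⟩
  set C := K ⊓ centralizer (A : Set G) with hC
  have hsol : Group.IsSolvable A := by
    have := hA.isNilpotent
    infer_instance
  have hcop : (Nat.card A).Coprime (Nat.card K) := by
    obtain ⟨k, hk⟩ := IsPGroup.iff_card.1 hA
    rw [hk]
    exact Nat.Coprime.pow_left k ((Nat.Prime.coprime_iff_not_dvd hp.out).2 hK)
  obtain ⟨U, hU⟩ := exists_isSylIn q C
  have hUC : U ≤ C := hU.1
  have hAcU : A ≤ centralizer (U : Set G) := by
    rw [le_centralizer_iff]
    exact hUC.trans inf_le_right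
  obtain ⟨S, hS, hUS, hAS⟩ := exists_invariant_sylow_ge A K hAK hcop (Or.inl hsol) q U (hUC.trans inf_le_left)
    hU.isPGroup (hAcU.trans (centralizer_le_normalizer _))
  -- S ⊓ C = U
  have hSU : S ⊓ centralizer (A : Set G) = U := by
    have h1 : U ≤ S ⊓ centralizer (A : Set G) := le_inf hUS (hUC.trans inf_le_right)
    have h2 : S ⊓ centralizer (A : Set G) ≤ C := inf_le_inf_right _ hS.1
    have h3 : IsPGroup q (S ⊓ centralizer (A : Set G) : Subgroup G) := hS.isPGroup.to_le inf_le_left
    symm
    apply Subgroup.eq_of_le_of_card_ge h1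
    obtain ⟨k, hk⟩ := IsPGroup.iff_card.1 h3
    rw [hk, hU.2]
    apply Nat.pow_le_pow_right hq.pos
    have h4 : q ^ k ∣ Nat.card C := by
      rw [← hk]; exact Subgroup.card_dvd_of_le h2
    exact (hq.pow_dvd_iff_le_factorization Nat.card_pos.ne').1 h4
  -- fixed points
  have hmod : Nat.card S ≡ Nat.card U [MOD p] := by
    let act : MulAction A S :=
      { smul := fun a s => ⟨a * s * (a : G)⁻¹, (mem_normalizer_iff.1 (hAS a.2) s).1 s.2⟩
        one_smul := by
          intro s
          apply Subtype.ext
          change ((1 : A) : G) * s * ((1 : A) : G)⁻¹ = s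
          simp
        mul_smul := by
          intro a b s
          apply Subtype.ext
          change ((a * b : A) : G) * s * ((a * b : A) : G)⁻¹ = a * (b * s * (b : G)⁻¹) * (a : G)⁻¹
          rw [Subgroup.coe_mul]; group }
    have h1 := hA.card_modEq_card_fixedPoints (α := S)
    have h2 : Nat.card (MulAction.fixedPoints A S) = Nat.card U := by
      rw [← hSU]
      apply Nat.card_congr
      exact
        { toFun := fun s => ⟨s.1.1, s.1.2, by
            refine mem_centralizer_iff.2 fun a ha => ?_
            have h3 : (⟨a, ha⟩ : A) • s.1 = s.1 := s.2 ⟨a, ha⟩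
            have h4 : a * s.1.1 * a⁻¹ = s.1.1 := congrArg Subtype.val h3
            rwa [mul_inv_eq_iff_eq_mul] at h4⟩
          invFun := fun s => ⟨⟨s.1, s.2.1⟩, by
            intro a
            apply Subtype.ext
            change (a : G) * s.1 * (a : G)⁻¹ = s.1
            rw [mul_inv_eq_iff_eq_mul]
            exact mem_centralizer_iff.1 s.2.2 a a.2⟩
          left_inv := fun s => rfl
          right_inv := fun s => rfl }
    rwa [h2] at h1
  have hCK : C.relIndex K * Nat.card C = Nat.card K := by
    rw [mul_comm]
    have := Subgroup.relIndex_mul_relIndex ⊥ C K bot_le inf_le_left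
    rwa [relIndex_bot_left, relIndex_bot_left] at this
  have hCK0 : C.relIndex K ≠ 0 := by
    intro h
    rw [h, zero_mul] at hCK
    exact Nat.card_pos.ne hCK
  have hfac : (C.relIndex K).factorization q + (Nat.card C).factorization q = (Nat.card K).factorization q := by
    rw [← hCK, Nat.factorization_mul hCK0 Nat.card_pos.ne']
    rfl
  have hqp : ¬ p ∣ q ^ (Nat.card C).factorization q := by
    intro h
    apply hK
    have h1 : q ^ (Nat.card C).factorization q ∣ Nat.card C := Nat.ordProj_dvd _ _
    exact (h.trans h1).trans (Subgroup.card_dvd_of_le inf_le_left)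
  rw [hS.2, hU.2, ← hfac, pow_add] at hmod
  have h1 : q ^ (C.relIndex K).factorization q ≡ 1 [MOD p] := by
    apply Nat.ModEq.cancel_right_of_coprime (c := q ^ (Nat.card C).factorization q)
    · exact (Nat.Prime.coprime_iff_not_dvd hp.out).2 hqp
    · rw [one_mul]; exact hmod
  have h2 : q ^ (C.relIndex K).factorization q % p = 1 % p := h1
  rw [h2, Nat.one_mod_eq_one.2 hp.out.one_lt.ne']

theorem relIndex_card (H K : Subgroup G) (h : H ≤ K) : H.relIndex K * Nat.card H = Nat.card K := by
  rw [mul_comm]
  have := Subgroup.relIndex_mul_relIndex ⊥ H K bot_le h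
  rwa [relIndex_bot_left, relIndex_bot_left] at this

theorem relIndex_sup' (H N : Subgroup G) [N.Normal] : H.relIndex (H ⊔ N) = H.relIndex N := by
  have h1 := relIndex_card H (H ⊔ N) le_sup_left
  have h2 := relIndex_card N (H ⊔ N) le_sup_right
  rw [Subgroup.relIndex_sup_right] at h2
  have h3 := relIndex_card (H ⊓ N) N inf_le_right
  rw [Subgroup.inf_relIndex_right] at h3
  have h4 := relIndex_card (H ⊓ N) H inf_le_left
  rw [Subgroup.inf_relIndex_left] at h4
  have h5 : 0 < Nat.card H := Nat.card_pos
  apply Nat.eq_of_mul_eq_mul_right h5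
  rw [h1, ← h2, ← h4, ← h3]
  ring

/-- the count through a normal subgroup, first step -/
theorem card_step_one {p : ℕ} [hp : Fact p.Prime] (N : Subgroup G) [hN : N.Normal] (P : Sylow p G) :
    Nat.card (Sylow p G) = Nat.card (Sylow p (G ⧸ N)) * (normalizer (P : Set G)).relIndex N := by
  classical
  let f := QuotientGroup.mk' N
  have hf : Function.Surjective f := QuotientGroup.mk'_surjective N
  have h1 : Nat.card (Sylow p (G ⧸ N)) = (N ⊔ normalizer (P : Set G)).index := by
    rw [(P.mapSurjective hf).card_eq_index_normalizer, ← Subgroup.index_comap_of_surjective _ hf]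
    congr 1
    have h2 : (normalizer ((P.mapSurjective hf : Sylow p (G ⧸ N)) : Set (G ⧸ N))).comap f =
        normalizer (((P : Subgroup G) ⊔ N : Subgroup G) : Set G) := by
      have h3 := comap_normalizer_eq_of_surjective ((P : Subgroup G).map f) hf
      have h4 : ((P : Subgroup G).map f).comap f = (P : Subgroup G) ⊔ N := by
        rw [Subgroup.comap_map_eq, QuotientGroup.ker_mk']
      rw [h4] at h3
      exact h3
    rw [h2]
    apply le_antisymm
    · intro g hg
      have hPK : IsSylIn p ((P : Subgroup G) ⊔ N) (P : Subgroup G) := by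
        refine ⟨le_sup_left, ?_⟩
        have h5 := (P.subtype (le_sup_left : (P : Subgroup G) ≤ (P : Subgroup G) ⊔ N)).card_eq_multiplicity
        rw [← h5]
        exact (H1.SZ.card_subgroupOf_of_le le_sup_left).symm
      obtain ⟨k, hk, hk2⟩ := (hPK.smul hg).conj hPK
      have hkg : k * g ∈ normalizer ((P : Subgroup G) : Set G) := by
        have h6 : MulAut.conj (k * g) • (P : Subgroup G) = P := by
          rw [map_mul, mul_smul, hk2]
        rw [mem_normalizer_iff]
        intro x
        have h7 : x ∈ (P : Subgroup G) ↔ MulAut.conj (k * g) • x ∈ MulAut.conj (k * g) • (P : Subgroup G) :=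
          (Subgroup.smul_mem_pointwise_smul_iff).symm
        rw [h6] at h7
        exact h7
      have hk3 : k ∈ N ⊔ normalizer (P : Set G) := by
        have : (P : Subgroup G) ⊔ N ≤ N ⊔ normalizer (P : Set G) := by
          rw [sup_comm]
          exact sup_le_sup_left le_normalizer _
        exact this hk
      have h8 : g = k⁻¹ * (k * g) := by group
      rw [h8]
      exact mul_mem (inv_mem hk3) (mem_sup_right hkg)
    · rw [sup_le_iff]
      constructor
      · exact (le_sup_right : N ≤ (P : Subgroup G) ⊔ N).trans le_normalizer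
      · intro g hg
        rw [mem_normalizer_iff]
        intro x
        have h5 : MulAut.conj g • ((P : Subgroup G) ⊔ N) = (P : Subgroup G) ⊔ N := by
          rw [Subgroup.smul_sup]
          congr 1
          · exact H1.SZ.conj_smul_eq_of_mem_normalizer hg
          · exact Subgroup.Normal.conj_smul_eq_self _ _
        have h7 : x ∈ (P : Subgroup G) ⊔ N ↔ MulAut.conj g • x ∈ MulAut.conj g • ((P : Subgroup G) ⊔ N) :=
          (Subgroup.smul_mem_pointwise_smul_iff).symm
        rw [h5] at h7
        exact h7
  rw [h1, P.card_eq_index_normalizer]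
  have h2 : (normalizer (P : Set G)).relIndex N = (normalizer (P : Set G)).relIndex (N ⊔ normalizer (P : Set G)) := by
    rw [sup_comm]
    exact (relIndex_sup' _ _).symm
  rw [h2, mul_comm]
  exact (Subgroup.relIndex_mul_index le_sup_right).symm

end H74.SylNum
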