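import Cfsg.Agent.Lib.H74.K1Frat
import Cfsg.Agent.Lib.H4.CA0

set_option autoImplicit false
set_option linter.unusedSectionVars false
set_option linter.unusedVariables false
set_option linter.style.haveILetI false

/-!
# S4369, piece K1: `G` is perfect
-/

namespace H74.K1

open Subgroup H4.CA
open scoped Pointwise

universe u

theorem comm_of_coprime {G : Type*} [Group G] {c s : G} (hz : c * s * c⁻¹ * s⁻¹ ∈ center G)
    (hc : Odd (orderOf c)) {k : ℕ} (hs : s ^ 2 ^ k = 1) : Commute c s := by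
  set z := c * s * c⁻¹ * s⁻¹ with hzdef
  have hzc : ∀ g, g * z = z * g := fun g => mem_center_iff.1 hz g
  have h1 : c * s * c⁻¹ = z * s := by rw [hzdef]; group
  have h2 : z ^ 2 ^ k = 1 := by
    have h3 : (c * s * c⁻¹) ^ 2 ^ k = 1 := by rw [conj_pow, hs]; group
    have hcomm : Commute z s := (hzc s).symm
    rw [h1, hcomm.mul_pow, hs, mul_one] at h3
    exact h3
  have h4 : ∀ n : ℕ, c ^ n * s * (c ^ n)⁻¹ = z ^ n * s := by
    intro n
    induction n with
    | zero => simp
    | succ n ih =>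
      have h5 : Commute c (z ^ n) := Commute.pow_right (hzc c) n
      calc c ^ (n + 1) * s * (c ^ (n + 1))⁻¹ = c * (c ^ n * s * (c ^ n)⁻¹) * c⁻¹ := by
            rw [pow_succ']; group
        _ = c * (z ^ n * s) * c⁻¹ := by rw [ih]
        _ = (c * z ^ n) * s * c⁻¹ := by group
        _ = (z ^ n * c) * s * c⁻¹ := by rw [h5.eq]
        _ = z ^ n * (c * s * c⁻¹) := by group
        _ = z ^ n * (z * s) := by rw [h1]
        _ = z ^ (n + 1) * s := by rw [pow_succ]; group
  have h5 : z ^ orderOf c = 1 := by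
    have h6 := h4 (orderOf c)
    rw [pow_orderOf_eq_one] at h6
    have h7 : s = z ^ orderOf c * s := by
      rw [← h6]; group
    have h8 : z ^ orderOf c * s = 1 * s := by rw [one_mul]; exact h7.symm
    exact mul_right_cancel h8
  have h6 : z = 1 := by
    have h7 : orderOf z ∣ 2 ^ k := orderOf_dvd_of_pow_eq_one h2
    have h8 : orderOf z ∣ orderOf c := orderOf_dvd_of_pow_eq_one h5
    have h9 : Nat.Coprime (2 ^ k) (orderOf c) := Nat.Coprime.pow_left _ (Nat.coprime_two_left.2 hc)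
    exact orderOf_eq_one_iff.1 (Nat.Coprime.eq_one_of_dvd (h9.coprime_dvd_left h7) h8)
  rw [h6, one_mul] at h1
  show c * s = s * c
  calc c * s = (c * s * c⁻¹) * c := by group
    _ = s * c := by rw [h1]

/-- decomposition of an element in its `2`-part and its odd part -/
theorem exists_parts {G : Type*} [Group G] [Finite G] (x : G) :
    ∃ (i j : ℤ) (k : ℕ), x = x ^ i * x ^ j ∧ Odd (orderOf (x ^ i)) ∧ (x ^ j) ^ 2 ^ k = 1 := by
  obtain ⟨k, hk⟩ := exists_pow_odd x
  set o := orderOf (x ^ 2 ^ k) with ho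
  have hco : Nat.Coprime (2 ^ k) o := Nat.Coprime.pow_left _ (Nat.coprime_two_left.2 hk)
  refine ⟨(2 ^ k : ℕ) * (Nat.gcdA (2 ^ k) o), (o : ℤ) * (Nat.gcdB (2 ^ k) o), k, ?_, ?_, ?_⟩
  · rw [← _root_.zpow_add, ← Nat.gcd_eq_gcd_ab, hco.gcd_eq_one]; simp
  · rw [_root_.zpow_mul, zpow_natCast]
    have h1 : orderOf ((x ^ 2 ^ k) ^ (Nat.gcdA (2 ^ k) o)) ∣ orderOf (x ^ 2 ^ k) := by
      apply orderOf_dvd_of_pow_eq_one
      rw [← zpow_natCast ((x ^ 2 ^ k) ^ (Nat.gcdA (2 ^ k) o)), ← _root_.zpow_mul, mul_comm, _root_.zpow_mul,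
        zpow_natCast, pow_orderOf_eq_one, one_zpow]
    exact hk.of_dvd_nat h1
  · rw [_root_.zpow_mul, zpow_natCast, ← zpow_natCast, ← _root_.zpow_mul, mul_comm, _root_.zpow_mul, zpow_natCast,
      ← pow_mul, mul_comm, pow_mul, ho, pow_orderOf_eq_one, one_zpow]

/-- a bad element of odd order -/
theorem exists_odd_bad {G : Type u} [Group G] [Finite G] (h : Beta2 G) : ∃ x : G, Bad x ∧ Odd (orderOf x) := by
  obtain ⟨x, hx⟩ := h.bad
  obtain ⟨i, j, k, h1, h2, h3⟩ := exists_parts x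
  have h4 : x ^ j ∈ center G := h.b2 x hx (x ^ j) ⟨k, h3⟩ (Commute.zpow_right (Commute.refl x) j)
  refine ⟨x ^ i, ⟨?_, ?_⟩, h2⟩
  · intro h5
    apply hx.1
    rw [h1]; exact (center G).mul_mem h5 h4
  · obtain ⟨a, b, ha, hb, hab⟩ := hx.2
    exact ⟨a, b, Commute.zpow_left ha i, Commute.zpow_left hb i, hab⟩

theorem b4 {G : Type u} [Group G] [Finite G] (h : Beta2 G)
    (hD : ∃ (S : Sylow 2 (G ⧸ center G)) (n : ℕ), 2 ≤ n ∧
      Nonempty ((S : Subgroup (G ⧸ center G)) ≃* DihedralGroup n)) : commutator G = ⊤ := by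
  classical
  haveI : Fact (Nat.Prime 2) := ⟨Nat.prime_two⟩
  obtain ⟨S, n, hn, ⟨e⟩⟩ := hD
  set D0 : Subgroup G := commutator G with hD0
  haveI hD0n : D0.Normal := inferInstance
  by_contra htop
  obtain ⟨x, hx, hxo⟩ := exists_odd_bad h
  have hcomm : ∀ a b : G, a * b * a⁻¹ * b⁻¹ ∈ D0 := by
    intro a b
    have := Subgroup.commutator_mem_commutator (mem_top a) (mem_top b)
    rw [hD0, commutator_def]
    exact this
  -- solvability transfer
  have hns0 : ¬ Group.IsSolvable D0 := by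
    intro hs
    apply h.ns
    refine (Group.isSolvable_iff_subgroup_quotient D0).mpr ⟨hs, ?_⟩
    apply Group.isSolvable_of_comm
    intro a b
    obtain ⟨a, rfl⟩ := QuotientGroup.mk_surjective a
    obtain ⟨b, rfl⟩ := QuotientGroup.mk_surjective b
    rw [← QuotientGroup.mk_mul, ← QuotientGroup.mk_mul, eq_comm, QuotientGroup.eq]
    have h1 := hcomm a⁻¹ b⁻¹
    have h2 : (b * a)⁻¹ * (a * b) = a⁻¹ * b⁻¹ * a⁻¹⁻¹ * b⁻¹⁻¹ := by group
    rw [h2]; exact h1
  have hDZ : ¬ D0 ≤ center G := by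
    intro hle
    apply hns0
    apply Group.isSolvable_of_comm
    rintro ⟨a, ha⟩ ⟨b, hb⟩
    exact Subtype.ext (mem_center_iff.1 (hle hb) a)
  have hcyc := h.cyc D0 hD0n htop hDZ x hx
  -- every element has an odd power in `D0`
  have hoddpow : ∀ g : G, g ^ orderOf x ∈ D0 := by
    intro g
    have hg : g ∈ D0 ⊔ zpowers x := hcyc ▸ mem_top g
    have key : ∀ a b : G, a ^ orderOf x ∈ D0 → b ^ orderOf x ∈ D0 → (a * b) ^ orderOf x ∈ D0 := by
      intro a b ha hb
      rw [← QuotientGroup.eq_one_iff, QuotientGroup.mk_pow] at ha hb ⊢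
      have hab : Commute (QuotientGroup.mk a : G ⧸ D0) (QuotientGroup.mk b) := by
        show _ * _ = _ * _
        rw [← QuotientGroup.mk_mul, ← QuotientGroup.mk_mul, eq_comm, QuotientGroup.eq]
        have h2 : (b * a)⁻¹ * (a * b) = a⁻¹ * b⁻¹ * a⁻¹⁻¹ * b⁻¹⁻¹ := by group
        rw [h2]; exact hcomm _ _
      rw [QuotientGroup.mk_mul, hab.mul_pow, ha, hb, one_mul]
    rw [Subgroup.mem_sup_of_normal_left] at hg
    obtain ⟨d, hd, y, hy, rfl⟩ := hg
    apply key _ _ (D0.pow_mem hd _)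
    obtain ⟨i, rfl⟩ := mem_zpowers_iff.1 hy
    rw [← zpow_natCast, ← _root_.zpow_mul, mul_comm, _root_.zpow_mul, zpow_natCast, pow_orderOf_eq_one, one_zpow]
    exact D0.one_mem
  set π := QuotientGroup.mk' (center G) with hπ
  have hker : ∀ y, π y = 1 ↔ y ∈ center G := fun y => QuotientGroup.eq_one_iff y
  set D : Subgroup (G ⧸ center G) := D0.map π with hDdef
  haveI hDn : D.Normal := hD0n.map π (QuotientGroup.mk'_surjective _)
  have hSD : (S : Subgroup (G ⧸ center G)) ≤ D := by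
    intro s hs
    obtain ⟨k, hk⟩ := IsPGroup.iff_orderOf.1 S.2 ⟨s, hs⟩
    rw [Subgroup.orderOf_mk] at hk
    obtain ⟨g, rfl⟩ := QuotientGroup.mk'_surjective _ s
    have h1 : (π g) ^ orderOf x ∈ D := by
      rw [← map_pow]; exact mem_map_of_mem _ (hoddpow g)
    have hco : Nat.Coprime (orderOf x) (orderOf (π g)) := by
      change orderOf (π g) = 2 ^ k at hk
      rw [hk]
      exact Nat.Coprime.pow_right _ (Nat.coprime_two_right.2 hxo)
    have h2 : π g = ((π g) ^ orderOf x) ^ (Nat.gcdA (orderOf x) (orderOf (π g))) := by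
      have h3 := Nat.gcd_eq_gcd_ab (orderOf x) (orderOf (π g))
      rw [hco.gcd_eq_one] at h3
      have h4 : (π g) ^ ((1 : ℕ) : ℤ) = (π g) ^ ((orderOf x : ℤ) * Nat.gcdA (orderOf x) (orderOf (π g)) +
        (orderOf (π g) : ℤ) * Nat.gcdB (orderOf x) (orderOf (π g))) := by rw [h3]
      rw [_root_.zpow_add, _root_.zpow_mul, _root_.zpow_mul _ (orderOf (π g) : ℤ), zpow_natCast, zpow_natCast,
        zpow_natCast, pow_orderOf_eq_one, one_zpow, mul_one, pow_one] at h4
      exact h4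
    change π g ∈ D
    rw [h2]; exact D.zpow_mem h1 _
  have hnsD : ¬ Group.IsSolvable D := by
    intro hs
    apply hns0
    let f : D0 →* D := (π.subgroupMap D0)
    have hf : Function.Surjective f := π.subgroupMap_surjective D0
    refine (Group.isSolvable_iff_subgroup_quotient f.ker).mpr ⟨?_, ?_⟩
    · apply Group.isSolvable_of_comm
      rintro ⟨a, ha⟩ ⟨b, hb⟩
      apply Subtype.ext
      apply Subtype.ext
      have h1 : (b : G) ∈ center G := by
        rw [← hker]
        exact congrArg Subtype.val (MonoidHom.mem_ker.1 hb)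
      exact mem_center_iff.1 h1 (a : G)
    · exact Group.isSolvable_of_isSolvable_injective (f := QuotientGroup.kerLift f) (QuotientGroup.kerLift_injective f)
  have hCc : ∀ c : G ⧸ center G, (∀ s ∈ (S : Subgroup (G ⧸ center G)), c * s = s * c) → Odd (orderOf c) → c = 1 := by
    intro c hc hco
    obtain ⟨g, rfl⟩ := QuotientGroup.mk'_surjective _ c
    change π g = 1
    change Odd (orderOf (π g)) at hco
    obtain ⟨k, hk⟩ := exists_pow_odd g
    -- a Sylow subgroup of `G` over `S`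
    obtain ⟨T⟩ : Nonempty (Sylow 2 G) := inferInstance
    have hsurj : Function.Surjective π := QuotientGroup.mk'_surjective _
    obtain ⟨y, hy⟩ := MulAction.exists_smul_eq (G ⧸ center G) (T.mapSurjective hsurj) S
    obtain ⟨y, rfl⟩ := QuotientGroup.mk'_surjective _ y
    set T' : Sylow 2 G := y • T with hT'
    have hT'S : ∀ t ∈ (T' : Subgroup G), π t ∈ (S : Subgroup (G ⧸ center G)) := by
      intro t ht
      have h1 : y⁻¹ * t * y ∈ (T : Subgroup G) := by
        have h2 : t ∈ MulAut.conj y • (T : Subgroup G) := ht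
        rw [Subgroup.mem_pointwise_smul_iff_inv_smul_mem] at h2
        have h3 : (MulAut.conj y)⁻¹ • t = y⁻¹ * t * y := by
          rw [← map_inv]; show y⁻¹ * t * y⁻¹⁻¹ = _; rw [inv_inv]
        rwa [h3] at h2
      rw [← hy]
      have h4 : π (y⁻¹ * t * y) ∈ (T.mapSurjective hsurj : Subgroup (G ⧸ center G)) := mem_map_of_mem π h1
      have h5 : π t ∈ MulAut.conj (π y) • (T.mapSurjective hsurj : Subgroup (G ⧸ center G)) := by
        rw [Subgroup.mem_pointwise_smul_iff_inv_smul_mem]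
        have h3 : (MulAut.conj (π y))⁻¹ • (π t) = π (y⁻¹ * t * y) := by
          rw [← map_inv]; show (π y)⁻¹ * π t * (π y)⁻¹⁻¹ = _
          rw [inv_inv, map_mul, map_mul, map_inv]
        rw [h3]; exact h4
      exact h5
    have hcT : ∀ t ∈ (T' : Subgroup G), Commute (g ^ 2 ^ k) t := by
      intro t ht
      obtain ⟨i, hi⟩ := IsPGroup.iff_orderOf.1 T'.2 ⟨t, ht⟩
      rw [Subgroup.orderOf_mk] at hi
      refine comm_of_coprime ?_ hk (k := i) (by rw [← hi]; exact pow_orderOf_eq_one t)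
      rw [← hker]
      have h1 : Commute (π g) (π t) := hc (π t) (hT'S t ht)
      have h2 : Commute ((π g) ^ 2 ^ k) (π t) := h1.pow_left _
      rw [map_mul, map_mul, map_mul, map_inv, map_inv, map_pow, h2.eq]
      group
    have hgc : g ^ 2 ^ k ∈ center G := by
      by_contra hgc
      have h1 := h.b1 (g ^ 2 ^ k) hgc hk (T' : Subgroup G) T'.2 hcT
      obtain ⟨S1, a, ha, b, hb, hab⟩ := h.sna
      obtain ⟨w, hw⟩ := MulAction.exists_smul_eq G S1 T'
      apply hab
      have hm : ∀ a ∈ S1, w * a * w⁻¹ ∈ (T' : Subgroup G) := by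
        intro a ha
        rw [← hw]
        have h2 : w * a * w⁻¹ ∈ MulAut.conj w • (S1 : Subgroup G) := by
          rw [Subgroup.mem_pointwise_smul_iff_inv_smul_mem]
          have h3 : (MulAut.conj w)⁻¹ • (w * a * w⁻¹) = a := by
            rw [← map_inv]; show w⁻¹ * (w * a * w⁻¹) * w⁻¹⁻¹ = _; group
          rw [h3]; exact ha
        exact h2
      have h4 := h1 _ (hm a ha) _ (hm b hb)
      have h5 : (w * a * w⁻¹) * (w * b * w⁻¹) = (w * b * w⁻¹) * (w * a * w⁻¹) := h4
      have h6 : w * (a * b) * w⁻¹ = w * (b * a) * w⁻¹ := by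
        calc w * (a * b) * w⁻¹ = (w * a * w⁻¹) * (w * b * w⁻¹) := by group
          _ = (w * b * w⁻¹) * (w * a * w⁻¹) := h5
          _ = w * (b * a) * w⁻¹ := by group
      exact mul_left_cancel (mul_right_cancel h6)
    -- odd order and `2^k`-th power trivial
    have h7 : (π g) ^ 2 ^ k = 1 := by rw [← map_pow, hker]; exact hgc
    have h8 : orderOf (π g) ∣ 2 ^ k := orderOf_dvd_of_pow_eq_one h7
    have h9 : Nat.Coprime (orderOf (π g)) (2 ^ k) := Nat.Coprime.pow_right _ (Nat.coprime_two_right.2 hco)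
    exact orderOf_eq_one_iff.1 (Nat.Coprime.eq_one_of_dvd h9 h8)
  have hDtop := frat S n hn e hCc D hSD hnsD
  -- conclusion
  have hx' : π x ∈ D := hDtop ▸ mem_top _
  obtain ⟨g, hg, hgx⟩ := hx'
  have h1 : g⁻¹ * x ∈ center G := by
    rw [← hker, map_mul, map_inv, hgx, inv_mul_cancel]
  have hxg : x = g * (g⁻¹ * x) := by group
  refine h.noBad D0 hD0n htop g hg ⟨?_, ?_⟩
  · intro h2
    apply hx.1
    rw [hxg]; exact (center G).mul_mem h2 h1
  · obtain ⟨a, b, ha, hb, hab⟩ := hx.2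
    have h3 : g = x * (g⁻¹ * x)⁻¹ := by group
    have h4 : ∀ a, Commute x a → Commute g a := by
      intro a ha
      rw [h3]
      have h5 : Commute ((g⁻¹ * x)⁻¹) a := by
        have := mem_center_iff.1 ((center G).inv_mem h1) a
        exact this.symm
      exact ha.mul_left h5
    exact ⟨a, b, h4 a ha, h4 b hb, hab⟩

end H74.K1
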