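import Mathlib

set_option autoImplicit false
set_option linter.unusedSectionVars false

/-! Pairings of groups with values in a field; class two groups; linear independence of representatives. -/

namespace H74.Pair

open Subgroup
open scoped commutatorElement

section pairing

variable {X Y K : Type*} [Group X] [Group Y] [Finite X] [Finite Y] [Field K]

/-- A pairing of groups into the multiplicative group of a field: the index of the left kernel is at most that of the
right kernel. -/
theorem index_le (β : X → Y → K) (h1 : ∀ x, β x 1 = 1) (h1' : ∀ y, β 1 y = 1)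
    (hl : ∀ x x' y, β (x * x') y = β x y * β x' y)
    (hr : ∀ x y y', β x (y * y') = β x y * β x y') (L : Subgroup X) (hL : ∀ x, (∀ y, β x y = 1) → x ∈ L)
    (R : Subgroup Y) (hR : ∀ y ∈ R, ∀ x, β x y = 1) : L.index ≤ R.index := by
  classical
  let χ : X → (Y →* K) := fun x => { toFun := β x, map_one' := h1 x, map_mul' := hr x }
  have hne : ∀ x y, β x y ≠ 0 := by
    intro x y h
    have h2 : β x (y * y⁻¹) = β x y * β x y⁻¹ := hr x y y⁻¹
    rw [mul_inv_cancel, h1, h, zero_mul] at h2
    exact one_ne_zero h2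
  have hinj : Function.Injective (fun q : X ⧸ L => χ q.out) := by
    intro q q' hqq
    have h2 : ∀ y, β q.out y = β q'.out y := fun y => congrArg (fun f : Y →* K => f y) hqq
    rw [← QuotientGroup.out_eq' q, ← QuotientGroup.out_eq' q', QuotientGroup.eq]
    apply hL
    intro y
    have h3 : β (q.out * (q.out⁻¹ * q'.out)) y = β q.out y * β (q.out⁻¹ * q'.out) y := hl _ _ _
    rw [mul_inv_cancel_left, h2 y] at h3
    exact (mul_left_cancel₀ (hne _ _) (by rw [mul_one]; exact h3)).symm
  have hind := (linearIndependent_monoidHom Y K).comp (fun q : X ⧸ L => χ q.out) hinj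
  let Φ : (Y ⧸ R → K) →ₗ[K] (Y → K) :=
    { toFun := fun f y => f (QuotientGroup.mk y), map_add' := fun _ _ => rfl, map_smul' := fun _ _ => rfl }
  have hg : ∀ q : X ⧸ L, ∃ g : Y ⧸ R → K, Φ g = (χ q.out : Y → K) := by
    intro q
    refine ⟨fun z => β q.out z.out, ?_⟩
    ext y
    change β q.out (QuotientGroup.mk y : Y ⧸ R).out = β q.out y
    obtain ⟨r, hr'⟩ := QuotientGroup.mk_out_eq_mul R y
    rw [hr', hr, hR r r.2, mul_one]
  choose g hg using hg
  have hind2 : LinearIndependent K g := by
    apply LinearIndependent.of_comp Φ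
    have : (Φ ∘ g) = ((fun f : Y →* K => (f : Y → K)) ∘ fun q : X ⧸ L => χ q.out) := by
      funext q
      exact hg q
    rw [this]
    exact hind
  have : Fintype (X ⧸ L) := Fintype.ofFinite _
  have : Fintype (Y ⧸ R) := Fintype.ofFinite _
  have h5 := hind2.fintype_card_le_finrank
  rw [Module.finrank_fintype_fun_eq_card] at h5
  rw [Subgroup.index, Subgroup.index, Nat.card_eq_fintype_card, Nat.card_eq_fintype_card]
  exact h5

end pairing

section classTwo

variable {D K : Type*} [Group D] [Finite D] [Field K] (A : Subgroup D) (κ : D → K)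

/-- the commutator pairing of a group of class two with values in a field -/
structure Cls (A : Subgroup D) (κ : D → K) : Prop where
  cen : A ≤ center D
  comm : ∀ x y : D, ⁅x, y⁆ ∈ A
  mul : ∀ a ∈ A, ∀ b ∈ A, κ (a * b) = κ a * κ b
  one : κ 1 = 1
  inj : ∀ a ∈ A, κ a = 1 → a = 1

variable {A κ}

theorem Cls.comm_mul_left (h : Cls A κ) (x x' y : D) : ⁅x * x', y⁆ = ⁅x, y⁆ * ⁅x', y⁆ := by
  have h1 := mem_center_iff.1 (h.cen (h.comm x' y))
  have h2 : ⁅x * x', y⁆ = x * ⁅x', y⁆ * x⁻¹ * ⁅x, y⁆ := by simp only [commutatorElement_def]; group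
  rw [h2, h1 x, mul_inv_cancel_right, ← h1 ⁅x, y⁆]

theorem Cls.comm_mul_right (h : Cls A κ) (x y y' : D) : ⁅x, y * y'⁆ = ⁅x, y⁆ * ⁅x, y'⁆ := by
  have h1 := mem_center_iff.1 (h.cen (h.comm x y'))
  have h2 : ⁅x, y * y'⁆ = ⁅x, y⁆ * (y * ⁅x, y'⁆ * y⁻¹) := by simp only [commutatorElement_def]; group
  rw [h2, h1 y, mul_inv_cancel_right]

/-- comparison of indices for subgroups `X`, `Y` -/
theorem Cls.index_le (h : Cls A κ) (X Y : Subgroup D) (L : Subgroup X) (hL : ∀ x : X, (∀ y ∈ Y, (x : D) * y = y * x) → x ∈ L)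
    (R : Subgroup Y) (hR : ∀ y : Y, y ∈ R → ∀ x ∈ X, x * (y : D) = y * x) : L.index ≤ R.index := by
  apply H74.Pair.index_le (K := K) (fun (x : X) (y : Y) => κ ⁅(x : D), (y : D)⁆)
  · intro x
    change κ ⁅(x : D), (1 : D)⁆ = 1
    rw [commutatorElement_one_right, h.one]
  · intro y
    change κ ⁅(1 : D), (y : D)⁆ = 1
    rw [commutatorElement_one_left, h.one]
  · intro x x' y
    change κ ⁅(x : D) * x', (y : D)⁆ = _
    rw [h.comm_mul_left, h.mul _ (h.comm _ _) _ (h.comm _ _)]
  · intro x y y'
    change κ ⁅(x : D), (y : D) * y'⁆ = _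
    rw [h.comm_mul_right, h.mul _ (h.comm _ _) _ (h.comm _ _)]
  · intro x hx
    apply hL
    intro y hy
    have h1 := h.inj _ (h.comm _ _) (hx ⟨y, hy⟩)
    exact commutatorElement_eq_one_iff_mul_comm.1 h1
  · intro y hy x
    have h1 : ⁅(x : D), (y : D)⁆ = 1 := commutatorElement_eq_one_iff_mul_comm.2 (hR y hy x x.2)
    change κ ⁅(x : D), (y : D)⁆ = 1
    rw [h1, h.one]

/-- an abelian subgroup is small -/
theorem Cls.sq_le (h : Cls A κ) (hcen : center D ≤ A) (B : Subgroup D) (hAB : A ≤ B)
    (hB : ∀ a ∈ B, ∀ b ∈ B, a * b = b * a) : A.relIndex B ^ 2 ≤ A.index := by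
  have h1 : (A.subgroupOf B).index ≤ (B.subgroupOf ⊤).index := by
    apply h.index_le B ⊤
    · intro x hx
      rw [mem_subgroupOf]
      apply hcen
      rw [mem_center_iff]
      intro y
      exact (hx y (mem_top y)).symm
    · intro y hy x hx
      exact hB x hx y hy
  have h2 : (B.subgroupOf ⊤).index = B.index := by
    change B.relIndex ⊤ = B.index
    exact relIndex_top_right B
  have h3 : A.relIndex B * B.index = A.index := relIndex_mul_index hAB
  rw [h2] at h1
  rw [← h3, pow_two]
  exact Nat.mul_le_mul_left _ h1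

/-- the index of the centre is a square -/
theorem Cls.square (h : Cls A κ) (hcen : center D ≤ A) : ∃ s : ℕ, A.index = s ^ 2 := by
  classical
  obtain ⟨B, ⟨hAB, hB⟩, hmax⟩ := Set.exists_max_image
    {B : Subgroup D | A ≤ B ∧ ∀ a ∈ B, ∀ b ∈ B, a * b = b * a} (fun B => Nat.card B) (Set.toFinite _)
    ⟨A, le_refl A, fun a ha b _ => (mem_center_iff.1 (h.cen ha) b).symm⟩
  have hBB : ∀ x : D, (∀ b ∈ B, x * b = b * x) → x ∈ B := by
    intro x hx
    have hle : B ≤ B ⊔ zpowers x := le_sup_left
    have hcl : ∀ a ∈ B ⊔ zpowers x, ∀ b ∈ B ⊔ zpowers x, a * b = b * a := by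
      have h1 : B ⊔ zpowers x ≤ centralizer (B : Set D) := by
        rw [sup_le_iff, zpowers_le]
        exact ⟨fun a ha => mem_centralizer_iff.2 fun b hb => hB b hb a ha,
          mem_centralizer_iff.2 fun b hb => (hx b hb).symm⟩
      have h2 : B ⊔ zpowers x ≤ centralizer ((B ⊔ zpowers x : Subgroup D) : Set D) := by
        rw [sup_le_iff, zpowers_le]
        constructor
        · exact le_centralizer_iff.1 h1
        · have h3 : B ⊔ zpowers x ≤ centralizer (zpowers x : Set D) := by
            rw [sup_le_iff]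
            constructor
            · rw [le_centralizer_iff, zpowers_le]
              exact mem_centralizer_iff.2 fun b hb => (hx b hb).symm
            · rw [zpowers_le]
              refine mem_centralizer_iff.2 ?_
              rintro y ⟨n, rfl⟩
              exact (Commute.refl x).zpow_left n
          rw [le_centralizer_iff] at h3
          exact h3 (mem_zpowers x)
      intro a ha b hb
      exact (mem_centralizer_iff.1 (h2 ha) b hb).symm
    have h3 := hmax (B ⊔ zpowers x) ⟨hAB.trans hle, hcl⟩
    have h4 : B = B ⊔ zpowers x := Subgroup.eq_of_le_of_card_ge hle h3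
    rw [h4]
    exact mem_sup_right (mem_zpowers x)
  have h2 : (B.subgroupOf ⊤).index = B.index := by
    change B.relIndex ⊤ = B.index
    exact relIndex_top_right B
  have h1 : (A.subgroupOf B).index ≤ (B.subgroupOf ⊤).index := by
    apply h.index_le B ⊤
    · intro x hx
      rw [mem_subgroupOf]
      apply hcen
      rw [mem_center_iff]
      intro y
      exact (hx y (mem_top y)).symm
    · intro y hy x hx
      exact hB x hx y hy
  have h1' : (B.subgroupOf ⊤).index ≤ (A.subgroupOf B).index := by
    apply h.index_le ⊤ B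
    · intro x hx
      exact hBB x hx
    · intro y hy x _
      exact mem_center_iff.1 (h.cen hy) x
  have h3 : A.relIndex B * B.index = A.index := relIndex_mul_index hAB
  have h4 : A.relIndex B = B.index := by
    rw [← h2]
    exact le_antisymm h1 h1'
  exact ⟨B.index, by rw [← h3, h4, pow_two]⟩

end classTwo

section indep

variable {K V D : Type*} [Field K] [AddCommGroup V] [Module K V] [Nontrivial V] [Module.Finite K V] [Group D]

theorem indep (τ : D →* Module.End K V) (A : Subgroup D) (χ : D → (D →* K))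
    (hχ : ∀ x y, τ (y * x * y⁻¹) = χ x y • τ x) (hd : ∀ x x', (∀ y, χ x y = χ x' y) → x⁻¹ * x' ∈ A) :
    LinearIndependent K (fun q : D ⧸ A => τ q.out) := by
  classical
  rw [linearIndependent_iff']
  intro s g hg q hq
  have hne : ∀ x : D, τ x ≠ 0 := by
    intro x hx
    have h1 : τ x * τ x⁻¹ = 1 := by rw [← map_mul, mul_inv_cancel, map_one]
    rw [hx, zero_mul] at h1
    exact zero_ne_one h1
  have h1 : ∀ y : D, ∑ i ∈ s, (g i * χ i.out y) • τ i.out = 0 := by
    intro y
    have h2 : τ y * (∑ i ∈ s, g i • τ i.out) * τ y⁻¹ = 0 := by rw [hg, mul_zero, zero_mul]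
    rw [Finset.mul_sum, Finset.sum_mul] at h2
    rw [← h2]
    apply Finset.sum_congr rfl
    intro i _
    rw [mul_smul, ← hχ, map_mul, map_mul, mul_smul_comm, smul_mul_assoc]
  -- apply functionals
  have hinj : Function.Injective (fun q : D ⧸ A => χ q.out) := by
    intro q q' hqq
    rw [← QuotientGroup.out_eq' q, ← QuotientGroup.out_eq' q', QuotientGroup.eq]
    exact hd _ _ (fun y => congrArg (fun f : D →* K => f y) hqq)
  have hind := (linearIndependent_monoidHom D K).comp (fun q : D ⧸ A => χ q.out) hinj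
  rw [linearIndependent_iff'] at hind
  have h3 : ∀ lam : Module.Dual K (Module.End K V), g q * lam (τ q.out) = 0 := by
    intro lam
    apply hind s (fun i => g i * lam (τ i.out)) _ q hq
    funext y
    have h4 := congrArg lam (h1 y)
    rw [map_sum, map_zero] at h4
    rw [Finset.sum_apply]
    change ∑ i ∈ s, ((g i * lam (τ i.out)) • (χ i.out : D → K)) y = 0
    rw [← h4]
    apply Finset.sum_congr rfl
    intro i _
    rw [map_smul, Pi.smul_apply, smul_eq_mul, smul_eq_mul]
    ring
  have h5 : g q • τ q.out = 0 := by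
    rw [← Module.forall_dual_apply_eq_zero_iff K]
    intro lam
    rw [map_smul, smul_eq_mul]
    exact h3 lam
  exact (smul_eq_zero.1 h5).resolve_right (hne _)

theorem index_le_sq [Finite D] (τ : D →* Module.End K V) (A : Subgroup D) (χ : D → (D →* K))
    (hχ : ∀ x y, τ (y * x * y⁻¹) = χ x y • τ x) (hd : ∀ x x', (∀ y, χ x y = χ x' y) → x⁻¹ * x' ∈ A) :
    A.index ≤ Module.finrank K V ^ 2 := by
  have : Fintype (D ⧸ A) := Fintype.ofFinite _
  have h1 := (indep τ A χ hχ hd).fintype_card_le_finrank
  rw [Module.finrank_linearMap, ← pow_two] at h1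
  rw [Subgroup.index, Nat.card_eq_fintype_card]
  exact h1

/-- if the span is everything, the commutant is scalar -/
theorem scalar_of_comm [Finite D] (τ : D →* Module.End K V) (A : Subgroup D) (χ : D → (D →* K))
    (hχ : ∀ x y, τ (y * x * y⁻¹) = χ x y • τ x) (hd : ∀ x x', (∀ y, χ x y = χ x' y) → x⁻¹ * x' ∈ A)
    (hfull : Module.finrank K V ^ 2 ≤ A.index) (f : Module.End K V) (hf : ∀ x, f * τ x = τ x * f) :
    ∃ c : K, ∀ v : V, f v = c • v := by
  classical
  have : Fintype (D ⧸ A) := Fintype.ofFinite _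
  have h1 := indep τ A χ hχ hd
  have h2 := index_le_sq τ A χ hχ hd
  have h3 : Fintype.card (D ⧸ A) = Module.finrank K (Module.End K V) := by
    rw [Module.finrank_linearMap, ← pow_two, ← Nat.card_eq_fintype_card]
    exact le_antisymm h2 hfull
  have h4 : Submodule.span K (Set.range (fun q : D ⧸ A => τ q.out)) = ⊤ :=
    h1.span_eq_top_of_card_eq_finrank' h3
  have h5 : ∀ g : Module.End K V, f * g = g * f := by
    intro g
    have hg : g ∈ Submodule.span K (Set.range (fun q : D ⧸ A => τ q.out)) := by rw [h4]; trivial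
    induction hg using Submodule.span_induction with
    | mem x hx => obtain ⟨q, rfl⟩ := hx; exact hf _
    | zero => rw [mul_zero, zero_mul]
    | add x y _ _ hx hy => rw [mul_add, add_mul, hx, hy]
    | smul c x _ hx => rw [mul_smul_comm, smul_mul_assoc, hx]
  -- f commutes with everything
  obtain ⟨v0, hv0⟩ := exists_ne (0 : V)
  obtain ⟨lam, hlam⟩ : ∃ lam : Module.Dual K V, lam v0 = 1 := by
    by_contra hcon
    push Not at hcon
    apply hv0
    rw [← Module.forall_dual_apply_eq_zero_iff K]
    intro lam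
    by_contra hne
    apply hcon ((lam v0)⁻¹ • lam)
    rw [LinearMap.smul_apply, smul_eq_mul, inv_mul_cancel₀ hne]
  refine ⟨lam (f v0), fun v => ?_⟩
  have h6 := congrArg (fun g : Module.End K V => g v0) (h5 (LinearMap.toSpanSingleton K V v ∘ₗ lam))
  have h7 : f (lam v0 • v) = lam (f v0) • v := h6
  rw [hlam, one_smul] at h7
  exact h7

end indep

end H74.Pair
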