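import Mathlib
import Cfsg.Agent.Lib.H74.Pair

set_option autoImplicit false
set_option linter.unusedSectionVars false

namespace H74.Hup

open Subgroup
open scoped commutatorElement

theorem card_mod {U : Type*} [Finite U] (p : ℕ) [Fact p.Prime] (f : U → U) (u0 : U) (hf : ∀ u, f^[p] u = u)
    (h0 : f u0 = u0) (h1 : ∀ u, f u = u → u = u0) : p ∣ Nat.card U - 1 := by
  classical
  have := Fintype.ofFinite U
  let g : Function.End U := f
  have hp1 : g ^ p ^ 1 = 1 := by
    rw [pow_one]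
    funext u
    have h2 : ∀ n : ℕ, g ^ n = f^[n] := by
      intro n
      induction n with
      | zero => rfl
      | succ k ih =>
        rw [pow_succ, ih]
        rfl
    rw [h2]
    exact hf u
  have h2 := Equiv.Perm.card_fixedPoints_modEq hp1
  have h3 : Fintype.card (Function.fixedPoints f) = 1 := by
    rw [Fintype.card_eq_one_iff]
    exact ⟨⟨u0, h0⟩, fun y => Subtype.ext (h1 y y.2)⟩
  have h4 : Fintype.card U ≡ 1 [MOD p] := by
    rw [← h3]
    convert h2
  rw [Nat.card_eq_fintype_card]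
  have h5 : 1 ≤ Fintype.card U := Fintype.card_pos_iff.2 ⟨u0⟩
  exact (Nat.modEq_iff_dvd' h5).1 h4.symm

theorem exists_W {U : Type*} [Group U] [Finite U] (hc : ∀ a b : U, a * b = b * a) (φ : MulAut U) (p : ℕ)
    [hpf : Fact p.Prime] (hφ : φ ^ p = 1) (hne : φ ≠ 1) (hp : ¬ p ∣ Nat.card U) :
    ∃ W : Subgroup U, W ≠ ⊥ ∧ (∀ w ∈ W, φ w ∈ W) ∧ (∀ w ∈ W, φ w = w → w = 1) ∧
      (∀ W' : Subgroup U, W' ≤ W → (∀ w ∈ W', φ w ∈ W') → W' = ⊥ ∨ W' = W) ∧ p ∣ Nat.card W - 1 := by
  classical
  let f : U →* U :=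
    { toFun := fun u => u⁻¹ * φ u
      map_one' := by rw [map_one, inv_one, mul_one]
      map_mul' := by
        intro a b
        rw [map_mul, mul_inv_rev]
        rw [hc b⁻¹ a⁻¹, mul_assoc, mul_assoc, ← mul_assoc b⁻¹, hc b⁻¹ (φ a), mul_assoc] }
  have hf : ∀ u, f u = u⁻¹ * φ u := fun _ => rfl
  have hff : ∀ u, φ (f u) = f (φ u) := by
    intro u
    rw [hf, hf, map_mul, map_inv]
  have hfix : ∀ u, φ (f u) = f u → f u = 1 := by
    intro u hu
    have h1 : ∀ n : ℕ, (φ ^ n) u = u * (f u) ^ n := by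
      intro n
      induction n with
      | zero => simp
      | succ k ih =>
        rw [pow_succ', MulAut.mul_apply, ih, map_mul, map_pow, hu, pow_succ, ← mul_assoc]
        have h2 : φ u = u * f u := by rw [hf, mul_inv_cancel_left]
        rw [h2, mul_assoc, hc (f u) _, ← mul_assoc]
    have h2 := h1 p
    rw [hφ, MulAut.one_apply] at h2
    have h3 : f u ^ p = 1 := by
      have := mul_left_cancel (h2.symm.trans (mul_one u).symm)
      exact this
    have h4 : orderOf (f u) ∣ p := orderOf_dvd_of_pow_eq_one h3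
    rcases (Nat.dvd_prime hpf.out).1 h4 with h5 | h5
    · exact orderOf_eq_one_iff.1 h5
    · exfalso
      apply hp
      rw [← h5]
      exact orderOf_dvd_natCard _
  have hTne : f.range ≠ ⊥ := by
    intro h
    apply hne
    ext u
    have h1 : f u ∈ f.range := ⟨u, rfl⟩
    rw [h, mem_bot, hf, inv_mul_eq_one] at h1
    exact h1.symm
  obtain ⟨W, ⟨hWT, hWne, hWi⟩, hmin⟩ := Set.exists_min_image
    {W : Subgroup U | W ≤ f.range ∧ W ≠ ⊥ ∧ ∀ w ∈ W, φ w ∈ W} (fun W => Nat.card W) (Set.toFinite _)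
    ⟨f.range, le_refl _, hTne, by rintro _ ⟨u, rfl⟩; exact ⟨φ u, (hff u).symm⟩⟩
  have hfp : ∀ w ∈ W, φ w = w → w = 1 := by
    intro w hw hww
    obtain ⟨u, rfl⟩ := hWT hw
    exact hfix u hww
  refine ⟨W, hWne, hWi, hfp, ?_, ?_⟩
  · intro W' hW' hi
    by_cases h : W' = ⊥
    · exact Or.inl h
    · right
      exact Subgroup.eq_of_le_of_card_ge hW' (hmin W' ⟨hW'.trans hWT, h, hi⟩)
  · apply card_mod p (fun w : W => ⟨φ w, hWi w w.2⟩) 1
    · intro u
      have h1 : ∀ n : ℕ, (((fun w : W => (⟨φ w, hWi w w.2⟩ : W))^[n] u : W) : U) = (φ ^ n) (u : U) := by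
        intro n
        induction n with
        | zero => rfl
        | succ k ih =>
          rw [Function.iterate_succ_apply', pow_succ', MulAut.mul_apply, ← ih]
      apply Subtype.ext
      rw [h1, hφ]
      rfl
    · apply Subtype.ext
      change φ ((1 : W) : U) = 1
      rw [OneMemClass.coe_one, map_one]
    · intro u hu
      exact Subtype.ext (hfp u u.2 (congrArg Subtype.val hu))

end H74.Hup
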