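import Mathlib
import Cfsg.Agent.Lib.H16.OddLin
import Cfsg.Agent.Lib.H74.HupW

set_option autoImplicit false
set_option linter.unusedSectionVars false

/-! Transitive linear groups: the field of a normal abelian subgroup and the class two subgroup. -/

namespace H74.Hup

open Subgroup H16.OddLin
open scoped commutatorElement

universe u

variable {B : Type*} {E : Type u} [Group B] [Finite B] [AddCommGroup E] [Finite E] [Nontrivial E]
  [DistribMulAction B E] [FaithfulSMul B E]

local notation "T" => DistribMulAction.toAddMonoidEnd B E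

theorem T_inj {a b : B} (h : T a = T b) : a = b := by
  apply FaithfulSMul.eq_of_smul_eq_smul (α := E)
  intro x
  exact congrArg (fun f : AddMonoid.End E => f x) h

theorem exists_field' (htr : ∀ x y : E, x ≠ 0 → y ≠ 0 → ∃ b : B, b • x = y) (F : Subgroup B) [hFn : F.Normal]
    (hFc : ∀ a ∈ F, ∀ b ∈ F, a * b = b * a) :
    ∃ (K : Type u) (_ : Field K) (_ : Finite K) (ρ : K →+* AddMonoid.End E), Function.Injective ρ ∧
      (∀ a ∈ F, ∃ k : K, ρ k = T a) ∧ (∀ b : B, ∀ k : K, ∃ k' : K, ρ k' = T b * ρ k * T b⁻¹) ∧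
      (∀ f : AddMonoid.End E, (∀ a ∈ F, f * T a = T a * f) → ∀ k, f * ρ k = ρ k * f) := by
  let i1 : CommRing ↥(R (E := E) F) := { (R (E := E) F).toRing with
    mul_comm := fun x y => Subtype.ext (R_comm F hFc x.2 y.2) }
  have h1 : NoZeroDivisors ↥(R (E := E) F) := ⟨by
    intro x y hxy
    by_cases hy : y = 0
    · exact Or.inr hy
    · left
      obtain ⟨v, hv⟩ : ∃ v, (y : AddMonoid.End E) v ≠ 0 := by
        by_contra hcon
        push Not at hcon
        exact hy (Subtype.ext (AddMonoidHom.ext hcon))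
      have h2 : (x : AddMonoid.End E) ((y : AddMonoid.End E) v) = 0 := by
        have := congrArg (fun f : ↥(R (E := E) F) => (f : AddMonoid.End E) v) hxy
        exact this
      exact Subtype.ext (eq_zero htr F hFc x.2 hv h2)⟩
  have h2 : Nontrivial ↥(R (E := E) F) := by
    obtain ⟨v, hv⟩ := exists_ne (0 : E)
    refine ⟨⟨0, 1, fun h => hv ?_⟩⟩
    have := congrArg (fun f : ↥(R (E := E) F) => (f : AddMonoid.End E) v) h
    exact this.symm
  have h3 : IsDomain ↥(R (E := E) F) := NoZeroDivisors.to_isDomain _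
  have h4 : IsField ↥(R (E := E) F) := Finite.isField_of_domain _
  let i2 : Field ↥(R (E := E) F) := h4.toField
  refine ⟨↥(R (E := E) F), i2, inferInstance, (R (E := E) F).subtype, Subtype.val_injective, ?_, ?_, ?_⟩
  · intro a ha
    exact ⟨⟨T a, Subring.subset_closure ⟨a, ha, rfl⟩⟩, rfl⟩
  · intro b k
    exact ⟨⟨_, R_conj F b k.2⟩, rfl⟩
  · intro f hf k
    obtain ⟨k, hk⟩ := k
    change f * k = k * f
    rw [R] at hk
    induction hk using Subring.closure_induction with
    | mem x hx => obtain ⟨a, ha, rfl⟩ := hx; exact hf a ha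
    | zero => rw [mul_zero, zero_mul]
    | one => rw [mul_one, one_mul]
    | add x y _ _ hx hy => rw [mul_add, add_mul, hx, hy]
    | neg x _ hx => rw [mul_neg, neg_mul, hx]
    | mul x y _ _ hx hy => rw [← mul_assoc, hx, mul_assoc, hy, mul_assoc]

/-- the data: a field `K` of endomorphisms generated by `A`, a class two subgroup `D` with centre `A` -/
structure Dat (A D : Subgroup B) {K : Type u} [Field K] (ρ : K →+* AddMonoid.End E) : Prop where
  inj : Function.Injective ρ
  hA : ∀ a ∈ A, ∃ k : K, ρ k = T a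
  hconj : ∀ b : B, ∀ k : K, ∃ k' : K, ρ k' = T b * ρ k * T b⁻¹
  hcomm : ∀ f : AddMonoid.End E, (∀ a ∈ A, f * T a = T a * f) → ∀ k, f * ρ k = ρ k * f
  AD : A ≤ D
  DC : ∀ x ∈ D, ∀ a ∈ A, x * a = a * x
  DD : ∀ x ∈ D, ∀ y ∈ D, ⁅x, y⁆ ∈ A
  cen : ∀ x ∈ D, (∀ y ∈ D, x * y = y * x) → x ∈ A

variable {A D : Subgroup B} {K : Type u} [Field K] {ρ : K →+* AddMonoid.End E}

theorem Dat.exists_cls (h : Dat A D ρ) : ∃ κ : D → K, H74.Pair.Cls (A.subgroupOf D) κ ∧
    ∀ x : D, (x : B) ∈ A → ρ (κ x) = T (x : B) := by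
  classical
  have h1 : ∀ x : D, ∃ k : K, (x : B) ∈ A → ρ k = T (x : B) := by
    intro x
    by_cases hx : (x : B) ∈ A
    · obtain ⟨k, hk⟩ := h.hA _ hx
      exact ⟨k, fun _ => hk⟩
    · exact ⟨0, fun h' => absurd h' hx⟩
  choose κ hκ using h1
  refine ⟨κ, ⟨?_, ?_, ?_, ?_, ?_⟩, hκ⟩
  · intro a ha
    rw [mem_center_iff]
    intro x
    exact Subtype.ext (h.DC x x.2 a ha)
  · intro x y
    rw [mem_subgroupOf]
    exact h.DD x x.2 y y.2
  · intro a ha b hb
    apply h.inj
    have hab : ((a * b : D) : B) ∈ A := A.mul_mem ha hb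
    rw [map_mul, hκ a ha, hκ b hb, hκ _ hab, ← map_mul]
    rfl
  · apply h.inj
    rw [hκ 1 A.one_mem, map_one]
    exact map_one T
  · intro a ha hk
    have h2 := hκ a ha
    rw [hk, map_one] at h2
    apply Subtype.ext
    apply T_inj (E := E)
    rw [← h2]
    exact (map_one T).symm

theorem Dat.center_le (h : Dat A D ρ) : center D ≤ A.subgroupOf D := by
  intro x hx
  rw [mem_subgroupOf]
  apply h.cen x x.2
  intro y hy
  exact (congrArg Subtype.val (mem_center_iff.1 hx ⟨y, hy⟩)).symm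

theorem Dat.rep (h : Dat A D ρ) [Finite K] : ∃ s d : ℕ, A.relIndex D = s ^ 2 ∧ s ≤ d ∧ Nat.card E = Nat.card K ^ d ∧
    (s = d → ∀ b : B, (∀ x ∈ D, b * x = x * b) → ∃ k : K, ρ k = T b) := by
  classical
  obtain ⟨κ, hcls, hκ⟩ := h.exists_cls
  obtain ⟨s, hs⟩ := hcls.square h.center_le
  have hrel : (A.subgroupOf D).index = A.relIndex D := rfl
  let iM : Module K E := Module.compHom E ρ
  have hsm : ∀ (k : K) (v : E), k • v = ρ k v := fun _ _ => rfl
  have hDK : ∀ x ∈ D, ∀ k, T x * ρ k = ρ k * T x := by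
    intro x hx
    apply h.hcomm
    intro a ha
    rw [← map_mul, ← map_mul, h.DC x hx a ha]
  have hfin : Module.Finite K E := Module.Finite.of_finite
  let τ : D →* Module.End K E :=
    { toFun := fun x =>
        { toFun := fun v => (x : B) • v
          map_add' := fun v w => smul_add _ _ _
          map_smul' := fun k v => by
            have := congrArg (fun f : AddMonoid.End E => f v) (hDK x x.2 k)
            exact this }
      map_one' := by
        ext v
        exact one_smul B v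
      map_mul' := by
        intro x y
        ext v
        exact mul_smul (x : B) (y : B) v }
  have hτ : ∀ (x : D) (v : E), τ x v = (x : B) • v := fun _ _ => rfl
  let χ : D → (D →* K) := fun x =>
    { toFun := fun y => κ ⁅y, x⁆
      map_one' := by
        change κ ⁅(1 : D), x⁆ = 1
        rw [commutatorElement_one_left, hcls.one]
      map_mul' := by
        intro y y'
        change κ ⁅y * y', x⁆ = _
        rw [hcls.comm_mul_left, hcls.mul _ (hcls.comm _ _) _ (hcls.comm _ _)] }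
  have hχ : ∀ x y, τ (y * x * y⁻¹) = χ x y • τ x := by
    intro x y
    ext v
    have h1 : y * x * y⁻¹ = ⁅y, x⁆ * x := by rw [commutatorElement_def]; group
    rw [h1, map_mul]
    change (((⁅y, x⁆ : D) : B)) • ((x : B) • v) = κ ⁅y, x⁆ • ((x : B) • v)
    rw [hsm, hκ ⁅y, x⁆ (hcls.comm y x)]
    rfl
  have hd : ∀ x x', (∀ y, χ x y = χ x' y) → x⁻¹ * x' ∈ A.subgroupOf D := by
    intro x x' hxx
    apply h.center_le
    rw [mem_center_iff]
    intro y
    have h1 : κ ⁅y, x⁆ = κ ⁅y, x'⁆ := hxx y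
    have h2 : ⁅y, x * (x⁻¹ * x')⁆ = ⁅y, x⁆ * ⁅y, x⁻¹ * x'⁆ := hcls.comm_mul_right _ _ _
    rw [mul_inv_cancel_left] at h2
    have h3 : κ ⁅y, x'⁆ = κ ⁅y, x⁆ * κ ⁅y, x⁻¹ * x'⁆ := by
      rw [h2, hcls.mul _ (hcls.comm _ _) _ (hcls.comm _ _)]
    have h4 : κ ⁅y, x⁆ ≠ 0 := by
      intro h0
      have h5 : κ (⁅y, x⁆ * ⁅y, x⁆⁻¹) = κ ⁅y, x⁆ * κ ⁅y, x⁆⁻¹ :=
        hcls.mul _ (hcls.comm _ _) _ ((A.subgroupOf D).inv_mem (hcls.comm _ _))
      rw [mul_inv_cancel, hcls.one, h0, zero_mul] at h5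
      exact one_ne_zero h5
    rw [← h1] at h3
    have h5 : κ ⁅y, x⁻¹ * x'⁆ = 1 := by
      apply mul_left_cancel₀ h4
      rw [mul_one, ← h3]
    have h6 := hcls.inj _ (hcls.comm _ _) h5
    exact commutatorElement_eq_one_iff_mul_comm.1 h6
  have hle := H74.Pair.index_le_sq τ (A.subgroupOf D) χ hχ hd
  refine ⟨s, Module.finrank K E, by rw [← hrel, hs], ?_, ?_, ?_⟩
  · rw [hs] at hle
    exact (Nat.pow_le_pow_iff_left (by norm_num)).1 hle
  · exact Module.natCard_eq_pow_finrank (K := K)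
  · intro hsd b hb
    have hbK : ∀ k, T b * ρ k = ρ k * T b := by
      apply h.hcomm
      intro a ha
      rw [← map_mul, ← map_mul, hb a (h.AD ha)]
    let f : Module.End K E :=
      { toFun := fun v => b • v
        map_add' := fun v w => smul_add _ _ _
        map_smul' := fun k v => by
          have := congrArg (fun f : AddMonoid.End E => f v) (hbK k)
          exact this }
    obtain ⟨c, hc⟩ := H74.Pair.scalar_of_comm τ (A.subgroupOf D) χ hχ hd (by rw [hs, hsd]) f (by
      intro x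
      ext v
      change b • ((x : B) • v) = (x : B) • (b • v)
      rw [← mul_smul, ← mul_smul, hb x x.2])
    refine ⟨c, ?_⟩
    ext v
    exact (hc v).symm

theorem _root_.H74.Pair.Cls.restrict {D K : Type*} [Group D] [Finite D] [Field K] {A : Subgroup D} {κ : D → K}
    (h : H74.Pair.Cls A κ) (W : Subgroup D) : H74.Pair.Cls (A.subgroupOf W) (fun w : W => κ w) where
  cen := by
    intro a ha
    rw [mem_center_iff]
    intro x
    exact Subtype.ext (mem_center_iff.1 (h.cen ha) x)
  comm := fun x y => h.comm x y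
  mul := fun a ha b hb => h.mul a ha b hb
  one := h.one
  inj := fun a ha hk => Subtype.ext (h.inj a ha hk)

/-- the group of order `p` acting on `D / A` -/
theorem Dat.exists_t (h : Dat A D ρ) (hAn : A.Normal) (hDn : D.Normal) (x : B) (p : ℕ) [Fact p.Prime]
    (hx : x ^ p = 1) (hxA : ∀ a ∈ A, x * a = a * x) (hpA : ¬ p ∣ Nat.card A) (hpD : ¬ p ∣ A.relIndex D)
    (hxD : ∃ y ∈ D, x * y ≠ y * x) :
    ∃ t : ℕ, 1 < t ∧ p ∣ t - 1 ∧ t ≤ A.relIndex D ∧ (t ^ 2 ≤ A.relIndex D ∨ ∃ u, t = u ^ 2) ∧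
      (t = A.relIndex D → ∀ y ∈ D, x * y * x⁻¹ * y⁻¹ ∈ A → y ∈ A) := by
  classical
  obtain ⟨κ, hcls, hκ⟩ := h.exists_cls
  set A' := A.subgroupOf D with hA'
  have hA'n : A'.Normal := inferInstance
  set c : MulAut D := MulAut.conjNormal x with hc
  have hcv : ∀ y : D, ((c y : D) : B) = x * y * x⁻¹ := fun y => rfl
  have hcA : A'.map (c : D ≃* D).toMonoidHom = A' := by
    apply le_antisymm
    · rintro _ ⟨y, hy, rfl⟩
      rw [SetLike.mem_coe, mem_subgroupOf] at hy
      rw [mem_subgroupOf]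
      change x * (y : B) * x⁻¹ ∈ A
      exact hAn.conj_mem _ hy x
    · intro y hy
      rw [mem_subgroupOf] at hy
      refine ⟨y, mem_subgroupOf.2 hy, ?_⟩
      apply Subtype.ext
      change x * (y : B) * x⁻¹ = y
      rw [hxA _ hy, mul_inv_cancel_right]
  let φ : MulAut (D ⧸ A') := QuotientGroup.congr A' A' (c : D ≃* D) hcA
  have hφ : ∀ y : D, φ (QuotientGroup.mk y) = QuotientGroup.mk (c y) := fun y => rfl
  have hφn : ∀ (n : ℕ) (y : D), (φ ^ n) (QuotientGroup.mk y) = QuotientGroup.mk ((c ^ n) y) := by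
    intro n
    induction n with
    | zero => intro y; rfl
    | succ k ih =>
      intro y
      rw [pow_succ', pow_succ', MulAut.mul_apply, MulAut.mul_apply, ih, hφ]
  have hcp : c ^ p = 1 := by
    rw [hc, ← map_pow, hx, map_one]
  have hφp : φ ^ p = 1 := by
    apply MulEquiv.ext
    intro z
    obtain ⟨y, rfl⟩ := QuotientGroup.mk_surjective z
    rw [hφn, hcp]
    rfl
  have hcomm : ∀ a b : D ⧸ A', a * b = b * a := by
    intro a b
    obtain ⟨a, rfl⟩ := QuotientGroup.mk_surjective a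
    obtain ⟨b, rfl⟩ := QuotientGroup.mk_surjective b
    rw [← QuotientGroup.mk_mul, ← QuotientGroup.mk_mul, QuotientGroup.eq]
    have : (a * b)⁻¹ * (b * a) = ⁅b⁻¹, a⁻¹⁆ := by rw [commutatorElement_def]; group
    rw [this]
    exact hcls.comm _ _
  have hφne : φ ≠ 1 := by
    intro h1
    obtain ⟨y, hy, hxy⟩ := hxD
    apply hxy
    have h2 : QuotientGroup.mk (c ⟨y, hy⟩) = (QuotientGroup.mk ⟨y, hy⟩ : D ⧸ A') := by
      rw [← hφ, h1]; rfl
    rw [eq_comm, QuotientGroup.eq] at h2
    obtain ⟨a, ha⟩ : ∃ a, a = y⁻¹ * (x * y * x⁻¹) := ⟨_, rfl⟩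
    have haA : a ∈ A := by rw [ha]; exact mem_subgroupOf.1 h2
    have h3 : x * y * x⁻¹ = y * a := by rw [ha, mul_inv_cancel_left]
    have h4 : ∀ n : ℕ, x ^ n * y * (x ^ n)⁻¹ = y * a ^ n := by
      intro n
      induction n with
      | zero => simp
      | succ k ih =>
        have h5 : x ^ (k + 1) * y * (x ^ (k + 1))⁻¹ = x * (x ^ k * y * (x ^ k)⁻¹) * x⁻¹ := by
          rw [pow_succ']; group
        have h6 : x * a ^ k = a ^ k * x := hxA _ (A.pow_mem haA k)
        have h7 : x * (y * a ^ k) * x⁻¹ = (x * y * x⁻¹) * (x * a ^ k * x⁻¹) := by group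
        rw [h5, ih, h7, h3, h6, mul_inv_cancel_right, pow_succ', mul_assoc]
    have h5 := h4 p
    rw [hx, one_mul, inv_one, mul_one] at h5
    have h6 : a ^ p = 1 := mul_left_cancel (h5.symm.trans (mul_one y).symm)
    have h7 : a = 1 := by
      rcases (Nat.dvd_prime Fact.out).1 (orderOf_dvd_of_pow_eq_one h6) with h8 | h8
      · exact orderOf_eq_one_iff.1 h8
      · exfalso
        apply hpA
        rw [← h8]
        have h9 : orderOf (⟨a, haA⟩ : A) ∣ Nat.card A := orderOf_dvd_natCard _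
        rwa [Subgroup.orderOf_mk] at h9
    rw [h7, mul_one, mul_inv_eq_iff_eq_mul] at h3
    exact h3
  have hcard : Nat.card (D ⧸ A') = A.relIndex D := rfl
  obtain ⟨W, hWb, hWi, hWf, hWm, hWp⟩ := exists_W hcomm φ p hφp hφne (by rw [hcard]; exact hpD)
  have hWle : Nat.card W ≤ A.relIndex D := by
    rw [← hcard]; exact Subgroup.card_le_card_group W
  have hW1 : 1 < Nat.card W := by
    by_contra hlt
    apply hWb
    apply Subgroup.eq_bot_of_card_eq
    have : 0 < Nat.card W := Nat.card_pos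
    omega
  refine ⟨Nat.card W, hW1, hWp, hWle, ?_, ?_⟩
  · -- preimage
    set W' : Subgroup D := W.comap (QuotientGroup.mk' A') with hW'
    have hAW : A' ≤ W' := by
      intro a ha
      rw [hW', mem_comap]
      have : (QuotientGroup.mk' A') a = 1 := (QuotientGroup.eq_one_iff a).2 ha
      rw [this]; exact W.one_mem
    have hmap : ∀ V : Subgroup D, Nat.card (V.map (QuotientGroup.mk' A')) = A'.relIndex V := by
      intro V
      rw [← Subgroup.relIndex_ker, QuotientGroup.ker_mk']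
    have hcm : W'.map (QuotientGroup.mk' A') = W :=
      Subgroup.map_comap_eq_self_of_surjective (QuotientGroup.mk'_surjective A') W
    have hrel : A'.relIndex W' = Nat.card W := by
      rw [← hmap W', hcm]
    -- the centre of W'
    let Z : Subgroup D := W' ⊓ centralizer (W' : Set D)
    have hAZ : A' ≤ Z := by
      intro a ha
      refine ⟨hAW ha, mem_centralizer_iff.2 fun w _ => mem_center_iff.1 (hcls.cen ha) w⟩
    have hcW : ∀ w ∈ W', c w ∈ W' := by
      intro w hw
      exact hWi _ hw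
    have hcWeq : W'.map (c : D ≃* D).toMonoidHom = W' := by
      apply Subgroup.eq_of_le_of_card_ge
      · rintro _ ⟨w, hw, rfl⟩
        exact hcW w hw
      · rw [Subgroup.card_map_of_injective (MulEquiv.injective _)]
    have hcZ : ∀ z ∈ Z, c z ∈ Z := by
      rintro z ⟨hz1, hz2⟩
      refine ⟨hcW z hz1, mem_centralizer_iff.2 ?_⟩
      intro w hw
      rw [SetLike.mem_coe, ← hcWeq] at hw
      obtain ⟨w, hw, rfl⟩ := hw
      change c w * c z = c z * c w
      rw [← map_mul, ← map_mul, mem_centralizer_iff.1 hz2 w hw]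
    rcases hWm (Z.map (QuotientGroup.mk' A')) (by
        rw [← hcm]
        exact Subgroup.map_mono inf_le_left) (by
        rintro _ ⟨z, hz, rfl⟩
        exact ⟨c z, hcZ z hz, rfl⟩) with h1 | h1
    · right
      have h2 : Z ≤ A' := by
        intro z hz
        have h3 : (QuotientGroup.mk' A') z ∈ Z.map (QuotientGroup.mk' A') := ⟨z, hz, rfl⟩
        rw [h1, mem_bot] at h3
        exact (QuotientGroup.eq_one_iff z).1 h3
      obtain ⟨u, hu⟩ := (hcls.restrict W').square (by
        intro w hw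
        rw [mem_subgroupOf]
        apply h2
        refine ⟨w.2, mem_centralizer_iff.2 ?_⟩
        intro y hy
        exact congrArg Subtype.val (mem_center_iff.1 hw ⟨y, hy⟩))
      exact ⟨u, by rw [← hrel, ← hu]; rfl⟩
    · left
      have h2 : W' ≤ Z := by
        intro w hw
        have h3 : (QuotientGroup.mk' A') w ∈ Z.map (QuotientGroup.mk' A') := by
          rw [h1]; exact hw
        obtain ⟨z, hz, hzw⟩ := h3
        have h4 : z⁻¹ * w ∈ A' := QuotientGroup.eq.1 hzw
        have h5 := Z.mul_mem hz (hAZ h4)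
        rwa [mul_inv_cancel_left] at h5
      have h3 := hcls.sq_le h.center_le W' hAW (fun a ha b hb => (mem_centralizer_iff.1 (h2 ha).2 b hb).symm)
      rw [hrel] at h3
      exact h3
  · intro ht y hy hxy
    have hWt : W = ⊤ := Subgroup.eq_top_of_card_eq W (by rw [ht, hcard])
    have h1 : φ (QuotientGroup.mk ⟨y, hy⟩) = (QuotientGroup.mk ⟨y, hy⟩ : D ⧸ A') := by
      rw [hφ, eq_comm, QuotientGroup.eq, mem_subgroupOf]
      change y⁻¹ * (x * y * x⁻¹) ∈ A
      have := hAn.conj_mem _ hxy y⁻¹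
      rw [inv_inv] at this
      have h2 : y⁻¹ * (x * y * x⁻¹ * y⁻¹) * y = y⁻¹ * (x * y * x⁻¹) := by group
      rwa [h2] at this
    have h2 := hWf _ (by rw [hWt]; trivial) h1
    exact mem_subgroupOf.1 ((QuotientGroup.eq_one_iff _).1 h2)

end H74.Hup
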