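import Mathlib
import Cfsg.Agent.Lib.H15.Q8Norm
import Cfsg.Agent.Lib.H74.HupK

set_option autoImplicit false
set_option linter.unusedSectionVars false

/-! The class two subgroup over a maximal abelian normal subgroup; general tools. -/

namespace H74.Hup

open Subgroup
open scoped commutatorElement

theorem comm_pow_eq {B : Type*} [Group B] {x y : B} (hc : x * ⁅x, y⁆ = ⁅x, y⁆ * x) (n : ℕ) :
    ⁅x ^ n, y⁆ = ⁅x, y⁆ ^ n := by
  induction n with
  | zero => simp
  | succ k ih =>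
    have h1 : ⁅x ^ (k + 1), y⁆ = x * ⁅x ^ k, y⁆ * x⁻¹ * ⁅x, y⁆ := by
      rw [commutatorElement_def, commutatorElement_def, commutatorElement_def, pow_succ']; group
    have h2 : x * ⁅x, y⁆ ^ k = ⁅x, y⁆ ^ k * x := ((show Commute x ⁅x, y⁆ from hc).pow_right k)
    rw [h1, ih, h2, mul_inv_cancel_right, pow_succ]

theorem exists_D {B : Type*} [Group B] [Finite B] [Group.IsSolvable B] (A : Subgroup B) [hAn : A.Normal]
    (hAc : ∀ a ∈ A, ∀ b ∈ A, a * b = b * a)
    (hmax : ∀ M : Subgroup B, M.Normal → (∀ a ∈ M, ∀ b ∈ M, a * b = b * a) → A ≤ M → M = A)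
    (hne : ∃ x, (∀ a ∈ A, x * a = a * x) ∧ x ∉ A) :
    ∃ (D : Subgroup B) (r : ℕ), r.Prime ∧ D.Normal ∧ A ≤ D ∧ (∀ x ∈ D, ∀ a ∈ A, x * a = a * x) ∧
      (∀ x ∈ D, ∀ y ∈ D, ⁅x, y⁆ ∈ A) ∧ (∀ x ∈ D, (∀ y ∈ D, x * y = y * x) → x ∈ A) ∧ (∀ x ∈ D, x ^ r ∈ A) ∧
      r ∣ Nat.card A ∧ ∃ x ∈ D, x ∉ A := by
  classical
  have hmc : ∀ M : Subgroup B, (∀ a ∈ M, ∀ b ∈ M, a * b = b * a) ↔ IsMulCommutative M := by
    intro M
    constructor
    · intro h
      exact ⟨⟨fun a b => Subtype.ext (h a a.2 b b.2)⟩⟩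
    · intro h a ha b hb
      exact congrArg Subtype.val (h.1.comm ⟨a, ha⟩ ⟨b, hb⟩)
  obtain ⟨D0, hD0n, hD0C, hD0a, hD0c⟩ := H15.Q8Norm.exists_classTwo A ((hmc A).1 hAc)
    (fun M hM hMc hAM => hmax M hM ((hmc M).2 hMc) hAM) (by
      intro h
      obtain ⟨x, hx, hxA⟩ := hne
      apply hxA
      rw [h, mem_centralizer_iff]
      intro a ha
      exact (hx a ha).symm)
  have hAC : A ≤ centralizer (A : Set B) := fun a ha => mem_centralizer_iff.2 fun b hb => hAc b hb a ha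
  set D1 := D0 ⊔ A with hD1
  have hD1n : D1.Normal := inferInstance
  have hD1C : ∀ x ∈ D1, ∀ a ∈ A, x * a = a * x := by
    intro x hx a ha
    have : D1 ≤ centralizer (A : Set B) := sup_le hD0C hAC
    exact (mem_centralizer_iff.1 (this hx) a ha).symm
  have hmkc : ∀ x ∈ D1, ∀ y ∈ D1, (QuotientGroup.mk x : B ⧸ A) * QuotientGroup.mk y = QuotientGroup.mk y * QuotientGroup.mk x := by
    have hmk : ∀ x ∈ D1, ∃ d ∈ D0, (QuotientGroup.mk x : B ⧸ A) = QuotientGroup.mk d := by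
      intro x hx
      obtain ⟨d, hd, a, ha, rfl⟩ := Subgroup.mem_sup_of_normal_right.1 hx
      refine ⟨d, hd, ?_⟩
      rw [eq_comm, QuotientGroup.eq, inv_mul_cancel_left]
      exact ha
    intro x hx y hy
    obtain ⟨d, hd, h1⟩ := hmk x hx
    obtain ⟨e, he, h2⟩ := hmk y hy
    rw [h1, h2, ← QuotientGroup.mk_mul, ← QuotientGroup.mk_mul, QuotientGroup.eq]
    have h3 : (d * e)⁻¹ * (e * d) = ⁅e⁻¹, d⁻¹⁆ := by rw [commutatorElement_def]; group
    rw [h3]
    exact hD0c (commutator_mem_commutator (D0.inv_mem he) (D0.inv_mem hd))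
  have hD1D : ∀ x ∈ D1, ∀ y ∈ D1, ⁅x, y⁆ ∈ A := by
    intro x hx y hy
    have h1 := hmkc y hy x hx
    rw [← QuotientGroup.mk_mul, ← QuotientGroup.mk_mul, QuotientGroup.eq] at h1
    have h2 : (y * x)⁻¹ * (x * y) = (y * x)⁻¹ * ⁅x, y⁆ * (y * x) := by rw [commutatorElement_def]; group
    rw [h2] at h1
    have h3 := hAn.conj_mem _ h1 (y * x)
    have h4 : y * x * ((y * x)⁻¹ * ⁅x, y⁆ * (y * x)) * (y * x)⁻¹ = ⁅x, y⁆ := by group
    rwa [h4] at h3
  -- the prime
  have hAD1 : A ≤ D1 := le_sup_right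
  have hidx : A.relIndex D1 ≠ 1 := by
    intro h
    rw [Subgroup.relIndex_eq_one] at h
    apply hD0a
    rw [← hmc]
    intro a ha b hb
    exact hAc a (h (mem_sup_left ha)) b (h (mem_sup_left hb))
  obtain ⟨r, hr, hrd⟩ := Nat.exists_prime_and_dvd hidx
  have : Fact r.Prime := ⟨hr⟩
  let D : Subgroup B :=
    { carrier := {x | x ∈ D1 ∧ x ^ r ∈ A}
      one_mem' := ⟨D1.one_mem, by rw [one_pow]; exact A.one_mem⟩
      mul_mem' := by
        rintro x y ⟨hx, hxr⟩ ⟨hy, hyr⟩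
        refine ⟨D1.mul_mem hx hy, ?_⟩
        rw [← QuotientGroup.eq_one_iff, QuotientGroup.mk_pow, QuotientGroup.mk_mul]
        have h1 : Commute (QuotientGroup.mk x : B ⧸ A) (QuotientGroup.mk y) := hmkc x hx y hy
        rw [h1.mul_pow, ← QuotientGroup.mk_pow, ← QuotientGroup.mk_pow, (QuotientGroup.eq_one_iff _).2 hxr,
          (QuotientGroup.eq_one_iff _).2 hyr, one_mul]
      inv_mem' := by
        rintro x ⟨hx, hxr⟩
        exact ⟨D1.inv_mem hx, by rw [inv_pow]; exact A.inv_mem hxr⟩ }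
  have hDmem : ∀ x, x ∈ D ↔ x ∈ D1 ∧ x ^ r ∈ A := fun x => Iff.rfl
  have hDn : D.Normal := ⟨by
    rintro x ⟨hx, hxr⟩ g
    refine ⟨hD1n.conj_mem _ hx g, ?_⟩
    rw [conj_pow]
    exact hAn.conj_mem _ hxr g⟩
  have hAD : A ≤ D := fun a ha => ⟨hAD1 ha, A.pow_mem ha r⟩
  obtain ⟨x0, hx0, hx0A⟩ : ∃ x ∈ D, x ∉ A := by
    have h1 : Nat.card (D1 ⧸ A.subgroupOf D1) = A.relIndex D1 := rfl
    obtain ⟨z, hz⟩ := exists_prime_orderOf_dvd_card' (G := D1 ⧸ A.subgroupOf D1) r (by rw [h1]; exact hrd)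
    obtain ⟨x, rfl⟩ := QuotientGroup.mk_surjective z
    refine ⟨x, ⟨x.2, ?_⟩, ?_⟩
    · have h2 : (QuotientGroup.mk x : D1 ⧸ A.subgroupOf D1) ^ r = 1 := by rw [← hz, pow_orderOf_eq_one]
      rw [← QuotientGroup.mk_pow, QuotientGroup.eq_one_iff, mem_subgroupOf] at h2
      exact h2
    · intro hxA
      have h2 : (QuotientGroup.mk x : D1 ⧸ A.subgroupOf D1) = 1 := (QuotientGroup.eq_one_iff x).2 hxA
      rw [h2, orderOf_one] at hz
      exact hr.one_lt.ne hz
  have hcen : ∀ x ∈ D, (∀ y ∈ D, x * y = y * x) → x ∈ A := by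
    have h1 : D ⊓ centralizer (D : Set B) = A := by
      apply hmax _ inferInstance
      · rintro a ⟨ha1, ha2⟩ b ⟨hb1, hb2⟩
        exact mem_centralizer_iff.1 hb2 a ha1
      · intro a ha
        exact ⟨hAD ha, mem_centralizer_iff.2 fun y hy => hD1C y hy.1 a ha⟩
    intro x hx h
    rw [← h1]
    exact ⟨hx, mem_centralizer_iff.2 fun y hy => (h y hy).symm⟩
  refine ⟨D, r, hr, hDn, hAD, fun x hx => hD1C x hx.1, fun x hx y hy => hD1D x hx.1 y hy.1, hcen, fun x hx => hx.2, ?_,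
    x0, hx0, hx0A⟩
  -- `r` divides the order of `A`
  obtain ⟨y, hy, hxy⟩ : ∃ y ∈ D, x0 * y ≠ y * x0 := by
    by_contra hcon
    push Not at hcon
    exact hx0A (hcen x0 hx0 hcon)
  have hc1 : ⁅x0, y⁆ ∈ A := hD1D x0 hx0.1 y hy.1
  have h2 : ⁅x0, y⁆ ^ r = 1 := by
    rw [← comm_pow_eq (hD1C x0 hx0.1 _ hc1) r]
    exact commutatorElement_eq_one_iff_mul_comm.2 (hD1C y hy.1 _ hx0.2).symm
  have h3 : ⁅x0, y⁆ ≠ 1 := fun h => hxy (commutatorElement_eq_one_iff_mul_comm.1 h)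
  have h4 : orderOf ⁅x0, y⁆ = r := orderOf_eq_prime h2 h3
  have h5 : orderOf (⟨⁅x0, y⁆, hc1⟩ : A) ∣ Nat.card A := orderOf_dvd_natCard _
  rw [Subgroup.orderOf_mk, h4] at h5
  exact h5

/-- a free action -/
theorem card_dvd_of_free {P X : Type*} [Group P] [MulAction P X] [Finite P] [Finite X]
    (h : ∀ (g : P) (x : X), g • x = x → g = 1) : Nat.card P ∣ Nat.card X := by
  have h1 : ∀ x : X, MulAction.stabilizer P x = ⊥ := by
    intro x
    rw [eq_bot_iff]
    intro g hg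
    exact h g x hg
  rw [Nat.card_congr (MulAction.selfEquivOrbitsQuotientProd h1), Nat.card_prod]
  exact dvd_mul_left _ _

/-- the conjugation action on a section -/
noncomputable def secHom {B : Type*} [Group B] (A D : Subgroup B) [hA : A.Normal] [hD : D.Normal] :
    B →* MulAut (D.map (QuotientGroup.mk' A)) :=
  haveI : (D.map (QuotientGroup.mk' A)).Normal := hD.map _ (QuotientGroup.mk'_surjective A)
  (MulAut.conjNormal (H := D.map (QuotientGroup.mk' A))).comp (QuotientGroup.mk' A)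

theorem secHom_apply {B : Type*} [Group B] (A D : Subgroup B) [hA : A.Normal] [hD : D.Normal] (b y : B) (hy : y ∈ D) :
    ((secHom A D b ⟨QuotientGroup.mk y, y, hy, rfl⟩ : D.map (QuotientGroup.mk' A)) : B ⧸ A) =
      QuotientGroup.mk (b * y * b⁻¹) := rfl

theorem secHom_fix {B : Type*} [Group B] (A D : Subgroup B) [hA : A.Normal] [hD : D.Normal] (b y : B) (hy : y ∈ D) :
    secHom A D b ⟨QuotientGroup.mk y, y, hy, rfl⟩ = ⟨QuotientGroup.mk y, y, hy, rfl⟩ ↔ b * y * b⁻¹ * y⁻¹ ∈ A := by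
  rw [Subtype.ext_iff, secHom_apply A D b y hy, eq_comm]
  change (QuotientGroup.mk y : B ⧸ A) = QuotientGroup.mk (b * y * b⁻¹) ↔ _
  rw [QuotientGroup.eq]
  constructor
  · intro h
    have := hA.conj_mem _ h y
    have h2 : y * (y⁻¹ * (b * y * b⁻¹)) * y⁻¹ = b * y * b⁻¹ * y⁻¹ := by group
    rwa [h2] at this
  · intro h
    have := hA.conj_mem _ h y⁻¹
    have h2 : y⁻¹ * (b * y * b⁻¹ * y⁻¹) * y⁻¹⁻¹ = y⁻¹ * (b * y * b⁻¹) := by group
    rwa [h2] at this

theorem card_sec {B : Type*} [Group B] (A D : Subgroup B) [hA : A.Normal] :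
    Nat.card (D.map (QuotientGroup.mk' A)) = A.relIndex D := by
  rw [← Subgroup.relIndex_ker, QuotientGroup.ker_mk']

/-- a subgroup whose nontrivial elements act freely on the nontrivial elements of `D / A` -/
theorem card_dvd_sec {B : Type*} [Group B] [Finite B] (A D : Subgroup B) [hA : A.Normal] [hD : D.Normal] (P : Subgroup B)
    (hP : ∀ g ∈ P, g ≠ 1 → ∀ y ∈ D, g * y * g⁻¹ * y⁻¹ ∈ A → y ∈ A) : Nat.card P ∣ A.relIndex D - 1 := by
  classical
  have : Finite (D.map (QuotientGroup.mk' A)) := inferInstance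
  let X := {u : D.map (QuotientGroup.mk' A) // u ≠ 1}
  let act : MulAction P X :=
    { smul := fun g u => ⟨secHom A D g u.1, fun h => u.2 ((map_eq_one_iff _ (secHom A D (g : B)).injective).1 h)⟩
      one_smul := by
        intro u
        apply Subtype.ext
        change secHom A D ((1 : P) : B) u.1 = u.1
        rw [OneMemClass.coe_one, map_one]
        rfl
      mul_smul := by
        intro g g' u
        apply Subtype.ext
        change secHom A D ((g * g' : P) : B) u.1 = secHom A D g (secHom A D g' u.1)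
        rw [Subgroup.coe_mul, map_mul]
        rfl }
  have h1 := card_dvd_of_free (P := P) (X := X) (by
    intro g u hgu
    by_contra hg
    obtain ⟨⟨u, y, hy, rfl⟩, hu⟩ := u
    have h2 : secHom A D (g : B) ⟨QuotientGroup.mk y, y, hy, rfl⟩ = ⟨QuotientGroup.mk y, y, hy, rfl⟩ :=
      congrArg Subtype.val hgu
    rw [secHom_fix A D g y hy] at h2
    have h3 := hP g g.2 (fun h => hg (Subtype.ext h)) y hy h2
    apply hu
    apply Subtype.ext
    exact (QuotientGroup.eq_one_iff y).2 h3)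
  have h2 : Nat.card X = A.relIndex D - 1 := by
    rw [← card_sec A D]
    have := Fintype.ofFinite (D.map (QuotientGroup.mk' A))
    have h3 : Nat.card X = Fintype.card X := Nat.card_eq_fintype_card
    rw [h3, Fintype.card_subtype_compl, Nat.card_eq_fintype_card]
    congr 1
  rwa [h2] at h1

end H74.Hup
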