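import Mathlib
import Cfsg.Agent.Lib.H53.Zsig
import Cfsg.Agent.Lib.H74.HupD

set_option autoImplicit false
set_option linter.unusedSectionVars false

/-! Elements whose order is a primitive prime divisor. -/

namespace H74.Hup

open Subgroup H16.OddLin H53.Zsig
open scoped commutatorElement

universe u

variable {B : Type*} {E : Type u} [Group B] [Finite B] [AddCommGroup E] [Finite E] [Nontrivial E]
  [DistribMulAction B E] [FaithfulSMul B E]

local notation "T" => DistribMulAction.toAddMonoidEnd B E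

theorem card_mod' {U : Type*} [Finite U] (p : ℕ) [Fact p.Prime] (f : U → U) (hf : ∀ u, f^[p] u = u) :
    Nat.card U ≡ Nat.card {u // f u = u} [MOD p] := by
  classical
  have := Fintype.ofFinite U
  let g : Function.End U := f
  have hp1 : g ^ p ^ 1 = 1 := by
    rw [pow_one]
    funext u
    have h2 : ∀ n : ℕ, g ^ n = f^[n] := by
      intro n
      induction n with
      | zero => rfl
      | succ k ih =>
        rw [pow_succ, ih]
        rfl
    rw [h2]
    exact hf u
  have h2 := Equiv.Perm.card_fixedPoints_modEq hp1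
  rw [Nat.card_eq_fintype_card, Nat.card_eq_fintype_card]
  convert h2
  exact Iff.rfl

theorem smul_iterate (x : B) (n : ℕ) (v : E) : (fun v : E => x • v)^[n] v = x ^ n • v := by
  induction n with
  | zero => simp
  | succ k ih => rw [Function.iterate_succ_apply', ih, pow_succ', mul_smul]

theorem comm_of_irr' (F : Subgroup B) (hFc : ∀ a ∈ F, ∀ b ∈ F, a * b = b * a)
    (hirr : ∀ W : AddSubgroup E, (∀ a ∈ F, ∀ v ∈ W, a • v ∈ W) → W = ⊥ ∨ W = ⊤) {c d : B}
    (hc : ∀ a ∈ F, c * a = a * c) (hd : ∀ a ∈ F, d * a = a * d) : c * d = d * c := by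
  classical
  obtain ⟨v, hv⟩ := exists_ne (0 : E)
  have key : ∀ x : B, (∀ a ∈ F, x * a = a * x) → ∀ r ∈ R (E := E) F, T x * r = r * T x := by
    intro x hx r hr
    rw [R] at hr
    induction hr using Subring.closure_induction with
    | mem s hs => obtain ⟨a, ha, rfl⟩ := hs; rw [← map_mul, ← map_mul, hx a ha]
    | zero => rw [mul_zero, zero_mul]
    | one => rw [mul_one, one_mul]
    | add y z _ _ hy hz => rw [mul_add, add_mul, hy, hz]
    | neg y _ hy => rw [mul_neg, neg_mul, hy]
    | mul y z _ _ hy hz => rw [← mul_assoc, hy, mul_assoc, hz, mul_assoc]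
  let W : AddSubgroup E :=
    { carrier := {w | ∃ r ∈ R (E := E) F, r v = w}
      zero_mem' := ⟨0, Subring.zero_mem _, rfl⟩
      add_mem' := by
        rintro _ _ ⟨r, hr, rfl⟩ ⟨s, hs, rfl⟩
        exact ⟨r + s, Subring.add_mem _ hr hs, rfl⟩
      neg_mem' := by
        rintro _ ⟨r, hr, rfl⟩
        exact ⟨-r, Subring.neg_mem _ hr, rfl⟩ }
  have hWt : W = ⊤ := by
    rcases hirr W (by
      rintro a ha _ ⟨r, hr, rfl⟩
      exact ⟨T a * r, Subring.mul_mem _ (Subring.subset_closure ⟨a, ha, rfl⟩) hr, rfl⟩) with h | h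
    · exfalso
      apply hv
      have h1 : v ∈ W := ⟨1, Subring.one_mem _, rfl⟩
      rw [h] at h1
      exact h1
    · exact h
  have hall : ∀ w : E, ∃ r ∈ R (E := E) F, r v = w := by
    intro w
    have : w ∈ W := by rw [hWt]; trivial
    exact this
  obtain ⟨r, hr, hrc⟩ := hall (c • v)
  obtain ⟨s, hs, hsd⟩ := hall (d • v)
  apply T_inj (E := E)
  ext w
  obtain ⟨t, ht, rfl⟩ := hall w
  change (c * d) • t v = (d * c) • t v
  have hcr : ∀ r ∈ R (E := E) F, ∀ v : E, c • (r v) = r (c • v) := fun r hr v =>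
    congrArg (fun f : AddMonoid.End E => f v) (key c hc r hr)
  have hdr : ∀ r ∈ R (E := E) F, ∀ v : E, d • (r v) = r (d • v) := fun r hr v =>
    congrArg (fun f : AddMonoid.End E => f v) (key d hd r hr)
  have hrs : r (s v) = s (r v) := congrArg (fun f : AddMonoid.End E => f v) (R_comm F hFc hr hs)
  rw [mul_smul, mul_smul, hdr t ht, hcr t ht, hcr t ht, hdr t ht, ← hsd, hcr s hs, ← hrc, hdr r hr, ← hsd, hrs]

section card

variable {q n : ℕ}

theorem card_addSubgroup (hq : q.Prime) (hcard : Nat.card E = q ^ n) (W : AddSubgroup E) : ∃ j ≤ n, Nat.card W = q ^ j := by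
  have h1 : Nat.card W ∣ q ^ n := by rw [← hcard]; exact AddSubgroup.card_addSubgroup_dvd_card W
  obtain ⟨j, hj, h⟩ := (Nat.dvd_prime_pow hq).1 h1
  exact ⟨j, hj, h⟩

theorem fixed_zero (hq : q.Prime) (hcard : Nat.card E = q ^ n) {p : ℕ} (hz : IsZsig p q n) (x : B) (hx : x ^ p = 1)
    (hx1 : x ≠ 1) (v : E) (hv : x • v = v) : v = 0 := by
  have hp : Fact p.Prime := ⟨hz.1⟩
  let F0 : AddSubgroup E :=
    { carrier := {v | x • v = v}
      zero_mem' := smul_zero x
      add_mem' := by
        intro a b ha hb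
        change x • (a + b) = a + b
        rw [smul_add, show x • a = a from ha, show x • b = b from hb]
      neg_mem' := by
        intro a ha
        change x • (-a) = -a
        rw [smul_neg, show x • a = a from ha] }
  have h1 : Nat.card E ≡ Nat.card F0 [MOD p] := card_mod' p (fun v : E => x • v) (fun v => by
    rw [smul_iterate, hx, one_smul])
  obtain ⟨j, hj, hj2⟩ := card_addSubgroup hq hcard F0
  rw [hcard, hj2] at h1
  have hqn : 1 ≤ q ^ n := Nat.one_le_pow _ _ hq.pos
  have hqj : 1 ≤ q ^ j := Nat.one_le_pow _ _ hq.pos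
  have h2 : 1 ≡ q ^ n [MOD p] := (Nat.modEq_iff_dvd' hqn).2 hz.2.1
  have h3 : p ∣ q ^ j - 1 := (Nat.modEq_iff_dvd' hqj).1 (h2.trans h1)
  rcases Nat.eq_zero_or_pos j with h4 | h4
  · rw [h4, pow_zero] at hj2
    have h5 := AddSubgroup.eq_bot_of_card_eq F0 hj2
    have h6 : v ∈ F0 := hv
    rw [h5] at h6
    exact h6
  · rcases Nat.lt_or_ge j n with h5 | h5
    · exact absurd h3 (hz.2.2 j h4 h5)
    · exfalso
      have h6 : j = n := le_antisymm hj h5
      rw [h6, ← hcard] at hj2
      have h7 : F0 = ⊤ := AddSubgroup.eq_top_of_card_eq F0 hj2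
      apply hx1
      apply T_inj (E := E)
      ext w
      have h8 : w ∈ F0 := by rw [h7]; trivial
      change x • w = (1 : B) • w
      rw [one_smul]
      exact h8

theorem irr_zsig (hq : q.Prime) (hcard : Nat.card E = q ^ n) {p : ℕ} (hz : IsZsig p q n) (x : B) (hx : x ^ p = 1)
    (hx1 : x ≠ 1) (W : AddSubgroup E) (hW : ∀ v ∈ W, x • v ∈ W) : W = ⊥ ∨ W = ⊤ := by
  have hp : Fact p.Prime := ⟨hz.1⟩
  have h1 : p ∣ Nat.card W - 1 := by
    apply card_mod p (fun w : W => ⟨x • (w : E), hW w w.2⟩) 0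
    · intro w
      have h2 : ∀ n : ℕ, (((fun w : W => (⟨x • (w : E), hW w w.2⟩ : W))^[n] w : W) : E) = x ^ n • (w : E) := by
        intro n
        induction n with
        | zero => simp
        | succ k ih => rw [Function.iterate_succ_apply', pow_succ', mul_smul, ← ih]
      apply Subtype.ext
      rw [h2, hx, one_smul]
    · apply Subtype.ext
      change x • ((0 : W) : E) = 0
      rw [ZeroMemClass.coe_zero, smul_zero]
    · intro w hw
      exact Subtype.ext (fixed_zero hq hcard hz x hx hx1 w (congrArg Subtype.val hw))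
  obtain ⟨j, hj, hj2⟩ := card_addSubgroup hq hcard W
  rw [hj2] at h1
  rcases Nat.eq_zero_or_pos j with h4 | h4
  · left
    rw [h4, pow_zero] at hj2
    exact AddSubgroup.eq_bot_of_card_eq W hj2
  · right
    rcases Nat.lt_or_ge j n with h5 | h5
    · exact absurd h1 (hz.2.2 j h4 h5)
    · have h6 : j = n := le_antisymm hj h5
      rw [h6, ← hcard] at hj2
      exact AddSubgroup.eq_top_of_card_eq W hj2

theorem comm_zsig (hq : q.Prime) (hcard : Nat.card E = q ^ n) {p : ℕ} (hz : IsZsig p q n) (x : B) (hx : x ^ p = 1)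
    (hx1 : x ≠ 1) {c d : B} (hc : x * c = c * x) (hd : x * d = d * x) : c * d = d * c := by
  apply comm_of_irr' (E := E) (zpowers x)
  · rintro _ ⟨i, rfl⟩ _ ⟨j, rfl⟩
    exact ((Commute.refl x).zpow_zpow i j)
  · intro W hW
    exact irr_zsig hq hcard hz x hx hx1 W (fun v hv => hW x (mem_zpowers x) v hv)
  · rintro _ ⟨i, rfl⟩
    exact ((show Commute c x from hc.symm).zpow_right i)
  · rintro _ ⟨i, rfl⟩
    exact ((show Commute d x from hd.symm).zpow_right i)

/-- `p > n` -/
theorem lt_of_zsig (hq : q.Prime) (hn : 0 < n) {p : ℕ} (hz : IsZsig p q n) : n ∣ p - 1 ∧ n < p := by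
  have hp : Fact p.Prime := ⟨hz.1⟩
  have h1 := (isZsig_iff hq.one_lt hn hz.1).1 hz
  have h2 : (q : ZMod p) ≠ 0 := by
    intro h0
    rw [h0] at h1
    have : orderOf (0 : ZMod p) = 0 := by
      rw [orderOf_eq_zero_iff']
      intro m hm h
      rw [zero_pow (by omega)] at h
      exact zero_ne_one h
    omega
  have h3 : orderOf (q : ZMod p) ∣ p - 1 := orderOf_dvd_of_pow_eq_one (ZMod.pow_card_sub_one_eq_one h2)
  rw [h1] at h3
  have h4 := hz.1.one_lt
  exact ⟨h3, by have := Nat.le_of_dvd (by omega) h3; omega⟩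

end card

variable {A D : Subgroup B} {K : Type u} [Field K] {ρ : K →+* AddMonoid.End E}

theorem Dat.card_A_dvd (h : Dat A D ρ) [Finite K] : Nat.card A ∣ Nat.card K - 1 := by
  classical
  have := Fintype.ofFinite K
  have h1 : ∀ a : A, ∃ k : K, ρ k = T (a : B) := fun a => h.hA a a.2
  choose f hf using h1
  let g : A →* K :=
    { toFun := f
      map_one' := by
        apply h.inj
        rw [hf, map_one]
        exact map_one T
      map_mul' := by
        intro a b
        apply h.inj
        rw [hf, map_mul, hf, hf, ← map_mul]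
        rfl }
  have hg : Function.Injective g.toHomUnits := by
    intro a b hab
    have h2 : g a = g b := congrArg Units.val hab
    have h3 : T (a : B) = T (b : B) := by rw [← hf, ← hf]; exact congrArg ρ h2
    exact Subtype.ext (T_inj h3)
  have h2 := Subgroup.card_dvd_of_injective g.toHomUnits hg
  rwa [Nat.card_units] at h2

theorem relIndex_pow (hAn : A.Normal) {r : ℕ} (hr : r.Prime) (hxr : ∀ x ∈ D, x ^ r ∈ A) : ∃ k, A.relIndex D = r ^ k := by
  have : Fact r.Prime := ⟨hr⟩
  have h1 : IsPGroup r (D ⧸ A.subgroupOf D) := by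
    intro z
    obtain ⟨x, rfl⟩ := QuotientGroup.mk_surjective z
    refine ⟨1, ?_⟩
    rw [pow_one, ← QuotientGroup.mk_pow, QuotientGroup.eq_one_iff, mem_subgroupOf]
    exact hxr x x.2
  exact IsPGroup.iff_card.1 h1

theorem Dat.commute_of (h : Dat A D ρ) [Finite K] {m : ℕ} (hm : Nat.card (RingAut K) = m) (hm0 : 0 < m) (x : B) {p : ℕ}
    (hp : p.Prime) (hx : x ^ p = 1) (hmp : m < p) : ∀ a ∈ A, x * a = a * x := by
  obtain ⟨s, hs⟩ := exists_aut ρ h.inj h.hconj
  have hfin : Finite (RingAut K) := Finite.of_injective (fun f : RingAut K => (f : K → K)) DFunLike.coe_injective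
  have h1 : s x = 1 := by
    have h2 : s x ^ p = 1 := by rw [← map_pow, hx, map_one]
    rcases (Nat.dvd_prime hp).1 (orderOf_dvd_of_pow_eq_one h2) with h3 | h3
    · exact orderOf_eq_one_iff.1 h3
    · exfalso
      have h4 : orderOf (s x) ∣ Nat.card (RingAut K) := orderOf_dvd_natCard _
      rw [h3, hm] at h4
      have := Nat.le_of_dvd hm0 h4
      omega
  intro a ha
  obtain ⟨k, hk⟩ := h.hA a ha
  have h2 := hs x k
  have h3 : s x k = k := by rw [h1]; rfl
  rw [h3, hk] at h2
  apply T_inj (E := E)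
  rw [map_mul, map_mul]
  have h4 : T x⁻¹ * T x = 1 := by rw [← map_mul, inv_mul_cancel, map_one]
  calc T x * T a = (T x * T a * T x⁻¹) * T x := by rw [mul_assoc (T x * _), h4, mul_one]
    _ = _ := by rw [← h2]

end H74.Hup
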