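import Mathlib
import Cfsg.Agent.Lib.H15.LinFpf
import Cfsg.Agent.Lib.H16.OddLin2
import Cfsg.Agent.Lib.H5.IndexTwo

set_option autoImplicit false
set_option linter.unusedSectionVars false

/-! Linear groups transitive on nonzero vectors with an irreducible abelian normal subgroup; index two subgroups. -/

namespace H74.Semi

section irred
variable {p : ℕ} [Fact p.Prime] {V : Type*} [AddCommGroup V] [Module (ZMod p) V]

theorem comm_of_irred [Nontrivial V] {H : Subgroup (V ≃ₗ[ZMod p] V)} (A : Subgroup H)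
    (hA : ∀ a ∈ A, ∀ b ∈ A, a * b = b * a)
    (hirr : ∀ W : Submodule (ZMod p) V, (∀ a ∈ A, ∀ v ∈ W, ((a : H) : V ≃ₗ[ZMod p] V) v ∈ W) → W = ⊥ ∨ W = ⊤)
    (c d : H) (hc : ∀ a ∈ A, c * a = a * c) (hd : ∀ a ∈ A, d * a = a * d) : c * d = d * c := by
  classical
  obtain ⟨v, hv⟩ := exists_ne (0 : V)
  let f : H → Module.End (ZMod p) V := fun h => ((h : V ≃ₗ[ZMod p] V) : V →ₗ[ZMod p] V)
  have hf : ∀ x y : H, f (x * y) = f x * f y := fun x y => rfl
  let S : Set (Module.End (ZMod p) V) := f '' (A : Set H)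
  have key : ∀ x : Module.End (ZMod p) V, (∀ a ∈ A, x * f a = f a * x) → ∀ r ∈ Algebra.adjoin (ZMod p) S, x * r = r * x := by
    intro x hx r hr
    induction hr using Algebra.adjoin_induction with
    | mem s hs => obtain ⟨a, ha, rfl⟩ := hs; exact hx a ha
    | algebraMap t => exact (Algebra.commutes t x).symm
    | add y z _ _ hy hz => rw [mul_add, add_mul, hy, hz]
    | mul y z _ _ hy hz => rw [← mul_assoc, hy, mul_assoc, hz, mul_assoc]
  have hcr : ∀ r ∈ Algebra.adjoin (ZMod p) S, f c * r = r * f c := key (f c) (fun a ha => by rw [← hf, ← hf, hc a ha])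
  have hdr : ∀ r ∈ Algebra.adjoin (ZMod p) S, f d * r = r * f d := key (f d) (fun a ha => by rw [← hf, ← hf, hd a ha])
  have hrr : ∀ r ∈ Algebra.adjoin (ZMod p) S, ∀ s ∈ Algebra.adjoin (ZMod p) S, r * s = s * r := by
    intro r hr
    apply key
    intro a ha
    exact (key (f a) (fun b hb => by rw [← hf, ← hf, hA a ha b hb]) r hr).symm
  let W : Submodule (ZMod p) V := (Subalgebra.toSubmodule (Algebra.adjoin (ZMod p) S)).map
    ((LinearMap.applyₗ v : Module.End (ZMod p) V →ₗ[ZMod p] V))
  have hWmem : ∀ w, w ∈ W ↔ ∃ r ∈ Algebra.adjoin (ZMod p) S, r v = w := by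
    intro w
    rfl
  have hWtop : W = ⊤ := by
    rcases hirr W (by
      intro a ha w hw
      obtain ⟨r, hr, rfl⟩ := (hWmem w).1 hw
      rw [hWmem]
      exact ⟨f a * r, Subalgebra.mul_mem _ (Algebra.subset_adjoin ⟨a, ha, rfl⟩) hr, rfl⟩) with h | h
    · exfalso
      apply hv
      have h1 : v ∈ W := by rw [hWmem]; exact ⟨1, Subalgebra.one_mem _, rfl⟩
      rw [h] at h1
      exact h1
    · exact h
  have hall : ∀ w : V, ∃ r ∈ Algebra.adjoin (ZMod p) S, r v = w := by
    intro w
    rw [← hWmem, hWtop]; trivial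
  obtain ⟨r, hr, hrc⟩ := hall (f c v)
  obtain ⟨s, hs, hsd⟩ := hall (f d v)
  have h1 : f c * f d = f d * f c := by
    apply LinearMap.ext
    intro w
    obtain ⟨t, ht, rfl⟩ := hall w
    have e1 : (f c * f d) (t v) = (t * s * r) v := by
      have : (f c * f d) (t v) = (f c * f d * t) v := rfl
      rw [this, mul_assoc, hdr t ht, ← mul_assoc, hcr t ht, mul_assoc]
      change t (f c (f d v)) = t (s (r v))
      rw [← hsd, hrc]
      congr 1
      exact congrArg (fun g : Module.End (ZMod p) V => g v) (hcr s hs)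
    have e2 : (f d * f c) (t v) = (t * r * s) v := by
      have : (f d * f c) (t v) = (f d * f c * t) v := rfl
      rw [this, mul_assoc, hcr t ht, ← mul_assoc, hdr t ht, mul_assoc]
      change t (f d (f c v)) = t (r (s v))
      rw [← hrc, hsd]
      congr 1
      exact congrArg (fun g : Module.End (ZMod p) V => g v) (hdr r hr)
    rw [e1, e2, mul_assoc, hrr s hs r hr, ← mul_assoc]
  apply Subtype.ext
  apply LinearEquiv.ext
  intro w
  exact congrArg (fun g : Module.End (ZMod p) V => g w) h1

end irred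

section two

variable {G : Type*} [Group G] [Finite G]

/-- Burnside: a Sylow 2-subgroup in the centre of its normalizer, even order: index two subgroup. -/
theorem index_two_of_burnside (heven : 2 ∣ Nat.card G) [Fact (Nat.Prime 2)] (P : Sylow 2 G)
    (hP : Subgroup.normalizer ((P : Subgroup G) : Set G) ≤ Subgroup.centralizer ((P : Subgroup G) : Set G)) :
    ∃ N : Subgroup G, N.Normal ∧ N.index = 2 := by
  have hc := MonoidHom.ker_transferSylow_isComplement' P hP
  have h3 := hc.symm.index_eq_card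
  obtain ⟨n, hn⟩ := IsPGroup.iff_card.mp P.2
  have h4 : n ≠ 0 := by
    rintro rfl
    have h5 : Nat.card (P : Subgroup G) = 1 := by rw [hn, pow_zero]
    have h6 := P.dvd_card_of_dvd_card heven
    rw [h5] at h6
    omega
  obtain ⟨k, rfl⟩ := Nat.exists_eq_succ_of_ne_zero h4
  obtain ⟨H, -, hH⟩ := H5.IndexTwo.exists_index_two_of_normal _ k (h3.trans hn)
  exact ⟨H, Subgroup.normal_of_index_eq_two hH, hH⟩

theorem index_two_of_comm (heven : 2 ∣ Nat.card G) (hc : ∀ a b : G, a * b = b * a) :
    ∃ N : Subgroup G, N.Normal ∧ N.index = 2 := by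
  have : Fact (Nat.Prime 2) := ⟨Nat.prime_two⟩
  obtain ⟨P⟩ : Nonempty (Sylow 2 G) := inferInstance
  apply index_two_of_burnside heven P
  intro x _
  rw [Subgroup.mem_centralizer_iff]
  intro y _
  exact hc y x

theorem index_two_of_quot (C : Subgroup G) [C.Normal] (heven : 2 ∣ C.index) (hc : ∀ a b : G ⧸ C, a * b = b * a) :
    ∃ N : Subgroup G, N.Normal ∧ N.index = 2 := by
  obtain ⟨N, hN, hi⟩ := index_two_of_comm (G := G ⧸ C) heven hc
  refine ⟨N.comap (QuotientGroup.mk' C), inferInstance, ?_⟩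
  rw [Subgroup.index_comap_of_surjective _ (QuotientGroup.mk'_surjective C)]
  exact hi

theorem index_two_of_hom {M : Type*} [Group M] (f : G →* M) (heven : 2 ∣ Nat.card f.range)
    (hc : ∀ a b : M, a * b = b * a) : ∃ N : Subgroup G, N.Normal ∧ N.index = 2 := by
  have hs : Function.Surjective f.rangeRestrict := f.rangeRestrict_surjective
  have : Finite f.range := Finite.of_surjective _ hs
  obtain ⟨N, hN, hi⟩ := index_two_of_comm (G := f.range) heven (fun a b => Subtype.ext (hc a b))
  refine ⟨N.comap f.rangeRestrict, inferInstance, ?_⟩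
  rw [Subgroup.index_comap_of_surjective _ hs]
  exact hi

end two

section semi
variable {p : ℕ} [Fact p.Prime] {V : Type*} [AddCommGroup V] [Module (ZMod p) V]

theorem transport {V H K K' : Type*} [AddCommGroup V] [Group H] [Field K] [Field K'] (φ : V ≃+ K) (s : H →* RingAut K)
    (θ : K ≃+* K') : ∃ (e : V ≃+ K') (s' : H →* RingAut K'), s'.ker = s.ker ∧
      ∀ (g : H) (f : V → V) (c : K), (∀ v : V, φ (f v) = c * s g (φ v)) → ∃ c' : K', ∀ v : V, e (f v) = c' * s' g (e v) := by
  let s' : H →* RingAut K' :=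
    { toFun := fun h => (θ.symm.trans (s h)).trans θ
      map_one' := by
        ext x
        change θ (s 1 (θ.symm x)) = x
        rw [map_one]
        exact θ.apply_symm_apply x
      map_mul' := by
        intro a b
        ext x
        change θ (s (a * b) (θ.symm x)) = θ (s a (θ.symm (θ (s b (θ.symm x)))))
        rw [map_mul, θ.symm_apply_apply]
        rfl }
  refine ⟨φ.trans θ.toAddEquiv, s', ?_, ?_⟩
  · ext h
    rw [MonoidHom.mem_ker, MonoidHom.mem_ker]
    constructor
    · intro hh
      ext x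
      have h1 : θ (s h (θ.symm (θ x))) = θ x := congrArg (fun g : RingAut K' => g (θ x)) hh
      rw [θ.symm_apply_apply] at h1
      exact θ.injective h1
    · intro hh
      ext x
      change θ (s h (θ.symm x)) = x
      rw [hh]
      exact θ.apply_symm_apply x
  · intro g f c hc
    refine ⟨θ c, fun v => ?_⟩
    change θ (φ (f v)) = θ c * θ (s g (θ.symm (θ (φ v))))
    rw [θ.symm_apply_apply, hc, map_mul]

/-- the semilinear structure -/
theorem semilinear [Finite V] [Nontrivial V] (H : Subgroup (V ≃ₗ[ZMod p] V))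
    (htr : ∀ v w : V, v ≠ 0 → w ≠ 0 → ∃ h : H, (h : V ≃ₗ[ZMod p] V) v = w) (A : Subgroup H) [A.Normal]
    (hA : ∀ a ∈ A, ∀ b ∈ A, a * b = b * a)
    (hirr : ∀ W : Submodule (ZMod p) V, (∀ a ∈ A, ∀ v ∈ W, ((a : H) : V ≃ₗ[ZMod p] V) v ∈ W) → W = ⊥ ∨ W = ⊤) :
    ∃ (F : Type) (_ : Field F) (_ : Fintype F) (e : V ≃+ F) (s : H →* RingAut F),
      s.ker = Subgroup.centralizer (A : Set H) ∧ (∀ a ∈ s.ker, ∀ b ∈ s.ker, a * b = b * a) ∧
        ∀ g : H, ∃ c : F, ∀ v : V, e ((g : V ≃ₗ[ZMod p] V) v) = c * s g (e v) := by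
  classical
  have hp : p.Prime := Fact.out
  have : Finite (V ≃ₗ[ZMod p] V) :=
    Finite.of_injective (fun e : V ≃ₗ[ZMod p] V => (e : V → V)) DFunLike.coe_injective
  have hcomm : ∀ a ∈ Subgroup.centralizer (A : Set H), ∀ b ∈ Subgroup.centralizer (A : Set H), a * b = b * a := by
    intro a ha b hb
    rw [Subgroup.mem_centralizer_iff] at ha hb
    exact comm_of_irred A hA hirr a b (fun x hx => (ha x hx).symm) (fun x hx => (hb x hx).symm)
  have : FaithfulSMul H V := ⟨by
    intro a b hab
    apply Subtype.ext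
    exact LinearEquiv.ext hab⟩
  have hn : (Subgroup.centralizer (A : Set H)).Normal := inferInstance
  obtain ⟨K, iK, iKf, φ, s, hker, hs⟩ := H16.OddLin.semilinear (B := H) (E := V)
    (fun x y hx hy => htr x y hx hy) (Subgroup.centralizer (A : Set H)) hcomm (by
      intro b hb
      rw [Subgroup.mem_centralizer_iff]
      intro a ha
      refine (hb a ?_).symm
      rw [Subgroup.mem_centralizer_iff]
      intro x hx
      exact hA x hx a ha) hp (fun e => by
        have := ZModModule.char_nsmul_eq_zero (n := p) e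
        exact this)
  -- transport to `Type`
  have := Fintype.ofFinite K
  obtain ⟨q', hq'⟩ := CharP.exists K
  obtain ⟨n, hq'p, hn'⟩ := FiniteField.card K q'
  have : Fact q'.Prime := ⟨hq'p⟩
  have := Fintype.ofFinite (GaloisField q' n)
  have hcard : Fintype.card K = Fintype.card (GaloisField q' n) := by
    rw [hn', ← Nat.card_eq_fintype_card (α := GaloisField q' n), GaloisField.card q' n n.ne_zero]
  let θ : K ≃+* GaloisField q' n := FiniteField.ringEquivOfCardEq hcard
  obtain ⟨e, s', h1, h2⟩ := transport φ s θ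
  refine ⟨GaloisField q' n, inferInstance, inferInstance, e, s', h1.trans hker, ?_, ?_⟩
  · rw [h1, hker]; exact hcomm
  · intro g
    obtain ⟨c, hc⟩ := hs g
    exact h2 g (fun v => (g : V ≃ₗ[ZMod p] V) v) c hc

end semi

end H74.Semi
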