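import Mathlib
import Cfsg.Agent.Lib.H74.HupZ
import Cfsg.Agent.Lib.H74.Semi

set_option autoImplicit false
set_option linter.unusedSectionVars false

/-! Huppert's theorem on solvable groups transitive on nonzero vectors. -/

namespace H74.Hup

open Subgroup H16.OddLin H53.Zsig
open scoped commutatorElement

universe u

section arith

theorem sq_bound {s u d n : ℕ} {p : ℕ} (hp : p.Prime) (hsd : s ≤ d) (hdn : d ≤ n) (hnp : n < p) (hu : 1 < u ^ 2)
    (hpu : p ∣ u ^ 2 - 1) (hle : u ^ 2 ≤ s ^ 2) : u = n ∧ s = n ∧ d = n ∧ p = n + 1 := by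
  have h1 : u ≤ s := (Nat.pow_le_pow_iff_left (by norm_num)).1 hle
  have h2 : 1 < u := by
    by_contra h
    have : u ≤ 1 := by omega
    interval_cases u <;> simp at hu
  obtain ⟨w, rfl⟩ : ∃ w, u = w + 1 := ⟨u - 1, by omega⟩
  have h3 : (w + 1) ^ 2 - 1 = w * (w + 2) := by
    have : (w + 1) ^ 2 = w * (w + 2) + 1 := by ring
    omega
  rw [h3] at hpu
  rcases (Nat.Prime.dvd_mul hp).1 hpu with h4 | h4
  · have := Nat.le_of_dvd (by omega) h4
    omega
  · have := Nat.le_of_dvd (by omega) h4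
    omega

/-- the final arithmetic in the case of a power of two -/
theorem arith_final {q n j : ℕ} (hq : q.Prime) (hq2 : q ≠ 2) (hn : n = 2 ^ j) (hn3 : 3 ≤ n)
    (hz : ∀ p, IsZsig p q n → p = n + 1) (hsq : ¬ (n + 1) ^ 2 ∣ q ^ n - 1) : q ^ n = 81 := by
  have hj : 2 ≤ j := by
    by_contra h
    have : j ≤ 1 := by omega
    interval_cases j <;> omega
  obtain ⟨i, rfl⟩ : ∃ i, j = i + 2 := ⟨j - 2, by omega⟩
  -- n = 2 k, k = 2 l
  obtain ⟨l, hl⟩ : ∃ l, l = 2 ^ i := ⟨_, rfl⟩
  have hn4 : n = 4 * l := by rw [hn, hl, pow_add]; ring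
  have hl1 : 1 ≤ l := by rw [hl]; exact Nat.one_le_two_pow
  have hqodd : q % 2 = 1 := by
    have := hq.eq_two_or_odd
    omega
  have hfac : q ^ n - 1 = (q ^ (2 * l) - 1) * (q ^ (2 * l) + 1) := by
    have h1 : 1 ≤ q ^ (2 * l) := Nat.one_le_pow _ _ hq.pos
    obtain ⟨w, hw⟩ : ∃ w, q ^ (2 * l) = w + 1 := ⟨q ^ (2 * l) - 1, by omega⟩
    have h2 : q ^ n = q ^ (2 * l) * q ^ (2 * l) := by rw [← pow_add, hn4]; congr 1; ring
    rw [h2, hw]
    have : (w + 1) * (w + 1) = w * (w + 1 + 1) + 1 := by ring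
    rw [this]
    simp
  -- primes dividing N
  have hprime : ∀ p, p.Prime → p ∣ q ^ (2 * l) + 1 → p = 2 ∨ p = n + 1 := by
    intro p hp hpd
    by_cases hp2 : p = 2
    · exact Or.inl hp2
    right
    apply hz
    refine ⟨hp, by rw [hfac]; exact dvd_mul_of_dvd_right hpd _, ?_⟩
    have hpf : Fact p.Prime := ⟨hp⟩
    have h1 : ((q : ZMod p)) ^ (2 * l) = -1 := by
      rw [eq_neg_iff_add_eq_zero]
      have : ((q ^ (2 * l) + 1 : ℕ) : ZMod p) = 0 := (ZMod.natCast_eq_zero_iff _ _).2 hpd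
      push_cast at this
      exact this
    have hne : (-1 : ZMod p) ≠ 1 := by
      intro h
      have h2 : ((2 : ℕ) : ZMod p) = 0 := by
        have : (1 : ZMod p) + 1 = 0 := by nth_rewrite 1 [← h]; ring
        push_cast
        rw [← this]; norm_num
      rw [ZMod.natCast_eq_zero_iff] at h2
      exact hp2 ((Nat.prime_dvd_prime_iff_eq hp Nat.prime_two).1 h2)
    have hord : orderOf (q : ZMod p) = 2 ^ (i + 1 + 1) := by
      apply orderOf_eq_prime_pow
      · have : 2 ^ (i + 1) = 2 * l := by rw [hl, pow_succ]; ring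
        rw [this, h1]
        exact hne
      · have : 2 ^ (i + 1 + 1) = 2 * l * 2 := by rw [hl, pow_succ, pow_succ]; ring
        rw [this, pow_mul, h1]; norm_num
    intro k hk hkn hdv
    have h2 : (q : ZMod p) ^ k = 1 := by
      have h3 : 1 ≤ q ^ k := Nat.one_le_pow _ _ hq.pos
      have h4 : ((q ^ k - 1 : ℕ) : ZMod p) = 0 := (ZMod.natCast_eq_zero_iff _ _).2 hdv
      rw [Nat.cast_sub h3] at h4
      push_cast at h4
      exact sub_eq_zero.1 h4
    have h5 := Nat.le_of_dvd hk (orderOf_dvd_of_pow_eq_one h2)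
    rw [hord] at h5
    omega
  -- N = 2 N', N' odd
  have hmod : (q ^ (2 * l) + 1) % 4 = 2 := by
    have h1 : q ^ (2 * l) % 4 = 1 := by
      rw [pow_mul, Nat.pow_mod]
      have h2 : q ^ 2 % 4 = 1 := by
        have h3 : q % 4 = 1 ∨ q % 4 = 3 := by omega
        rcases h3 with h3 | h3 <;> simp [Nat.pow_mod, h3]
      rw [h2, one_pow]
      norm_num
    omega
  obtain ⟨N', hN'⟩ : ∃ N', q ^ (2 * l) + 1 = 2 * N' := ⟨(q ^ (2 * l) + 1) / 2, by omega⟩
  have hN'odd : N' % 2 = 1 := by omega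
  have hN'le : N' ≤ n + 1 := by
    by_cases h1 : N' = 1
    · omega
    obtain ⟨p, hp, hpd⟩ := Nat.exists_prime_and_dvd h1
    have h2 := hprime p hp (by rw [hN']; exact dvd_mul_of_dvd_right hpd 2)
    have hp2 : p ≠ 2 := by
      rintro rfl
      omega
    have h3 : p = n + 1 := h2.resolve_left hp2
    obtain ⟨N'', hN''⟩ := hpd
    have h4 : N'' = 1 := by
      by_contra h5
      obtain ⟨p', hp', hpd'⟩ := Nat.exists_prime_and_dvd h5
      have h6 := hprime p' hp' (by rw [hN', hN'']; exact dvd_mul_of_dvd_right (dvd_mul_of_dvd_right hpd' p) 2)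
      have hp2' : p' ≠ 2 := by
        rintro rfl
        obtain ⟨c, hc⟩ := hpd'
        have : N' = 2 * (p * c) := by rw [hN'', hc]; ring
        omega
      have h7 : p' = n + 1 := h6.resolve_left hp2'
      apply hsq
      rw [hfac, hN', hN'', h3]
      obtain ⟨c, hc⟩ := hpd'
      rw [hc, h7]
      exact ⟨(q ^ (2 * l) - 1) * (2 * c), by ring⟩
    rw [hN'', h4, h3]; omega
  have hle : q ^ (2 * l) ≤ 8 * l + 1 := by omega
  have hq3 : 3 ≤ q := by
    have := hq.two_le
    omega
  have h9 : 9 ^ l ≤ 8 * l + 1 := by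
    calc 9 ^ l = 3 ^ (2 * l) := by rw [pow_mul]; norm_num
      _ ≤ q ^ (2 * l) := Nat.pow_le_pow_left hq3 _
      _ ≤ _ := hle
  have hl2 : l < 2 := by
    by_contra h
    have h10 : ∀ k : ℕ, 8 * (k + 2) + 1 < 9 ^ (k + 2) := by
      intro k
      induction k with
      | zero => norm_num
      | succ k ih =>
        rw [show k + 1 + 2 = (k + 2) + 1 from rfl, pow_succ]
        omega
    have := h10 (l - 2)
    have h11 : l - 2 + 2 = l := by omega
    rw [h11] at this
    omega
  have hl3 : l = 1 := by omega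
  rw [hl3] at hle hn4
  have hq4 : q = 3 := by
    have h12 : q ^ 2 ≤ 9 := by simpa using hle
    have : q ≤ 3 := by nlinarith
    omega
  rw [hn4, hq4]; norm_num

theorem q_cases {q : ℕ} (hq : q.Prime) (hq2 : q ≠ 2) (h : q + 1 ∣ 24) : q ^ 2 ∈ ({9, 25, 49, 121, 529, 81} : Set ℕ) := by
  have h6 : q + 1 ≤ 24 := Nat.le_of_dvd (by norm_num) h
  have h7 : q ≤ 23 := by omega
  interval_cases q <;> simp_all <;> revert hq <;> norm_num

end arith

section main

variable {B : Type*} {E : Type u} [Group B] [Finite B] [AddCommGroup E] [Finite E] [Nontrivial E]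
  [DistribMulAction B E] [FaithfulSMul B E]

local notation "T" => DistribMulAction.toAddMonoidEnd B E

theorem card_dvd_of_trans (htr : ∀ x y : E, x ≠ 0 → y ≠ 0 → ∃ b : B, b • x = y) : Nat.card E - 1 ∣ Nat.card B := by
  classical
  obtain ⟨v, hv⟩ := exists_ne (0 : E)
  have h1 : MulAction.orbit B v = {w : E | w ≠ 0} := by
    ext w
    constructor
    · rintro ⟨b, rfl⟩ h
      apply hv
      have := congrArg (fun z => b⁻¹ • z) h
      simpa using this
    · intro hw
      exact htr v w hv hw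
  have h2 : Nat.card (MulAction.orbit B v) = Nat.card E - 1 := by
    rw [h1]
    have := Fintype.ofFinite E
    have h3 : Nat.card {w : E | w ≠ 0} = Fintype.card {w : E // w ≠ 0} := Nat.card_eq_fintype_card
    rw [h3, Fintype.card_subtype_compl, Nat.card_eq_fintype_card]
    congr 1
  rw [← h2]
  have h3 := MulAction.index_stabilizer B v
  rw [Set.ncard_def] at h3
  have h4 := (MulAction.stabilizer B v).index_dvd_card
  rw [h3] at h4
  exact h4

variable {A D : Subgroup B} {K : Type u} [Field K] {ρ : K →+* AddMonoid.End E}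

/-- the common situation -/
structure Sit (A D : Subgroup B) (ρ : K →+* AddMonoid.End E) (q n m s d r k : ℕ) : Prop where
  dat : Dat A D ρ
  An : A.Normal
  Dn : D.Normal
  hq : q.Prime
  hr : r.Prime
  cE : Nat.card E = q ^ n
  cK : Nat.card K = q ^ m
  cR : Nat.card (RingAut K) = m
  nmd : n = m * d
  m0 : 0 < m
  rel : A.relIndex D = s ^ 2
  rel' : A.relIndex D = r ^ k
  rA : r ∣ Nat.card A
  s1 : 1 < s
  sd : s ≤ d
  full : s = d → ∀ b : B, (∀ x ∈ D, b * x = x * b) → ∃ k : K, ρ k = T b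
  tr : ∀ x y : E, x ≠ 0 → y ≠ 0 → ∃ b : B, b • x = y

variable {q n m s d r k : ℕ}

theorem Sit.rs (S : Sit A D ρ q n m s d r k) : r ∣ s := by
  have h1 : s ^ 2 = r ^ k := by rw [← S.rel, S.rel']
  have h2 : k ≠ 0 := by
    rintro rfl
    rw [pow_zero] at h1
    have := S.s1
    nlinarith
  exact S.hr.dvd_of_dvd_pow (h1 ▸ dvd_pow_self r h2)

theorem Sit.dn (S : Sit A D ρ q n m s d r k) : d ≤ n := by
  rw [S.nmd]; exact Nat.le_mul_of_pos_left _ S.m0

theorem Sit.rK [Finite K] (S : Sit A D ρ q n m s d r k) : r ∣ q ^ m - 1 := by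
  rw [← S.cK]; exact S.rA.trans S.dat.card_A_dvd

theorem Sit.mn (S : Sit A D ρ q n m s d r k) : m < n := by
  have h1 := S.s1
  have h2 := S.sd
  have h3 := S.m0
  rw [S.nmd]
  nlinarith

theorem Sit.zsig [Finite K] (S : Sit A D ρ q n m s d r k) {p : ℕ} (hz : IsZsig p q n) :
    s = n ∧ d = n ∧ p = n + 1 ∧ ∀ x : B, x ^ p = 1 → x ≠ 1 → ∀ y ∈ D, x * y * x⁻¹ * y⁻¹ ∈ A → y ∈ A := by
  have hp : Fact p.Prime := ⟨hz.1⟩
  have hn : 0 < n := by have := S.mn; omega
  obtain ⟨-, hnp⟩ := lt_of_zsig S.hq hn hz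
  have hmn := S.mn
  have hpK : ¬ p ∣ q ^ m - 1 := hz.2.2 m S.m0 hmn
  have hpA : ¬ p ∣ Nat.card A := by
    intro h
    apply hpK
    rw [← S.cK]
    exact h.trans S.dat.card_A_dvd
  have hpr : p ≠ r := by
    rintro rfl
    exact hpA S.rA
  have hpD : ¬ p ∣ A.relIndex D := by
    intro h
    rw [S.rel'] at h
    exact hpr ((Nat.prime_dvd_prime_iff_eq hz.1 S.hr).1 (hz.1.dvd_of_dvd_pow h))
  have key : ∀ x : B, x ^ p = 1 → x ≠ 1 → (s = n ∧ d = n ∧ p = n + 1) ∧ ∀ y ∈ D, x * y * x⁻¹ * y⁻¹ ∈ A → y ∈ A := by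
    intro x hx hx1
    have hxA := S.dat.commute_of S.cR S.m0 x hz.1 hx (by omega)
    have hxD : ∃ y ∈ D, x * y ≠ y * x := by
      by_contra hcon
      push Not at hcon
      have h1 : ∀ a ∈ D, a ∈ A := by
        intro a ha
        apply S.dat.cen a ha
        intro y hy
        exact comm_zsig S.hq S.cE hz x hx hx1 (hcon a ha) (hcon y hy)
      have h2 : A.relIndex D = 1 := Subgroup.relIndex_eq_one.2 h1
      have h3 := S.rel
      have h4 := S.s1
      rw [h2] at h3
      nlinarith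
    obtain ⟨t, ht1, htp, hle, hcase, hfree⟩ := S.dat.exists_t S.An S.Dn x p hx hxA hpA hpD hxD
    rw [S.rel] at hle hcase hfree
    rcases hcase with h1 | ⟨u, hu⟩
    · exfalso
      have h2 : t ≤ s := (Nat.pow_le_pow_iff_left (by norm_num)).1 h1
      have h3 := Nat.le_of_dvd (by omega) htp
      have h4 := S.sd
      have h5 := S.dn
      omega
    · rw [hu] at ht1 htp hle
      obtain ⟨h1, h2, h3, h4⟩ := sq_bound hz.1 S.sd S.dn hnp ht1 htp hle
      refine ⟨⟨h2, h3, h4⟩, hfree ?_⟩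
      rw [hu, h1, h2]
  -- existence
  have hpB : p ∣ Nat.card B := by
    refine Dvd.dvd.trans ?_ (card_dvd_of_trans S.tr)
    rw [S.cE]
    exact hz.2.1
  obtain ⟨x, hx⟩ := exists_prime_orderOf_dvd_card' (G := B) p hpB
  have hx1 : x ≠ 1 := by
    rintro rfl
    rw [orderOf_one] at hx
    exact hz.1.one_lt.ne hx
  obtain ⟨⟨h1, h2, h3⟩, -⟩ := key x (by rw [← hx, pow_orderOf_eq_one]) hx1
  exact ⟨h1, h2, h3, fun x hx hx1 => (key x hx hx1).2⟩

theorem Sit.case_zsig [Finite K] (S : Sit A D ρ q n m s d r k) (hn3 : 3 ≤ n) {p : ℕ} (hz : IsZsig p q n) :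
    q ^ n = 81 := by
  have hp : Fact p.Prime := ⟨hz.1⟩
  have hAn := S.An
  have hDn := S.Dn
  obtain ⟨h1, h2, h3, h4⟩ := S.zsig hz
  have hm : m = 1 := by
    have h5 := S.nmd
    rw [h2] at h5
    have h6 : 0 < n := by omega
    nlinarith [S.m0]
  have hpodd : p % 2 = 1 := by
    have := hz.1.eq_two_or_odd
    omega
  have hr2 : r = 2 := by
    have h5 : n ∣ r ^ k := by rw [← S.rel', S.rel, h1]; exact dvd_pow_self n (by norm_num)
    have h6 : 2 ∣ r ^ k := Dvd.dvd.trans (by omega) h5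
    exact ((Nat.prime_dvd_prime_iff_eq Nat.prime_two S.hr).1 (Nat.prime_two.dvd_of_dvd_pow h6)).symm
  obtain ⟨j, -, hj⟩ : ∃ j ≤ k, n = 2 ^ j := by
    apply (Nat.dvd_prime_pow Nat.prime_two).1
    rw [← hr2, ← S.rel', S.rel, h1]; exact dvd_pow_self n (by norm_num)
  have hq2 : q ≠ 2 := by
    intro h
    have h5 := S.rK
    rw [hr2, hm, h] at h5
    norm_num at h5
  apply arith_final S.hq hq2 hj hn3
  · intro p' hz'
    exact (S.zsig hz').2.2.1
  · intro hsq
    rw [← h3] at hsq
    have h5 : p ^ 2 ∣ Nat.card B := by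
      refine Dvd.dvd.trans ?_ (card_dvd_of_trans S.tr)
      rw [S.cE]
      exact hsq
    obtain ⟨P, hP⟩ := Sylow.exists_subgroup_card_pow_prime (G := B) p h5
    have h6 := card_dvd_sec A D P (by
      intro g hg hg1 y hy hgy
      -- a power of g has order p
      have hPp : IsPGroup p P := IsPGroup.of_card hP
      obtain ⟨i, hi⟩ := (IsPGroup.iff_orderOf.1 hPp) ⟨g, hg⟩
      rw [Subgroup.orderOf_mk] at hi
      have hi0 : i ≠ 0 := by
        rintro rfl
        rw [pow_zero, orderOf_eq_one_iff] at hi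
        exact hg1 hi
      obtain ⟨i, rfl⟩ := Nat.exists_eq_succ_of_ne_zero hi0
      have h7 : orderOf (g ^ p ^ i) = p := by
        rw [orderOf_pow' g (pow_ne_zero i hz.1.ne_zero), hi, Nat.gcd_eq_right (pow_dvd_pow p (Nat.le_succ i)),
          Nat.succ_eq_add_one, pow_succ, Nat.mul_div_cancel_left _ (pow_pos hz.1.pos i)]
      apply h4 (g ^ p ^ i) (by have := pow_orderOf_eq_one (g ^ p ^ i); rwa [h7] at this) (by
        intro h8
        rw [h8, orderOf_one] at h7
        exact hz.1.one_lt.ne h7) y hy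
      -- `g` fixes `yA`, so does the power
      have h8 := (secHom_fix A D g y hy).2 hgy
      rw [← secHom_fix A D (g ^ p ^ i) y hy, map_pow]
      have h9 : ∀ w : ℕ, ((secHom A D g) ^ w) ⟨QuotientGroup.mk y, y, hy, rfl⟩ = ⟨QuotientGroup.mk y, y, hy, rfl⟩ := by
        intro w
        induction w with
        | zero => rfl
        | succ w ih => rw [pow_succ, MulAut.mul_apply, h8, ih]
      exact h9 _)
    rw [hP, S.rel, h1] at h6
    -- p² ∣ n² - 1 = p (p-2)
    obtain ⟨w, rfl⟩ : ∃ w, n = w + 1 := ⟨n - 1, by omega⟩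
    have h7 : (w + 1) ^ 2 - 1 = p * w := by
      rw [h3]
      have : (w + 1) ^ 2 = (w + 1 + 1) * w + 1 := by ring
      omega
    rw [h7, pow_two] at h6
    have h8 := Nat.dvd_of_mul_dvd_mul_left hz.1.pos h6
    have h9 := Nat.le_of_dvd (by omega) h8
    omega

/-- dimension two -/
theorem Sit.case_two [Finite K] (S : Sit A D ρ q n m s d r k) (hn : n = 2) :
    Nat.card E ∈ ({9, 25, 49, 121, 529, 81} : Set ℕ) := by
  classical
  have hAn := S.An
  have hDn := S.Dn
  have hs1 := S.s1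
  have hsd := S.sd
  have hdn := S.dn
  have hm0 := S.m0
  have hmd := S.nmd
  have hs2 : s = 2 := by omega
  have hd2 : d = 2 := by omega
  have hm1 : m = 1 := by rw [hn, hd2] at hmd; omega
  have hr2 : r = 2 := by
    have := S.rs
    rw [hs2] at this
    exact (Nat.prime_dvd_prime_iff_eq S.hr Nat.prime_two).1 this
  have hq2 : q ≠ 2 := by
    intro h
    have h5 := S.rK
    rw [hr2, hm1, h] at h5
    norm_num at h5
  rw [S.cE, hn]
  apply q_cases S.hq hq2
  have hrel4 : A.relIndex D = 4 := by rw [S.rel, hs2]; norm_num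
  -- A is central
  have hAcen : ∀ b : B, ∀ a ∈ A, b * a = a * b := by
    obtain ⟨σ, hσ⟩ := exists_aut ρ S.dat.inj S.dat.hconj
    intro b a ha
    have h1 : σ b = 1 := by
      have h2 : Subsingleton (RingAut K) := (Nat.card_eq_one_iff_unique.1 (by rw [S.cR, hm1])).1
      exact Subsingleton.elim _ _
    obtain ⟨c, hc⟩ := S.dat.hA a ha
    have h2 := hσ b c
    have h3 : σ b c = c := by rw [h1]; rfl
    rw [h3, hc] at h2
    apply T_inj (E := E)
    rw [map_mul, map_mul]
    have h4 : T b⁻¹ * T b = 1 := by rw [← map_mul, inv_mul_cancel, map_one]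
    calc T b * T a = (T b * T a * T b⁻¹) * T b := by rw [mul_assoc (T b * _), h4, mul_one]
      _ = _ := by rw [← h2]
  set C := centralizer (D : Set B) with hC
  set N := (secHom A D).ker with hN
  have hNmem : ∀ b, b ∈ N ↔ ∀ y ∈ D, ⁅b, y⁆ ∈ A := by
    intro b
    rw [hN, MonoidHom.mem_ker]
    constructor
    · intro h y hy
      have := (secHom_fix A D b y hy).1 (by rw [h]; rfl)
      exact this
    · intro h
      ext ⟨u, y, hy, rfl⟩
      exact congrArg Subtype.val ((secHom_fix A D b y hy).2 (h y hy))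
  -- C has order dividing q - 1
  have hCcard : Nat.card C ∣ q - 1 := by
    have hf := S.full (by rw [hs2, hd2])
    have h1 : ∀ c : C, ∃ κ : K, ρ κ = T (c : B) := fun c => hf c (fun x hx => (mem_centralizer_iff.1 c.2 x hx).symm)
    choose f hf using h1
    have := Fintype.ofFinite K
    let g : C →* K :=
      { toFun := f
        map_one' := by
          apply S.dat.inj
          rw [hf, map_one]
          exact map_one T
        map_mul' := by
          intro a b
          apply S.dat.inj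
          rw [hf, map_mul, hf, hf, ← map_mul]
          rfl }
    have hg : Function.Injective g.toHomUnits := by
      intro a b hab
      have h2 : g a = g b := congrArg Units.val hab
      have h3 : T (a : B) = T (b : B) := by rw [← hf, ← hf]; exact congrArg ρ h2
      exact Subtype.ext (T_inj h3)
    have h2 := Subgroup.card_dvd_of_injective g.toHomUnits hg
    rwa [Nat.card_units, S.cK, hm1, pow_one] at h2
  have hCN : C ≤ N := by
    intro c hc
    rw [hNmem]
    intro y hy
    rw [commutatorElement_eq_one_iff_mul_comm.2 (mem_centralizer_iff.1 hc y hy).symm]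
    exact A.one_mem
  -- index of `N`
  have hNidx : N.index ∣ 6 := by
    rw [hN, Subgroup.index_ker]
    have h1 : Nat.card (MulAut (D.map (QuotientGroup.mk' A))) ∣ 6 := by
      set U := D.map (QuotientGroup.mk' A) with hU
      have hUcard : Nat.card U = 4 := by rw [hU, card_sec, hrel4]
      let f : MulAut U →* Equiv.Perm {u : U // u ≠ 1} :=
        { toFun := fun φ => (φ : U ≃ U).subtypeEquiv (fun u => by
            rw [ne_eq, ne_eq, not_iff_not]
            exact (map_eq_one_iff φ φ.injective).symm)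
          map_one' := by ext u; rfl
          map_mul' := by intro a b; ext u; rfl }
      have hf : Function.Injective f := by
        intro a b hab
        ext u
        by_cases hu : u = 1
        · rw [hu, map_one, map_one]
        · exact congrArg (fun g : Equiv.Perm {u : U // u ≠ 1} => (((g ⟨u, hu⟩ : {u : U // u ≠ 1}) : U) : B ⧸ A)) hab
      have h2 := Subgroup.card_dvd_of_injective f hf
      rw [Nat.card_perm] at h2
      have := Fintype.ofFinite U
      have h3 : Nat.card {u : U // u ≠ 1} = 3 := by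
        have h3' : Nat.card {u : U // u ≠ 1} = Fintype.card {u : U // u ≠ 1} := Nat.card_eq_fintype_card
        rw [h3', Fintype.card_subtype_compl, ← Nat.card_eq_fintype_card, hUcard]
        simp
      rw [h3] at h2
      exact h2
    exact (Subgroup.card_subgroup_dvd_card _).trans h1
  -- relative index of `C` in `N`
  have hCN4 : C.relIndex N = 4 := by
    apply le_antisymm
    · -- pairing
      obtain ⟨κ, hκ⟩ : ∃ κ : B → K, ∀ a ∈ A, ρ (κ a) = T a := by
        have h1 : ∀ x : B, ∃ c : K, x ∈ A → ρ c = T x := by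
          intro x
          by_cases hx : x ∈ A
          · obtain ⟨c, hc⟩ := S.dat.hA _ hx
            exact ⟨c, fun _ => hc⟩
          · exact ⟨0, fun h' => absurd h' hx⟩
        choose κ hκ using h1
        exact ⟨κ, fun a ha => hκ a ha⟩
      have hκ1 : κ 1 = 1 := by
        apply S.dat.inj
        rw [hκ 1 A.one_mem]
        exact (map_one T).trans (map_one ρ).symm
      have hκm : ∀ a ∈ A, ∀ b ∈ A, κ (a * b) = κ a * κ b := by
        intro a ha b hb
        apply S.dat.inj
        rw [hκ _ (A.mul_mem ha hb), map_mul ρ, hκ a ha, hκ b hb, ← map_mul T]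
      have hκi : ∀ a ∈ A, κ a = 1 → a = 1 := by
        intro a ha h1
        apply T_inj (E := E)
        rw [← hκ a ha, h1, map_one]
        exact (map_one T).symm
      have hcomm : ∀ b ∈ N, ∀ y ∈ D, ⁅b, y⁆ ∈ A := fun b hb => (hNmem b).1 hb
      have h1 : (C.subgroupOf N).index ≤ (A.subgroupOf D).index := by
        apply H74.Pair.index_le (K := K) (fun (x : N) (y : D) => κ ⁅(x : B), (y : B)⁆)
        · intro x
          change κ ⁅(x : B), (1 : B)⁆ = 1
          rw [commutatorElement_one_right, hκ1]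
        · intro y
          change κ ⁅(1 : B), (y : B)⁆ = 1
          rw [commutatorElement_one_left, hκ1]
        · intro x x' y
          have h2 : ⁅(x : B) * x', (y : B)⁆ = ⁅(x : B), (y : B)⁆ * ⁅(x' : B), (y : B)⁆ := by
            have h3 : ⁅(x : B) * x', (y : B)⁆ = (x : B) * ⁅(x' : B), (y : B)⁆ * (x : B)⁻¹ * ⁅(x : B), (y : B)⁆ := by
              simp only [commutatorElement_def]; group
            have h4 := hAcen x _ (hcomm x' x'.2 y y.2)
            rw [h3, h4, mul_inv_cancel_right, hAcen _ _ (hcomm x x.2 y y.2)]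
          change κ ⁅(x : B) * x', (y : B)⁆ = _
          rw [h2, hκm _ (hcomm _ x.2 _ y.2) _ (hcomm _ x'.2 _ y.2)]
        · intro x y y'
          have h2 : ⁅(x : B), (y : B) * y'⁆ = ⁅(x : B), (y : B)⁆ * ⁅(x : B), (y' : B)⁆ := by
            have h3 : ⁅(x : B), (y : B) * y'⁆ = ⁅(x : B), (y : B)⁆ * (y * ⁅(x : B), (y' : B)⁆ * (y : B)⁻¹) := by
              simp only [commutatorElement_def]; group
            have h4 := hAcen y _ (hcomm x x.2 y' y'.2)
            rw [h3, h4, mul_inv_cancel_right]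
          change κ ⁅(x : B), (y : B) * y'⁆ = _
          rw [h2, hκm _ (hcomm _ x.2 _ y.2) _ (hcomm _ x.2 _ y'.2)]
        · intro x hx
          rw [mem_subgroupOf, hC, mem_centralizer_iff]
          intro y hy
          have h3 := hκi _ (hcomm x x.2 y hy) (hx ⟨y, hy⟩)
          exact (commutatorElement_eq_one_iff_mul_comm.1 h3).symm
        · intro y hy x
          have h3 : ⁅(x : B), (y : B)⁆ = 1 := commutatorElement_eq_one_iff_mul_comm.2 (hAcen x y hy)
          change κ ⁅(x : B), (y : B)⁆ = 1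
          rw [h3, hκ1]
      have h2 : C.relIndex N ≤ A.relIndex D := h1
      rwa [hrel4] at h2
    · have hDN : D ≤ N := fun x hx => (hNmem x).2 fun y hy => S.dat.DD x hx y hy
      have h1 : C.relIndex D ≤ C.relIndex N := Subgroup.relIndex_le_of_le_right hDN
        (Subgroup.index_ne_zero_of_finite (H := C.subgroupOf N))
      have h2 : C ⊓ D = A := by
        ext x
        constructor
        · rintro ⟨hx1, hx2⟩
          exact S.dat.cen x hx2 (fun y hy => (mem_centralizer_iff.1 hx1 y hy).symm)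
        · intro hx
          exact ⟨mem_centralizer_iff.2 fun y _ => hAcen y x hx, S.dat.AD hx⟩
      rw [← hrel4, ← h2, Subgroup.inf_relIndex_right]
      exact h1
  -- conclusion
  have hfin : Nat.card B ∣ 24 * (q - 1) := by
    have h1 : C.relIndex N * N.index = C.index := Subgroup.relIndex_mul_index hCN
    have h2 := C.card_mul_index
    rw [← h2, ← h1, hCN4]
    obtain ⟨a, ha⟩ := hCcard
    obtain ⟨b, hb⟩ := hNidx
    rw [ha]
    refine ⟨a * b, ?_⟩
    calc 24 * (Nat.card C * a) = 4 * 6 * (Nat.card C * a) := by norm_num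
      _ = 4 * (N.index * b) * (Nat.card C * a) := by rw [← hb]
      _ = _ := by ring
  have h1 := (card_dvd_of_trans S.tr).trans hfin
  rw [S.cE, hn] at h1
  have hq1 := S.hq.one_lt
  have h2 : q ^ 2 - 1 = (q - 1) * (q + 1) := by
    obtain ⟨w, rfl⟩ : ∃ w, q = w + 1 := ⟨q - 1, by omega⟩
    have : (w + 1) ^ 2 = w * (w + 1 + 1) + 1 := by ring
    rw [this]; simp
  rw [h2, mul_comm 24] at h1
  exact Nat.dvd_of_mul_dvd_mul_left (by omega) h1

theorem six_bound {m s d r : ℕ} (h6 : 6 = m * d) (hr : r.Prime) (hrs : r ∣ s) (hrm : r ∣ 2 ^ m - 1)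
    (hsd : s ≤ d) (hs1 : 1 < s) : m = 2 ∧ s = 3 ∧ d = 3 := by
  have hr2 : r ≠ 2 := by
    rintro rfl
    have hm : m ≠ 0 := by rintro rfl; omega
    obtain ⟨m, rfl⟩ := Nat.exists_eq_succ_of_ne_zero hm
    have h1 : 2 ^ (m + 1) = 2 * 2 ^ m := by ring
    have h2 : 1 ≤ 2 ^ m := Nat.one_le_two_pow
    rw [Nat.succ_eq_add_one, h1] at hrm
    omega
  have hr3 : 3 ≤ r := by have := hr.two_le; omega
  have hs3 : 3 ≤ s := hr3.trans (Nat.le_of_dvd (by omega) hrs)
  have hm2 : m ≤ 2 := by nlinarith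
  have hm1 : m ≠ 1 := by
    rintro rfl
    norm_num at hrm
    have := hr.one_lt
    omega
  have hm0 : m ≠ 0 := by rintro rfl; omega
  have hm : m = 2 := by omega
  subst hm
  omega

/-- the case of sixty-four vectors -/
theorem Sit.case_six [Finite K] (S : Sit A D ρ q n m s d r k) (hq2 : q = 2) (hn : n = 6) : False := by
  have hAn := S.An
  have hDn := S.Dn
  have hK := S.rK
  rw [hq2] at hK
  obtain ⟨hm, hs, hd⟩ := six_bound (by rw [← hn]; exact S.nmd) S.hr S.rs hK S.sd S.s1
  have h7 : Fact (Nat.Prime 7) := ⟨by norm_num⟩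
  have h7B : 7 ∣ Nat.card B := by
    refine Dvd.dvd.trans ?_ (card_dvd_of_trans S.tr)
    rw [S.cE, hq2, hn]
    norm_num
  obtain ⟨x, hx⟩ := exists_prime_orderOf_dvd_card' (G := B) 7 h7B
  have hx7 : x ^ 7 = 1 := by rw [← hx, pow_orderOf_eq_one]
  have hxA := S.dat.commute_of S.cR S.m0 x h7.out hx7 (by omega)
  have hA3 : Nat.card A ∣ 3 := by
    have h1 := S.dat.card_A_dvd
    rw [S.cK, hq2, hm] at h1
    exact h1
  have hrel : A.relIndex D = 9 := by rw [S.rel, hs]; norm_num
  have hxD : ∀ y ∈ D, x * y = y * x := by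
    by_contra hcon
    push Not at hcon
    obtain ⟨t, ht1, htp, hle, hcase, -⟩ := S.dat.exists_t S.An S.Dn x 7 hx7 hxA (by
      intro h
      have := Nat.le_of_dvd (by norm_num) (h.trans hA3)
      omega) (by rw [hrel]; norm_num) hcon
    rw [hrel] at hle hcase
    have ht8 : t = 8 := by clear hcase; omega
    subst ht8
    rcases hcase with h1 | ⟨u, hu⟩
    · omega
    · have : u ≤ 2 := by nlinarith
      interval_cases u <;> omega
  obtain ⟨c, hc⟩ := S.full (by rw [hs, hd]) x hxD
  have hc0 : c ≠ 0 := by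
    rintro rfl
    rw [map_zero] at hc
    obtain ⟨v, hv⟩ := exists_ne (0 : E)
    have h1 : x • v = 0 := (congrArg (fun f : AddMonoid.End E => f v) hc).symm
    apply hv
    have := congrArg (fun z => x⁻¹ • z) h1
    simpa using this
  have hc3 : c ^ 3 = 1 := by
    have := Fintype.ofFinite K
    have h1 := FiniteField.pow_card_sub_one_eq_one c hc0
    rw [← Nat.card_eq_fintype_card, S.cK, hq2, hm] at h1
    exact h1
  have hx3 : x ^ 3 = 1 := by
    apply T_inj (E := E)
    rw [map_pow, ← hc, ← map_pow, hc3, map_one]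
    exact (map_one T).symm
  have h1 : x = 1 := by
    have : x = x ^ 7 * ((x ^ 3)⁻¹) ^ 2 := by
      rw [inv_pow, ← pow_mul, eq_mul_inv_iff_mul_eq, ← pow_succ']
    rw [this, hx7, hx3]; simp
  rw [h1, orderOf_one] at hx
  norm_num at hx

theorem main {q n : ℕ} (hq : q.Prime) (hE : ∀ e : E, q • e = 0) (hcard : Nat.card E = q ^ n) (hsol : Group.IsSolvable B)
    (htr : ∀ x y : E, x ≠ 0 → y ≠ 0 → ∃ b : B, b • x = y) :
    (∃ A : Subgroup B, A.Normal ∧ (∀ a ∈ A, ∀ b ∈ A, a * b = b * a) ∧ ∀ b : B, (∀ a ∈ A, b * a = a * b) → b ∈ A) ∨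
      Nat.card E ∈ ({9, 25, 49, 121, 529, 81} : Set ℕ) := by
  classical
  obtain ⟨A, ⟨hAn, hAc⟩, hAmax⟩ := Set.exists_max_image
    {M : Subgroup B | M.Normal ∧ ∀ a ∈ M, ∀ b ∈ M, a * b = b * a} (fun M => Nat.card M) (Set.toFinite _)
    ⟨⊥, inferInstance, by
      intro a ha b hb
      rw [mem_bot] at ha hb
      rw [ha, hb]⟩
  have hmax : ∀ M : Subgroup B, M.Normal → (∀ a ∈ M, ∀ b ∈ M, a * b = b * a) → A ≤ M → M = A := by
    intro M hM hMc hAM
    exact (Subgroup.eq_of_le_of_card_ge hAM (hAmax M ⟨hM, hMc⟩)).symm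
  by_cases hself : ∀ b : B, (∀ a ∈ A, b * a = a * b) → b ∈ A
  · exact Or.inl ⟨A, hAn, hAc, hself⟩
  right
  push Not at hself
  obtain ⟨D, r, hr, hDn, hAD, hDC, hDD, hcen, hxr, hrA, x0, hx0, hx0A⟩ := exists_D A hAc hmax hself
  obtain ⟨K, iK, iKf, ρ, hρ, hρA, hρc, hρcomm⟩ := exists_field' htr A hAc
  have dat : Dat A D ρ := ⟨hρ, hρA, hρc, hρcomm, hAD, hDC, hDD, hcen⟩
  obtain ⟨s, d, hs, hsd, hcd, hfull⟩ := dat.rep
  have hqK : (q : K) = 0 := by
    apply hρ
    rw [map_natCast, map_zero]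
    ext x
    change (q : AddMonoid.End E) x = 0
    rw [AddMonoid.End.natCast_apply]
    exact hE x
  obtain ⟨m, hm1, hm2⟩ := card_ringAut_le hq hqK
  obtain ⟨k, hk⟩ := relIndex_pow (D := D) hAn hr hxr
  have hnmd : n = m * d := by
    rw [hm1, hcard, ← pow_mul] at hcd
    exact Nat.pow_right_injective hq.two_le hcd
  have hs1 : 1 < s := by
    have h1 : A.relIndex D ≠ 1 := by
      intro h
      rw [Subgroup.relIndex_eq_one] at h
      exact hx0A (h hx0)
    have h2 : A.relIndex D ≠ 0 := Subgroup.index_ne_zero_of_finite (H := A.subgroupOf D)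
    rw [hs] at h1 h2
    by_contra h
    have : s ≤ 1 := by omega
    interval_cases s <;> simp at h1 h2
  have hm0 : 0 < m := by
    rcases Nat.eq_zero_or_pos m with h | h
    · exfalso
      rw [h, pow_zero] at hm1
      have : 1 < Nat.card K := Finite.one_lt_card
      omega
    · exact h
  have S : Sit A D ρ q n m s d r k := ⟨dat, hAn, hDn, hq, hr, hcard, hm1, hm2, hnmd, hm0, hs, hk, hrA, hs1, hsd, hfull, htr⟩
  have hmn := S.mn
  rcases (by omega : n = 2 ∨ 3 ≤ n) with hn2 | hn3
  · exact S.case_two hn2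
  · by_cases h6 : q = 2 ∧ n = 6
    · exact (S.case_six h6.1 h6.2).elim
    · obtain ⟨p, hz⟩ := zsigmondy hq.one_lt (by omega : 1 < n) h6 (by omega)
      rw [hcard, S.case_zsig hn3 hz]
      simp

end main

end H74.Hup

namespace H74.Semi

/-- a finite field is isomorphic to one in `Type` -/
theorem exists_type0 (K : Type*) [Field K] [Finite K] : ∃ (F : Type) (_ : Field F) (_ : Fintype F), Nonempty (K ≃+* F) := by
  have := Fintype.ofFinite K
  obtain ⟨q', hq'⟩ := CharP.exists K
  obtain ⟨n, hq'p, hn'⟩ := FiniteField.card K q'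
  have : Fact q'.Prime := ⟨hq'p⟩
  have := Fintype.ofFinite (GaloisField q' n)
  have hcard : Fintype.card K = Fintype.card (GaloisField q' n) := by
    rw [hn', ← Nat.card_eq_fintype_card (α := GaloisField q' n), GaloisField.card q' n n.ne_zero]
  exact ⟨GaloisField q' n, inferInstance, inferInstance, ⟨FiniteField.ringEquivOfCardEq hcard⟩⟩

end H74.Semi
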