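import Cfsg.Agent.Lib.H74.FpfRep
set_option autoImplicit false
set_option linter.unusedSectionVars false
set_option linter.unusedVariables false
open Matrix

namespace H74.FpfRep
open H74.Ico

theorem mem8 {A : Type*} [Ring A] [Algebra ℚ A] [Nontrivial A] {X Y : A} (h : Pair X Y) {Z : A}
    (h8 : In8 (-(X * Y)) (-(Y * X)) (Z + Z + 1)) :
    Z ∈ ({X, -1 - X, Y, -1 - Y, V2 X Y, -1 - V2 X Y, V3 X Y, -1 - V3 X Y} : Set A) := by
  have key : ∀ V : A, (Z + Z + 1 = V + V + 1 ∨ Z + Z + 1 = -(V + V + 1)) → Z = V ∨ Z = -1 - V := by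
    rintro V (e | e)
    · exact Or.inl (eq_of_U e)
    · right
      exact eq_of_U (by rw [e]; noncomm_ring)
  obtain ⟨a, b, c, ha, hb, hc, hu⟩ := h8
  simp only [Set.mem_insert_iff, Set.mem_singleton_iff]
  rcases ha with rfl | rfl <;> rcases hb with rfl | rfl <;> rcases hc with rfl | rfl
  · have := key X (Or.inl (by rw [hu, h.UX])); tauto
  · have := key Y (Or.inl (by rw [hu, h.UY])); tauto
  · have := key (V2 X Y) (Or.inl (by rw [hu, h.UV2])); tauto
  · have := key (V3 X Y) (Or.inr (by rw [hu, h.UV3]; noncomm_ring)); tauto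
  · have := key (V3 X Y) (Or.inl (by rw [hu, h.UV3])); tauto
  · have := key (V2 X Y) (Or.inr (by rw [hu, h.UV2]; noncomm_ring)); tauto
  · have := key Y (Or.inr (by rw [hu, h.UY]; noncomm_ring)); tauto
  · have := key X (Or.inr (by rw [hu, h.UX]; noncomm_ring)); tauto

theorem ncard8 {A : Type*} (a b c d e f g h : A) : ({a, b, c, d, e, f, g, h} : Set A).ncard ≤ 8 := by
  classical
  have : ({a, b, c, d, e, f, g, h} : Set A) = (({a, b, c, d, e, f, g, h} : Finset A) : Set A) := by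
    push_cast; rfl
  rw [this, Set.ncard_coe_finset]
  refine (Finset.card_insert_le _ _).trans (Nat.succ_le_succ ?_)
  refine (Finset.card_insert_le _ _).trans (Nat.succ_le_succ ?_)
  refine (Finset.card_insert_le _ _).trans (Nat.succ_le_succ ?_)
  refine (Finset.card_insert_le _ _).trans (Nat.succ_le_succ ?_)
  refine (Finset.card_insert_le _ _).trans (Nat.succ_le_succ ?_)
  refine (Finset.card_insert_le _ _).trans (Nat.succ_le_succ ?_)
  refine (Finset.card_insert_le _ _).trans (Nat.succ_le_succ ?_)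
  simp

theorem small_or_iso {G : Type*} [Group G] [Finite G] {m : ℕ} (hm : 0 < m)
    (ρ : G →* Matrix (Fin m) (Fin m) ℤ) (h : IntFpf ρ) :
    {x : G | orderOf x = 3}.ncard ≤ 8 ∨ Nonempty (Subgroup.closure {x : G | orderOf x = 3} ≃* H0) := by
  have : NeZero m := ⟨hm.ne'⟩
  have hinj := ex_injective ρ h hm ℚ
  have hncard : {x : G | orderOf x = 3}.ncard = (ex ρ ℚ '' {x : G | orderOf x = 3}).ncard :=
    (Set.ncard_image_of_injective _ hinj).symm
  rcases H74.Ico.main (sys ρ h hm) with ⟨X, hX⟩ | ⟨X, Y, hX, hY, hP, h8⟩ | ⟨X, Y, φ, hX, hY, hP, hc, hg, hall⟩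
  · left
    rw [hncard]
    refine (Set.ncard_le_ncard hX (Set.toFinite _)).trans ?_
    refine (Set.ncard_insert_le _ _).trans ?_
    rw [Set.ncard_singleton]; norm_num
  · left
    rw [hncard]
    exact (Set.ncard_le_ncard (fun Z hZ => mem8 hP (h8 Z hZ)) (Set.toFinite _)).trans (ncard8 _ _ _ _ _ _ _ _)
  · right
    exact iso_H0 hP.frame hc hg (ex ρ ℚ) hinj _ (fun x hx => sq_of_order3 ρ h ℚ hx) hall

end H74.FpfRep
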