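import Cfsg.Agent.Lib.H74.FrobC
import Cfsg.Agent.Lib.H74.FpfThree
import Cfsg.Agent.Lib.H6.SmallIsoA
import Cfsg.Agent.S3374
set_option autoImplicit false
open Matrix Cfsg

namespace H74.Zass

abbrev SL5 := Matrix.SpecialLinearGroup (Fin 2) (ZMod 5)

instance fact5 : Fact (Nat.Prime 5) := ⟨by norm_num⟩

def mk (a b c d : ZMod 5) (h : a * d - b * c = 1) : SL5 := ⟨!![a, b; c, d], by rw [Matrix.det_fin_two_of]; exact h⟩

theorem cube : ∀ a b c d : ZMod 5, a * d - b * c = 1 → a + d = -1 →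
    (!![a, b; c, d] * !![a, b; c, d] * !![a, b; c, d] : Matrix (Fin 2) (Fin 2) (ZMod 5)) = 1 := by
  decide +kernel

theorem mk_inj (a b c d a' b' c' d' : ZMod 5) (h : a * d - b * c = 1) (h' : a' * d' - b' * c' = 1)
    (e : mk a b c d h = mk a' b' c' d' h') : a = a' ∧ b = b' ∧ c = c' ∧ d = d' := by
  have e' : (!![a, b; c, d] : Matrix (Fin 2) (Fin 2) (ZMod 5)) = !![a', b'; c', d'] := congrArg Subtype.val e
  refine ⟨?_, ?_, ?_, ?_⟩
  · exact congrFun (congrFun e' 0) 0
  · exact congrFun (congrFun e' 0) 1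
  · exact congrFun (congrFun e' 1) 0
  · exact congrFun (congrFun e' 1) 1

theorem orderOf_mk (a b c d : ZMod 5) (h : a * d - b * c = 1) (h3 : a + d = -1) : orderOf (mk a b c d h) = 3 := by
  have hp : Fact (Nat.Prime 3) := ⟨by norm_num⟩
  apply orderOf_eq_prime
  · apply Subtype.ext
    rw [pow_three']
    exact cube a b c d h h3
  · intro h1
    have h2 : (!![a, b; c, d] : Matrix (Fin 2) (Fin 2) (ZMod 5)) = 1 := congrArg Subtype.val h1
    have ha : a = 1 := congrFun (congrFun h2 0) 0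
    have hd : d = 1 := congrFun (congrFun h2 1) 1
    rw [ha, hd] at h3
    exact absurd h3 (by decide)

theorem closure_top : Subgroup.closure {x : SL5 | orderOf x = 3} = ⊤ := by
  apply H6.SmallIsoA.eq_top_zmod
  intro i j hij
  have key : ∀ (x : SL5) (a b c a' b' c' a'' b'' c'' : ZMod 5) (d d' d'' : ZMod 5) (h : a * d - b * c = 1)
      (h' : a' * d' - b' * c' = 1) (h'' : a'' * d'' - b'' * c'' = 1), a + d = -1 → a' + d' = -1 → a'' + d'' = -1 →
      x.1 = !![a, b; c, d] * !![a', b'; c', d'] * !![a'', b''; c'', d''] → x ∈ Subgroup.closure {x : SL5 | orderOf x = 3} := by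
    intro x a b c a' b' c' a'' b'' c'' d d' d'' h h' h'' t t' t'' e
    have : x = mk a b c d h * mk a' b' c' d' h' * mk a'' b'' c'' d'' h'' := Subtype.ext e
    rw [this]
    apply Subgroup.mul_mem _ (Subgroup.mul_mem _ _ _) _
    · exact Subgroup.subset_closure (orderOf_mk _ _ _ _ h t)
    · exact Subgroup.subset_closure (orderOf_mk _ _ _ _ h' t')
    · exact Subgroup.subset_closure (orderOf_mk _ _ _ _ h'' t'')
  fin_cases i <;> fin_cases j
  · exact absurd rfl hij
  · refine key _ 0 1 4 0 3 3 3 4 3 4 4 1 (by decide) (by decide) (by decide) (by decide) (by decide) (by decide) ?_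
    revert hij; decide +kernel
  · refine key _ 0 1 4 0 4 1 3 1 2 4 4 1 (by decide) (by decide) (by decide) (by decide) (by decide) (by decide) ?_
    revert hij; decide +kernel
  · exact absurd rfl hij

theorem nine_le : 8 < {x : SL5 | orderOf x = 3}.ncard := by
  let f : Fin 9 → SL5 := ![mk 0 1 4 4 (by decide), mk 0 2 2 4 (by decide), mk 0 3 3 4 (by decide), mk 0 4 1 4 (by decide),
    mk 1 1 2 3 (by decide), mk 1 2 1 3 (by decide), mk 1 3 4 3 (by decide), mk 1 4 3 3 (by decide), mk 2 1 3 2 (by decide)]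
  have hf : Function.Injective f := by decide +kernel
  have hsub : Set.range f ⊆ {x : SL5 | orderOf x = 3} := by
    rintro _ ⟨i, rfl⟩
    fin_cases i <;> exact orderOf_mk _ _ _ _ (by decide) (by decide)
  have h1 := Set.ncard_le_ncard hsub (Set.toFinite _)
  rw [← Set.image_univ, Set.ncard_image_of_injective _ hf, Set.ncard_univ, Nat.card_fin] at h1
  exact h1


theorem fc_sl5 : H74.FrobC.IsFC SL5 := by
  obtain ⟨L, a, b, H, hH, ⟨e⟩⟩ := Cfsg.Agent.S3374.result
  exact ⟨L, a, b, H, hH, ⟨e.symm⟩⟩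

theorem sl5_iso : Nonempty (SL5 ≃* H74.Ico.H0) := by
  obtain ⟨m, ρ, hm, hρ⟩ := H74.FrobC.exists_int_of_FC fc_sl5
  rcases H74.FpfRep.small_or_iso hm ρ hρ with h | h
  · have := nine_le; omega
  · obtain ⟨e⟩ := h
    exact ⟨(Subgroup.topEquiv.symm.trans (MulEquiv.subgroupCongr closure_top.symm)).trans e⟩

/-- elements of order three in a Frobenius complement -/
theorem small_or_sl5 {G : Type*} [Group G] [Finite G] (h : H74.FrobC.IsFC G) :
    {x : G | orderOf x = 3}.ncard ≤ 8 ∨ Nonempty (Subgroup.closure {x : G | orderOf x = 3} ≃* SL5) := by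
  obtain ⟨m, ρ, hm, hρ⟩ := H74.FrobC.exists_int_of_FC h
  rcases H74.FpfRep.small_or_iso hm ρ hρ with h | h
  · exact Or.inl h
  · obtain ⟨e⟩ := h
    obtain ⟨e'⟩ := sl5_iso
    exact Or.inr ⟨e.trans e'.symm⟩

end H74.Zass
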