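import Cfsg.Agent.Lib.H74.FC
import Cfsg.Agent.Lib.H74.Zass
import Cfsg.Agent.Lib.H3.QuatSylow
import Cfsg.Agent.Lib.H4.Burnside
set_option autoImplicit false
open Cfsg

namespace H74.Perf
open H74.FrobC H74.FC H74.Zass

variable {N : Type*} [Group N] [Finite N]

omit [Finite N] in
theorem hom_trivial {Q : Type*} [Group Q] [Finite Q] (hperf : commutator N = ⊤) (f : N →* Q) (hQ : Group.IsSolvable Q)
    (x : N) : f x = 1 := by
  have h1 : commutator f.range = ⊤ := by
    have h2 : (commutator N).map f.rangeRestrict = commutator f.range := by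
      rw [commutator_def, commutator_def, Subgroup.map_commutator,
        Subgroup.map_top_of_surjective _ f.rangeRestrict_surjective]
    rw [← h2, hperf, Subgroup.map_top_of_surjective _ f.rangeRestrict_surjective]
  by_contra hne
  have hnt : Nontrivial f.range := ⟨⟨⟨f x, ⟨x, rfl⟩⟩, 1, fun h => hne (congrArg Subtype.val h)⟩⟩
  have : Group.IsSolvable f.range := inferInstance
  exact absurd h1 (Group.IsSolvable.commutator_lt_top_of_nontrivial _).ne

theorem not_solvable [Nontrivial N] (hperf : commutator N = ⊤) : ¬ Group.IsSolvable N := by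
  intro h
  obtain ⟨x, hx⟩ := exists_ne (1 : N)
  exact hx (hom_trivial hperf (MonoidHom.id N) h x)

theorem sylow_two_not_cyclic (h : IsFC N) (hperf : commutator N = ⊤) (T : Sylow 2 N) : ¬ IsCyclic T := by
  have : Fact (Nat.Prime 2) := ⟨Nat.prime_two⟩
  have hnt := h.nontrivial
  intro hT
  apply not_solvable hperf
  have : IsZGroup N := by
    constructor
    intro p hp P
    have : Fact p.Prime := ⟨hp⟩
    rcases pgroup h p P P.isPGroup' with h1 | ⟨rfl, -⟩
    · exact h1
    · exact (isCyclic_of_surjective _ (Sylow.equiv T P).surjective)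
  infer_instance

def g3 : Matrix.SpecialLinearGroup (Fin 2) (ZMod 3) := ⟨!![1, 1; 0, 1], by decide⟩

theorem orderOf_g3 : orderOf g3 = 3 := by
  have hp : Fact (Nat.Prime 3) := ⟨by norm_num⟩
  apply orderOf_eq_prime
  · decide +kernel
  · intro h
    have := congrFun (congrFun (congrArg Subtype.val h) 0) 1
    exact absurd this (by decide)

theorem three_dvd (h : IsFC N) (hperf : commutator N = ⊤) : 3 ∣ Nat.card N := by
  have : Fact (Nat.Prime 2) := ⟨Nat.prime_two⟩
  have hnt := h.nontrivial
  by_contra h3
  let T : Sylow 2 N := default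
  rcases pgroup h 2 T T.isPGroup' with h1 | ⟨-, n, hn⟩
  · exact sylow_two_not_cyclic h hperf T h1
  · rcases H3.QuatSylow.main T n hn with ⟨P, K, hK, hc⟩ | ⟨H, K, hK, ⟨e⟩⟩
    · have h1 : ∀ x : N, x ∈ K := by
        intro x
        have hsolv : Group.IsSolvable (N ⧸ K) := by
          have e := hc.symm.QuotientMulEquiv
          have h2 : IsPGroup 2 (N ⧸ K) := P.isPGroup'.of_equiv e.symm
          have := h2.isNilpotent
          infer_instance
        have := hom_trivial hperf (QuotientGroup.mk' K) hsolv x
        rwa [QuotientGroup.mk'_apply, QuotientGroup.eq_one_iff] at this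
      have hKtop : K = ⊤ := by
        rw [eq_top_iff]; intro x _; exact h1 x
      rw [hKtop, Subgroup.isComplement'_top_left] at hc
      apply sylow_two_not_cyclic h hperf P
      rw [hc]
      infer_instance
    · apply h3
      have h1 : Nat.card (H ⧸ K.subgroupOf H) = Nat.card (Matrix.SpecialLinearGroup (Fin 2) (ZMod 3)) :=
        Nat.card_congr e.toEquiv
      have h2 : 3 ∣ Nat.card (Matrix.SpecialLinearGroup (Fin 2) (ZMod 3)) := by
        have h5 := orderOf_dvd_natCard g3
        rw [orderOf_g3] at h5
        exact h5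
      rw [← h1] at h2
      exact (h2.trans (Subgroup.card_quotient_dvd_card _)).trans (Subgroup.card_subgroup_dvd_card H)


omit [Finite N] in
/-- a perfect group acting on at most four points acts trivially -/
theorem act_trivial (hperf : commutator N = ⊤) {Ω : Type*} [Finite Ω] [MulAction N Ω] (hΩ : Nat.card Ω ≤ 4) (g : N) (ω : Ω) :
    g • ω = ω := by
  classical
  have : Fintype Ω := Fintype.ofFinite Ω
  have hsolv : Group.IsSolvable (Equiv.Perm Ω) := by
    have hcard : Nat.card (Equiv.Perm Ω) = (Nat.card Ω).factorial := by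
      rw [Nat.card_eq_fintype_card, Fintype.card_perm, Nat.card_eq_fintype_card]
    apply H4.Burnside.isSolvable_of_card_eq 2 3 Nat.prime_two Nat.prime_three _ _ hcard
    interval_cases h : Nat.card Ω
    · exact ⟨0, 0, rfl⟩
    · exact ⟨0, 0, rfl⟩
    · exact ⟨1, 0, rfl⟩
    · exact ⟨1, 1, rfl⟩
    · exact ⟨3, 1, rfl⟩
  have := hom_trivial hperf (MulAction.toPermHom N Ω) hsolv g
  exact congrArg (fun σ : Equiv.Perm Ω => σ ω) this

theorem card_sub3 (hsm : {x : N | orderOf x = 3}.ncard ≤ 8) : Nat.card {K : Subgroup N // Nat.card K = 3} ≤ 4 := by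
  have hp : Fact (Nat.Prime 3) := ⟨by norm_num⟩
  have hgen : ∀ K : {K : Subgroup N // Nat.card K = 3}, ∃ x : N, orderOf x = 3 ∧ Subgroup.zpowers x = K.1 := by
    rintro ⟨K, hK⟩
    obtain ⟨x, hx⟩ := exists_prime_orderOf_dvd_card' (G := K) 3 (by rw [hK])
    have hx' : orderOf (x : N) = 3 := by rw [Subgroup.orderOf_coe]; exact hx
    refine ⟨x, hx', ?_⟩
    apply Subgroup.eq_of_le_of_card_ge
    · rw [Subgroup.zpowers_le]; exact x.2
    · rw [hK, Nat.card_zpowers, hx']
  choose g hg1 hg2 using hgen
  let f : {K : Subgroup N // Nat.card K = 3} × Bool → {x : N | orderOf x = 3} := fun p =>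
    if p.2 then ⟨g p.1, hg1 p.1⟩ else ⟨(g p.1)⁻¹, by
      change orderOf (g p.1)⁻¹ = 3
      rw [orderOf_inv]; exact hg1 p.1⟩
  have hz : ∀ p, Subgroup.zpowers ((f p : {x : N | orderOf x = 3}) : N) = p.1.1 := by
    rintro ⟨K, b⟩
    cases b
    · simp only [f, Bool.false_eq_true, if_false]
      rw [Subgroup.zpowers_inv]; exact hg2 K
    · simp only [f, if_true]; exact hg2 K
  have hf : Function.Injective f := by
    rintro ⟨K, b⟩ ⟨K', b'⟩ h
    have h1 : K = K' := by
      apply Subtype.ext
      have e1 := hz (K, b)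
      have e2 := hz (K', b')
      rw [h] at e1
      exact e1.symm.trans e2
    subst h1
    have hne : g K ≠ (g K)⁻¹ := by
      intro h2
      have h3 : (g K) ^ 2 = 1 := by rw [sq]; nth_rewrite 2 [h2]; exact mul_inv_cancel _
      have h4 := orderOf_dvd_of_pow_eq_one h3
      rw [hg1] at h4
      norm_num at h4
    cases b <;> cases b'
    · rfl
    · exfalso
      have := congrArg Subtype.val h
      simp only [f, Bool.false_eq_true, if_false, if_true] at this
      exact hne this.symm
    · exfalso
      have := congrArg Subtype.val h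
      simp only [f, Bool.false_eq_true, if_false, if_true] at this
      exact hne this
    · rfl
  have h1 := Nat.card_le_card_of_injective f hf
  rw [Nat.card_prod, Nat.card_eq_fintype_card (α := Bool), Fintype.card_bool] at h1
  have h2 : Nat.card {x : N | orderOf x = 3} = {x : N | orderOf x = 3}.ncard := rfl
  omega

theorem not_small (h : IsFC N) (hperf : commutator N = ⊤) : ¬ {x : N | orderOf x = 3}.ncard ≤ 8 := by
  intro hsm
  have hp : Fact (Nat.Prime 3) := ⟨by norm_num⟩
  obtain ⟨x, hx⟩ := exists_prime_orderOf_dvd_card' (G := N) 3 (three_dvd h hperf)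
  -- the subgroups of order three are normal
  let act : MulAction N {K : Subgroup N // Nat.card K = 3} :=
    { smul := fun g K => ⟨K.1.map (MulAut.conj g).toMonoidHom, by
        rw [Subgroup.card_map_of_injective (MulAut.conj g).injective]; exact K.2⟩
      one_smul := fun K => Subtype.ext (by
        change K.1.map (MulAut.conj 1).toMonoidHom = K.1
        rw [map_one]; exact Subgroup.map_id _)
      mul_smul := fun a b K => Subtype.ext (by
        change K.1.map (MulAut.conj (a * b)).toMonoidHom = (K.1.map (MulAut.conj b).toMonoidHom).map (MulAut.conj a).toMonoidHom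
        rw [Subgroup.map_map, map_mul]; rfl) }
  let K : Subgroup N := Subgroup.zpowers x
  have hK : Nat.card K = 3 := by rw [Nat.card_zpowers, hx]
  have hfix : ∀ g : N, K.map (MulAut.conj g).toMonoidHom = K := fun g =>
    congrArg Subtype.val (act_trivial hperf (card_sub3 hsm) g (⟨K, hK⟩ : {K : Subgroup N // Nat.card K = 3}))
  have hKn : K.Normal := ⟨fun a ha g => by
    rw [← hfix g]; exact ⟨a, ha, rfl⟩⟩
  have hKsolv : Group.IsSolvable (MulAut K) := by
    have hcyc : IsCyclic K := inferInstance
    have hcomm : ∀ a b : MulAut K, a * b = b * a := by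
      have := (IsCyclic.mulAutMulEquiv K)
      intro a b
      apply this.injective
      rw [map_mul, map_mul, mul_comm]
    exact Group.isSolvable_of_comm hcomm
  have hcent : ∀ g : N, g * x = x * g := by
    intro g
    have h1 := hom_trivial hperf (MulAut.conjNormal : N →* MulAut K) hKsolv g
    have h2 := congrArg (fun α : MulAut K => ((α ⟨x, Subgroup.mem_zpowers x⟩ : K) : N)) h1
    simp only [MulAut.conjNormal_apply, MulAut.one_apply] at h2
    rw [mul_inv_eq_iff_eq_mul] at h2
    exact h2
  -- transfer into a Sylow 3-subgroup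
  let P : Sylow 3 N := default
  have hPcyc : IsCyclic P := by
    rcases pgroup h 3 P P.isPGroup' with h1 | ⟨h1, -⟩
    · exact h1
    · norm_num at h1
  have hxP : x ∈ P := by
    have hpK : IsPGroup 3 K := IsPGroup.of_card (n := 1) (by rw [hK, pow_one])
    have h1 : IsPGroup 3 (K ⊔ P : Subgroup N) := IsPGroup.to_sup_of_normal_left hpK P.isPGroup'
    have h2 : K ⊔ P = P := P.is_maximal' h1 le_sup_right
    have h3 : K ≤ P := by rw [← h2]; exact le_sup_left
    exact h3 (Subgroup.mem_zpowers x)
  let _ : CommGroup P := { (inferInstance : Group P) with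
    mul_comm := by
      obtain ⟨g, hg⟩ := hPcyc.exists_generator
      intro a b
      obtain ⟨i, rfl⟩ := hg a
      obtain ⟨j, rfl⟩ := hg b
      simp only
      rw [← zpow_add, ← zpow_add, add_comm] }
  have ht := MonoidHom.transfer_eq_pow (MonoidHom.id P) x (fun k g₀ _ => by
    have hk : ∀ k : ℕ, g₀ * x ^ k = x ^ k * g₀ := fun k => by
      have : Commute g₀ x := hcent g₀
      exact (this.pow_right k).eq
    rw [mul_assoc, ← hk, ← mul_assoc, inv_mul_cancel, one_mul])
  have hPs : Group.IsSolvable P := Group.isSolvable_of_comm mul_comm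
  have ht2 := hom_trivial hperf (MonoidHom.transfer (MonoidHom.id P)) hPs x
  rw [ht2] at ht
  have h1 : x ^ (P : Subgroup N).index = 1 := (congrArg Subtype.val ht).symm
  have h2 := orderOf_dvd_of_pow_eq_one h1
  rw [hx] at h2
  exact P.not_dvd_index h2

end H74.Perf
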