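import Cfsg.Agent.Lib.H62.PGXE
import Cfsg.Agent.Lib.H59.G8g
import Cfsg.Agent.Lib.H28.GW8A

set_option autoImplicit false
set_option linter.unusedSectionVars false
set_option linter.unusedVariables false
set_option linter.style.haveILetI false

/-!
# S3322, dihedral part: the group `X = G / O(G)`
-/

namespace H74.DG

open Matrix Subgroup H50.PSLBasic H50.PSLUniq H50.PSLField H50.PSLCount H50.H90 H62.PGX H59.G8 H17.FourGrp

local notation "PSL2" F => ProjectiveSpecialLinearGroup (Fin 2) F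

/-- recognition of `PGL₂(q)` -/
theorem pgl_of {X : Type*} [Group X] [Finite X] (L : Subgroup X) [hL : L.Normal] {F : Type*} [Field F]
    [Fintype F] (hF : Odd (Fintype.card F)) (e : L ≃* PSL2 F)
    (hC : Subgroup.centralizer (L : Set X) = ⊥) (hE : NoE8 X) (hidx : L.index = 2) {w : X}
    (hw : w * w = 1) (hwL : w ∉ L) : Nonempty (X ≃* Matrix.ProjGenLinGroup (Fin 2) F) := by
  classical
  obtain ⟨p, hp⟩ := CharP.exists F
  have hpp : p.Prime := (CharP.char_is_prime_or_zero F p).resolve_right (CharP.char_ne_zero_of_finite F p)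
  have : Fact p.Prime := ⟨hpp⟩
  have h2 : (2 : F) ≠ 0 := H45.SL2.two_ne_zero_of_odd hF
  have hinj := ph_inj L e hC
  obtain ⟨g0, hg0⟩ := no_field (p := p) L e h2 hC hE hw
  have hrange : ∀ x : X, ph L e x ∈ (psiHom : GL (Fin 2) F →* _).range := by
    have h0 : ∀ x ∈ L, ph L e x ∈ (psiHom : GL (Fin 2) F →* _).range := by
      intro x hx
      have h1 := ph_mem L e ⟨x, hx⟩
      obtain ⟨s, hs⟩ := QuotientGroup.mk_surjective (e ⟨x, hx⟩)
      refine ⟨Matrix.SpecialLinearGroup.toGL s, ?_⟩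
      change psi _ _ = _
      change ph L e x = _ at h1
      rw [h1, ← hs]
      exact (H50.PSLPure.conj_eq_psi s).symm
    intro x
    by_cases hx : x ∈ L
    · exact h0 x hx
    · have h1 : x * w⁻¹ ∈ L := by
        rw [Subgroup.mul_mem_iff_of_index_two hidx]
        exact ⟨fun h => absurd h hx, fun h => absurd (by simpa using h) hwL⟩
      have h3 : x = x * w⁻¹ * w := by group
      rw [h3, map_mul]
      refine mul_mem (h0 _ h1) ⟨g0, ?_⟩
      change psi g0 1 = _
      rw [hg0]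
  have hker : (psiHom : GL (Fin 2) F →* _).ker = Subgroup.center (GL (Fin 2) F) := by
    ext g
    rw [mem_center_GL_iff, MonoidHom.mem_ker]
    change psi g 1 = 1 ↔ _
    rw [psi_eq_one_iff]
    exact ⟨fun h => h.2, fun h => ⟨rfl, h⟩⟩
  let f' : X →* (psiHom : GL (Fin 2) F →* _).range := (ph L e).codRestrict _ hrange
  have hf'inj : Function.Injective f' := fun x y hxy => hinj (congrArg Subtype.val hxy)
  let E1 := QuotientGroup.quotientKerEquivRange (psiHom : GL (Fin 2) F →* MulAut (ProjectiveSpecialLinearGroup (Fin 2) F))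
  let E2 := QuotientGroup.quotientMulEquivOfEq hker
  have hcard : Nat.card (psiHom : GL (Fin 2) F →* MulAut (ProjectiveSpecialLinearGroup (Fin 2) F)).range = Nat.card X := by
    rw [← Nat.card_congr E1.toEquiv, Nat.card_congr E2.toEquiv]
    have h1 : Nat.card (GL (Fin 2) F ⧸ Subgroup.center (GL (Fin 2) F)) = Nat.card (SpecialLinearGroup (Fin 2) F) :=
      H6.SLCard.card_pgl (F := F) (ι := Fin 2)
    rw [h1, Subgroup.card_eq_card_quotient_mul_card_subgroup (Subgroup.center (SpecialLinearGroup (Fin 2) F)),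
      H6.SLCard.card_center_sl, Fintype.card_fin]
    have h2 : Nat.gcd 2 (Fintype.card F - 1) = 2 := by
      apply Nat.gcd_eq_left
      obtain ⟨k, hk⟩ := hF
      exact ⟨k, by omega⟩
    rw [h2, ← Subgroup.card_mul_index L, hidx, Nat.card_congr e.toEquiv]
  have hbij : Function.Bijective f' := by
    have : Finite (psiHom : GL (Fin 2) F →* MulAut (ProjectiveSpecialLinearGroup (Fin 2) F)).range := by
      apply Nat.finite_of_card_ne_zero
      rw [hcard]
      exact Nat.card_pos.ne'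
    exact (Nat.bijective_iff_injective_and_card f').2 ⟨hf'inj, hcard.symm⟩
  exact ⟨(MulEquiv.ofBijective f' hbij).trans (E1.symm.trans E2)⟩

/-- the centralizer of the involution `j` -/
structure DJ {X : Type*} [Group X] (A : Subgroup X) (j : X) : Prop where
  jA : j ∈ A
  sq : j * j = 1
  ne : j ≠ 1
  com : ∀ a ∈ A, a * j = j * a
  uniq : ∀ a ∈ A, a * a = 1 → a = 1 ∨ a = j
  out : ∀ x, x * j = j * x → x ∉ A → x * x = 1 ∧ ∀ a ∈ A, x * a * x⁻¹ = a⁻¹
  ex : ∃ x, x * j = j * x ∧ x ∉ A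

theorem DJ.odd_mem {X : Type*} [Group X] {A : Subgroup X} {j : X} (h : DJ A j) {a : X} (ha : a * j = j * a)
    (ho : Odd (orderOf a)) : a ∈ A := by
  by_contra hno
  have h1 := (h.out a ha hno).1
  have h2 : orderOf a ∣ 2 := orderOf_dvd_of_pow_eq_one (by rw [pow_two]; exact h1)
  have h3 : orderOf a = 1 := by
    rcases (Nat.dvd_prime Nat.prime_two).1 h2 with h | h
    · exact h
    · rw [h] at ho; exact absurd ho (by decide)
  rw [orderOf_eq_one_iff] at h3
  exact hno (h3 ▸ A.one_mem)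

/-- an element of odd order whose `2^k`-th power is in `L` is in `L` -/
theorem mem_of_pow_two {X : Type*} [Group X] {L : Subgroup X} {x : X} (ho : Odd (orderOf x)) {k : ℕ}
    (h : x ^ 2 ^ k ∈ L) : x ∈ L := by
  have hco : Nat.Coprime (2 ^ k) (orderOf x) := Nat.Coprime.pow_left _ (Nat.coprime_two_left.2 ho)
  have h1 : x ^ orderOf x ∈ L := by rw [pow_orderOf_eq_one]; exact L.one_mem
  have h2 : x = (x ^ 2 ^ k) ^ (Nat.gcdA (2 ^ k) (orderOf x)) * (x ^ orderOf x) ^ (Nat.gcdB (2 ^ k) (orderOf x)) := by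
    rw [← zpow_natCast x (2 ^ k), ← zpow_natCast x (orderOf x), ← _root_.zpow_mul, ← _root_.zpow_mul, ← _root_.zpow_add,
      ← Nat.gcd_eq_gcd_ab, hco.gcd_eq_one]
    simp
  rw [h2]
  exact L.mul_mem (L.zpow_mem h _) (L.zpow_mem h1 _)

/-- a `2^k`-th power of odd order -/
theorem exists_pow_odd {X : Type*} [Group X] [Finite X] (x : X) : ∃ k : ℕ, Odd (orderOf (x ^ 2 ^ k)) := by
  have hpos := orderOf_pos x
  obtain ⟨k, m, hm, hk⟩ := Nat.exists_eq_two_pow_mul_odd hpos.ne'
  refine ⟨k, ?_⟩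
  rw [orderOf_pow' x (by positivity), hk, Nat.gcd_eq_right (Dvd.intro _ rfl), Nat.mul_div_cancel_left _ (by positivity)]
  exact hm

section
variable {X : Type*} [Group X] [Finite X] {L : Subgroup X} {q : ℕ} {ε : ℤ} {m m' : ℕ} {A : Subgroup X} {j : X}

/-- commutators are in `L` -/
theorem sq_mem (hf : Fct L q ε m m') {x a : X} (h : x * a * x⁻¹ = a⁻¹) : a * a ∈ L := by
  have h1 := hf.ab x a
  rw [h, ← _root_.mul_inv_rev] at h1
  exact (L.inv_mem_iff).1 h1

/-- Claim 1: the elements of odd order are in `L` -/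
theorem odd_mem (hD : Dh X) (hf : Fct L q ε m m') (hj : DJ A j) {f : X} (ho : Odd (orderOf f)) : f ∈ L := by
  classical
  haveI := hf.normal
  -- it suffices to find an involution `w ∈ L` all of whose odd order centralizing elements are in `L`
  have key : ∀ w ∈ L, w * w = 1 → w ≠ 1 → (∀ c, c * w = w * c → Odd (orderOf c) → c ∈ L) → f ∈ L := by
    intro w hwL hw hw1 hc
    obtain ⟨l, hl, hlw⟩ := hf.conj (f * w * f⁻¹) (hf.normal.conj_mem w hwL f) w hwL
      (by rw [show f * w * f⁻¹ * (f * w * f⁻¹) = f * (w * w) * f⁻¹ by group, hw]; group)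
      (by
        intro h
        apply hw1
        have : w = f⁻¹ * (f * w * f⁻¹) * f := by group
        rw [this, h]; group) hw hw1
    have h1 : (l * f) * w = w * (l * f) := by
      calc (l * f) * w = (l * (f * w * f⁻¹) * l⁻¹) * (l * f) := by group
        _ = w * (l * f) := by rw [hlw]
    obtain ⟨k, hk⟩ := exists_pow_odd (l * f)
    have h2 : (l * f) ^ 2 ^ k ∈ L := by
      refine hc _ ?_ hk
      exact (Commute.pow_left (show Commute (l * f) w from h1) _).eq
    have h3 : f ^ 2 ^ k ∈ L := by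
      rw [← QuotientGroup.eq_one_iff] at h2 ⊢
      rw [QuotientGroup.mk_pow] at h2 ⊢
      have h4 : (QuotientGroup.mk (l * f) : X ⧸ L) = QuotientGroup.mk f := by
        rw [QuotientGroup.mk_mul, (QuotientGroup.eq_one_iff l).2 hl, one_mul]
      rw [← h4]; exact h2
    exact mem_of_pow_two ho h3
  by_cases hjL : j ∈ L
  · refine key j hjL hj.sq hj.ne ?_
    intro c hc hco
    obtain ⟨x, hx, hxA⟩ := hj.ex
    have h1 := (hj.out x hx hxA).2 c (hj.odd_mem hc hco)
    have h2 : c ^ 2 ^ 1 ∈ L := by rw [pow_one, pow_two]; exact sq_mem hf h1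
    exact mem_of_pow_two hco h2
  · -- an involution of `L` commuting with `j`
    obtain ⟨T, hT⟩ := hf.tor' j hj.sq hjL
    obtain ⟨w, hwL, hwj, hwT⟩ := hT.ex
    have hw := (hT.out w hwL hwj hwT).1
    have hw1 : w ≠ 1 := by
      rintro rfl; exact hwT T.one_mem
    have hwA : w ∉ A := by
      intro h
      rcases hj.uniq w h hw with h1 | h1
      · exact hw1 h1
      · rw [h1] at hwL; exact hjL hwL
    refine key w hwL hw hw1 ?_
    intro c hc hco
    -- the core of the centralizer of `w`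
    have hp : Fact (Nat.Prime 2) := ⟨Nat.prime_two⟩
    have hcK : c ∈ H4.GW.U w := H59.G8.nilp hD hw hw1 (Subgroup.mem_centralizer_singleton_iff.2 hc) hco
    have hjn : j ∈ normalizer (H4.GW.U w : Set X) :=
      H4.GW.le_norm_oc _ (Subgroup.mem_centralizer_singleton_iff.2 hwj.symm)
    have hodd : Odd (Nat.card (H4.GW.U w)) := H4.GW.odd_oc _
    have hfix : ∀ y ∈ H4.GW.U w, j * y * j⁻¹ = y → y = 1 := by
      intro y hy hjy
      have hyj : y * j = j * y := by
        calc y * j = (j * y * j⁻¹) * j := by rw [hjy]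
          _ = j * y := by group
      have hyo : Odd (orderOf y) := by
        have := orderOf_dvd_natCard (⟨y, hy⟩ : H4.GW.U w)
        rw [Subgroup.orderOf_mk] at this
        exact hodd.of_dvd_nat this
      have h1 := (hj.out w hwj hwA).2 y (hj.odd_mem hyj hyo)
      have h2 : y * w = w * y := Subgroup.mem_centralizer_singleton_iff.1 (H4.GW.oc_le _ hy)
      have h3 : w * y * w⁻¹ = y := by rw [← h2]; group
      rw [h3] at h1
      have h4 : y * y = 1 := by
        nth_rewrite 1 [h1]; group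
      have h5 : orderOf y ∣ 2 := orderOf_dvd_of_pow_eq_one (by rw [pow_two]; exact h4)
      rcases (Nat.dvd_prime Nat.prime_two).1 h5 with h | h
      · exact orderOf_eq_one_iff.1 h
      · rw [h] at hyo; exact absurd hyo (by decide)
    have hinv : j * c * j⁻¹ = c⁻¹ := by
      obtain ⟨c1, hc1, a, ha, hc', ha', hca⟩ := H4.GW.exists_decomp hodd hj.sq hjn hcK
      have h1 : c1 = 1 := hfix c1 hc1 hc'
      rw [h1, one_mul] at hca
      rw [hca]; exact ha'
    have h2 : c ^ 2 ^ 1 ∈ L := by rw [pow_one, pow_two]; exact sq_mem hf hinv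
    exact mem_of_pow_two hco h2

end

/-- a subgroup containing a Klein four-group has no cyclic Sylow `2`-subgroup -/
theorem not_cyclic {X : Type*} [Group X] [Finite X] {a b : X} (hab : IsPair a b) {N : Subgroup X}
    (haN : a ∈ N) (hbN : b ∈ N) (R : Sylow 2 N) : ¬ IsCyclic (R : Subgroup N) := by
  classical
  intro hc
  have hp : Fact (Nat.Prime 2) := ⟨Nat.prime_two⟩
  set a' : N := ⟨a, haN⟩
  set b' : N := ⟨b, hbN⟩
  have haa : a' * a' = 1 := Subtype.ext hab.haa
  have hbb : b' * b' = 1 := Subtype.ext hab.hbb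
  have hcomm : a' * b' = b' * a' := Subtype.ext hab.hcomm
  have hV : IsPGroup 2 (closure ({a', b'} : Set N)) := by
    have h1 : ∀ x ∈ closure ({a', b'} : Set N), x = 1 ∨ x = a' ∨ x = b' ∨ x = a' * b' := by
      intro x hx
      induction hx using Subgroup.closure_induction with
      | mem x hx =>
        rcases hx with rfl | hx
        · exact Or.inr (Or.inl rfl)
        · exact Or.inr (Or.inr (Or.inl hx))
      | one => exact Or.inl rfl
      | mul x y _ _ h1 h2 =>
        have haa' : ∀ z, a' * (a' * z) = z := fun z => by rw [← mul_assoc, haa, one_mul]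
        have hbb' : ∀ z, b' * (b' * z) = z := fun z => by rw [← mul_assoc, hbb, one_mul]
        have hba : b' * a' = a' * b' := hcomm.symm
        have hba' : ∀ z, b' * (a' * z) = a' * (b' * z) := fun z => by
          rw [← mul_assoc, hba, mul_assoc]
        rcases h1 with rfl | rfl | rfl | rfl <;> rcases h2 with rfl | rfl | rfl | rfl <;>
          simp [mul_assoc, haa, hbb, haa', hbb', hba, hba']
      | inv x _ h1 =>
        have ha' : a'⁻¹ = a' := inv_eq_of_mul_eq_one_right haa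
        have hb' : b'⁻¹ = b' := inv_eq_of_mul_eq_one_right hbb
        rcases h1 with rfl | rfl | rfl | rfl
        · simp
        · rw [ha']; simp
        · rw [hb']; simp
        · rw [_root_.mul_inv_rev, ha', hb', ← hcomm]; simp
    rintro ⟨x, hx⟩
    refine ⟨1, Subtype.ext ?_⟩
    show x ^ 2 ^ 1 = 1
    rw [pow_one, pow_two]
    rcases h1 x hx with rfl | rfl | rfl | rfl
    · simp
    · exact haa
    · exact hbb
    · rw [mul_assoc a' b', ← mul_assoc b' a', ← hcomm, mul_assoc a' b', hbb, mul_one, haa]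
  obtain ⟨S, hS⟩ := hV.exists_le_sylow
  have hSc : IsCyclic (S : Subgroup N) := isCyclic_of_surjective _ (R.equiv S).surjective
  have h2 : ∀ x : N, x ∈ (S : Subgroup N) → ∀ y ∈ (S : Subgroup N), x * x = 1 → y * y = 1 → x ≠ 1 → y ≠ 1 → x = y := by
    intro x hx y hy hxx hyy hx1 hy1
    exact H5.InvTools.cyclic_involution_unique_mem (S : Subgroup N) hSc hx hy
      (H5.Dihedral.orderOf_eq_two hxx hx1) (H5.Dihedral.orderOf_eq_two hyy hy1)
  have h3 := h2 a' (hS (subset_closure (by simp))) b' (hS (subset_closure (by simp))) haa hbb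
    (fun h => hab.ha (congrArg Subtype.val h)) (fun h => hab.hb (congrArg Subtype.val h))
  exact hab.hab (congrArg Subtype.val h3)

/-- the shape of a Sylow `2`-subgroup of a subgroup containing a Klein four-group -/
theorem exists_ci {X : Type*} [Group X] [Finite X] (hD : Dh X) {a b : X} (hab : IsPair a b) {N : Subgroup X}
    (haN : a ∈ N) (hbN : b ∈ N) {g : X} (hg : g ∈ N) {k : ℕ} (hgk : g ^ 2 ^ k = 1) :
    (g * g = 1) ∨ ∃ r ∈ N, r * r = 1 ∧ r ≠ 1 ∧ (g * r) * (g * r) = 1 := by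
  classical
  have hp : Fact (Nat.Prime 2) := ⟨Nat.prime_two⟩
  set g' : N := ⟨g, hg⟩ with hg'
  have hgp : IsPGroup 2 (zpowers g') := by
    have h1 : orderOf g' ∣ 2 ^ k := orderOf_dvd_of_pow_eq_one (Subtype.ext hgk)
    obtain ⟨i, -, hi⟩ := (Nat.dvd_prime_pow Nat.prime_two).1 h1
    exact IsPGroup.of_card (n := i) (by rw [Nat.card_zpowers, hi])
  obtain ⟨R, hR⟩ := hgp.exists_le_sylow
  have hgR : g' ∈ (R : Subgroup N) := hR (mem_zpowers g')
  obtain ⟨R0, hc, hi, hs⟩ := (hD.sub N) R R.2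
  have hne : R0 ≠ ⊤ := by
    rintro rfl
    have : IsCyclic (R : Subgroup N) := isCyclic_of_surjective _ (Subgroup.topEquiv (G := (R : Subgroup N))).surjective
    exact not_cyclic hab haN hbN R this
  obtain ⟨r, hr⟩ : ∃ r, r ∉ R0 := by
    by_contra! hno
    exact hne (eq_top_iff.2 fun x _ => hno x)
  by_cases hgr : (⟨g', hgR⟩ : (R : Subgroup N)) ∈ R0
  · right
    refine ⟨((r : N) : X), (r : N).2, ?_, ?_, ?_⟩
    · exact congrArg (fun x : (R : Subgroup N) => ((x : N) : X)) (hs r hr)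
    · intro h
      apply hr
      have : r = 1 := Subtype.ext (Subtype.ext h)
      rw [this]; exact R0.one_mem
    · have h2 : (⟨g', hgR⟩ : (R : Subgroup N)) * r ∉ R0 := fun h =>
        hr (by have := R0.mul_mem (R0.inv_mem hgr) h; rwa [inv_mul_cancel_left] at this)
      exact congrArg (fun x : (R : Subgroup N) => ((x : N) : X)) (hs _ h2)
  · left
    exact congrArg (fun x : (R : Subgroup N) => ((x : N) : X)) (hs _ hgr)

section
variable {X : Type*} [Group X] [Finite X] {L : Subgroup X} {q : ℕ} {ε : ℤ} {m m' : ℕ} {A : Subgroup X} {j : X}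

theorem exists_pair' (hf : Fct L q ε m m') : ∃ a ∈ L, ∃ b ∈ L, IsPair a b := by
  classical
  haveI := hf.normal
  have h2 : 2 ∣ Nat.card L := by
    have h1 := hf.card
    obtain ⟨k, hk⟩ : ∃ k, q = 2 * k + 1 := by
      rcases hf.eps with h | h
      · exact ⟨q / 2, by omega⟩
      · exact ⟨q / 2, by omega⟩
    have h3 : q ^ 2 - 1 = 4 * (k * (k + 1)) := by
      rw [hk, show (2 * k + 1) ^ 2 = 4 * (k * (k + 1)) + 1 by ring, Nat.add_sub_cancel]
    rw [h3] at h1
    exact ⟨q * (k * (k + 1)), by linarith⟩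
  have hp : Fact (Nat.Prime 2) := ⟨Nat.prime_two⟩
  obtain ⟨z, hz⟩ := exists_prime_orderOf_dvd_card' 2 h2
  have hz2 : (z : X) * z = 1 := congrArg Subtype.val (H5.Dihedral.mul_self hz)
  have hz1 : (z : X) ≠ 1 := by
    intro h
    have : z = 1 := Subtype.ext h
    rw [this, orderOf_one] at hz
    omega
  obtain ⟨b, hb, hab⟩ := hf.exists_pair z.2 hz2 hz1
  exact ⟨z, z.2, b, hb, hab⟩

/-- Claim 2 -/
theorem idx_two (hD : Dh X) (hf : Fct L q ε m m') (hj : DJ A j) {x y : X} (hx : x ∉ L) (hy : y ∉ L) : x * y ∈ L := by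
  classical
  haveI := hf.normal
  obtain ⟨N, hLN, hNn, hN2, hNi⟩ := hf.idx
  obtain ⟨a, ha, b, hb, hab⟩ := exists_pair' hf
  have hNL : ∀ g ∈ N, g ∈ L := by
    intro g hg
    -- the `2`-part
    obtain ⟨k, hk⟩ := exists_pow_odd g
    have h1 : g ^ 2 ^ k ∈ L := odd_mem hD hf hj hk
    -- decompose `g`
    set o := orderOf (g ^ 2 ^ k) with ho
    have h2 : (g ^ o) ^ 2 ^ k = 1 := by
      rw [← pow_mul, mul_comm, pow_mul, ho, pow_orderOf_eq_one]
    have h3 : g ^ o ∈ L := by
      rcases exists_ci hD hab (hLN ha) (hLN hb) (N.pow_mem hg o) h2 with h | ⟨r, hr, hrr, hr1, hgr⟩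
      · exact hNi _ (N.pow_mem hg o) h
      · have h4 := hNi r hr hrr
        have h5 := hNi _ (N.mul_mem (N.pow_mem hg o) hr) hgr
        have := L.mul_mem h5 (L.inv_mem h4)
        rwa [mul_inv_cancel_right] at this
    have hco : Nat.Coprime (2 ^ k) o := Nat.Coprime.pow_left _ (Nat.coprime_two_left.2 hk)
    have h6 : g = (g ^ 2 ^ k) ^ (Nat.gcdA (2 ^ k) o) * (g ^ o) ^ (Nat.gcdB (2 ^ k) o) := by
      rw [← zpow_natCast g (2 ^ k), ← zpow_natCast g o, ← _root_.zpow_mul, ← _root_.zpow_mul, ← _root_.zpow_add,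
        ← Nat.gcd_eq_gcd_ab, hco.gcd_eq_one]
      simp
    rw [h6]
    exact L.mul_mem (L.zpow_mem h1 _) (L.zpow_mem h3 _)
  exact hNL _ (hN2 x y (fun h => hx (hNL x h)) (fun h => hy (hNL y h)))

/-- Claim 3: an involution outside `L` -/
theorem exists_out (hD : Dh X) (hf : Fct L q ε m m') (hj : DJ A j) {g : X} (hg : g ∉ L) :
    ∃ w, w * w = 1 ∧ w ∉ L := by
  classical
  haveI := hf.normal
  obtain ⟨a, ha, b, hb, hab⟩ := exists_pair' hf
  obtain ⟨k, hk⟩ := exists_pow_odd g
  have h1 : g ^ 2 ^ k ∈ L := odd_mem hD hf hj hk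
  set o := orderOf (g ^ 2 ^ k) with ho
  have h2 : (g ^ o) ^ 2 ^ k = 1 := by
    rw [← pow_mul, mul_comm, pow_mul, ho, pow_orderOf_eq_one]
  have h3 : g ^ o ∉ L := by
    intro h3
    apply hg
    have hco : Nat.Coprime (2 ^ k) o := Nat.Coprime.pow_left _ (Nat.coprime_two_left.2 hk)
    have h6 : g = (g ^ 2 ^ k) ^ (Nat.gcdA (2 ^ k) o) * (g ^ o) ^ (Nat.gcdB (2 ^ k) o) := by
      rw [← zpow_natCast g (2 ^ k), ← zpow_natCast g o, ← _root_.zpow_mul, ← _root_.zpow_mul, ← _root_.zpow_add,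
        ← Nat.gcd_eq_gcd_ab, hco.gcd_eq_one]
      simp
    rw [h6]
    exact L.mul_mem (L.zpow_mem h1 _) (L.zpow_mem h3 _)
  rcases exists_ci hD hab (N := ⊤) (mem_top _) (mem_top _) (mem_top (g ^ o)) h2 with h | ⟨r, hr, hrr, hr1, hgr⟩
  · exact ⟨_, h, h3⟩
  · by_cases hrL : r ∈ L
    · refine ⟨_, hgr, fun h => h3 ?_⟩
      have := L.mul_mem h (L.inv_mem hrL)
      rwa [mul_inv_cancel_right] at this
    · exact ⟨r, hrr, hrL⟩

end

/-- the case `L ≃* PSL₂(q)` -/
theorem final_psl {X : Type*} [Group X] [Finite X] (hD : Dh X) (L : Subgroup X) [hL : L.Normal] {F : Type*} [Field F]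
    [Fintype F] (hF : Odd (Fintype.card F)) (h3 : 3 < Fintype.card F) (e : L ≃* PSL2 F)
    (hC : Subgroup.centralizer (L : Set X) = ⊥) {A : Subgroup X} {j : X} (hj : DJ A j) :
    Nonempty (X ≃* PSL2 F) ∨ Nonempty (X ≃* Matrix.ProjGenLinGroup (Fin 2) F) := by
  classical
  obtain ⟨ε, m, m', h1, h2, h4⟩ := exists_eps hF
  have hf := fct L e hC (noE8_of_Dh hD) rfl hF h3 h1 h2 h4
  by_cases htop : L = ⊤
  · left
    subst htop
    exact ⟨Subgroup.topEquiv.symm.trans e⟩
  · right
    obtain ⟨g, hg⟩ : ∃ g, g ∉ L := by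
      by_contra! hno
      exact htop (eq_top_iff.2 fun x _ => hno x)
    obtain ⟨w, hw, hwL⟩ := exists_out hD hf hj hg
    refine pgl_of L hF e hC (noE8_of_Dh hD) ?_ hw hwL
    rw [Subgroup.index_eq_two_iff]
    refine ⟨w, fun b => ?_⟩
    by_cases hb : b ∈ L
    · right
      refine ⟨hb, fun h => hwL ?_⟩
      have := L.mul_mem (L.inv_mem hb) h
      rwa [inv_mul_cancel_left] at this
    · left
      exact ⟨idx_two hD hf hj hb hwL, hb⟩

end H74.DG
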