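import Cfsg.Agent.Lib.H74.DG1
import Cfsg.Agent.Lib.H73.SolvSmall

set_option autoImplicit false
set_option linter.unusedSectionVars false
set_option linter.unusedVariables false
set_option linter.style.haveILetI false

/-!
# S3322, dihedral part: the group `X = G / O(G)`, conclusion
-/

namespace H74.DG

open Cfsg Subgroup H59.G8

universe u

theorem solvable_klein {X : Type*} [Group X] [Finite X] {Q : Subgroup X} (hQn : Q.Normal) (hQ : IsKleinFour Q)
    (hC : centralizer (Q : Set X) = Q) : Group.IsSolvable X := by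
  classical
  let f : X →* Equiv.Perm Q := (MulAut.toPerm Q).comp (MulAut.conjNormal (H := Q))
  have hk : f.ker ≤ Q := by
    intro x hx
    rw [← hC, mem_centralizer_iff]
    intro y hy
    have h1 : f x = 1 := MonoidHom.mem_ker.1 hx
    have h2 : (MulAut.conjNormal x) (⟨y, hy⟩ : Q) = ⟨y, hy⟩ := congrArg (fun p : Equiv.Perm Q => p ⟨y, hy⟩) h1
    have h3 : x * y * x⁻¹ = y := congrArg Subtype.val h2
    calc y * x = (x * y * x⁻¹) * x := by rw [h3]
      _ = x * y := by group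
  haveI : Fintype Q := Fintype.ofFinite Q
  have h4 : Group.IsSolvable (Equiv.Perm Q) := H73.SolvSmall.isSolvable_perm_of_card_four hQ.card_four
  have hQs : Group.IsSolvable Q :=
    H73.SolvSmall.isSolvable_of_card_pow Nat.prime_two (n := 2) (by rw [hQ.card_four]; norm_num)
  refine (Group.isSolvable_iff_subgroup_quotient f.ker).mpr ⟨?_, ?_⟩
  · exact Group.isSolvable_of_isSolvable_injective (f := Subgroup.inclusion hk) (Subgroup.inclusion_injective hk)
  · exact Group.isSolvable_of_isSolvable_injective (f := QuotientGroup.kerLift f) (QuotientGroup.kerLift_injective f)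

section alt
open Equiv Equiv.Perm

def f0 : Perm (Fin 7) := swap 4 5 * swap 5 6

/-- the case `L ≃* A₇` does not occur -/
theorem final_alt {X : Type*} [Group X] [Finite X] (hD : Dh X) {L : Subgroup X} [hL : L.Normal]
    (hC : centralizer (L : Set X) = ⊥) (e : L ≃* alternatingGroup (Fin 7)) {A : Subgroup X} {j : X}
    (hj : DJ A j) : False := by
  classical
  have hjL : j ∈ L := alt_inv hD hC e hj.sq
  set σ : Perm (Fin 7) := ((e ⟨j, hjL⟩ : alternatingGroup (Fin 7)) : Perm (Fin 7)) with hσ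
  have hσσ : σ * σ = 1 := by
    have : e ⟨j, hjL⟩ * e ⟨j, hjL⟩ = 1 := by
      rw [← map_mul, show (⟨j, hjL⟩ : L) * ⟨j, hjL⟩ = 1 from Subtype.ext hj.sq, map_one]
    exact congrArg Subtype.val this
  have hσ1 : σ ≠ 1 := by
    intro h
    have h1 : e ⟨j, hjL⟩ = 1 := Subtype.ext h
    rw [MulEquiv.map_eq_one_iff] at h1
    exact hj.ne (congrArg Subtype.val h1)
  obtain ⟨c, hc⟩ := exists_conj_v0 (H5.Dihedral.orderOf_eq_two hσσ hσ1)
    (Equiv.Perm.mem_alternatingGroup.1 (e ⟨j, hjL⟩).2)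
  have hsgn : ∀ ρ : Perm (Fin 7), Perm.sign ρ = 1 → Perm.sign (c⁻¹ * ρ * c) = 1 := by
    intro ρ hρ
    rw [map_mul, map_mul, map_inv, hρ, mul_one, inv_mul_cancel]
  -- lifting
  have lift : ∀ ρ : Perm (Fin 7), Perm.sign ρ = 1 → ∃ l : L, c * (e l : Perm (Fin 7)) * c⁻¹ = ρ := by
    intro ρ hρ
    refine ⟨e.symm ⟨c⁻¹ * ρ * c, Equiv.Perm.mem_alternatingGroup.2 (hsgn ρ hρ)⟩, ?_⟩
    rw [e.apply_symm_apply]
    show c * (c⁻¹ * ρ * c) * c⁻¹ = ρ
    group
  have inj : ∀ l l' : L, c * (e l : Perm (Fin 7)) * c⁻¹ = c * (e l' : Perm (Fin 7)) * c⁻¹ → l = l' := by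
    intro l l' h
    have h1 : (e l : Perm (Fin 7)) = e l' := mul_left_cancel (mul_right_cancel h)
    exact e.injective (Subtype.ext h1)
  have hm : ∀ l l' : L, c * (e (l * l') : Perm (Fin 7)) * c⁻¹ =
      (c * (e l : Perm (Fin 7)) * c⁻¹) * (c * (e l' : Perm (Fin 7)) * c⁻¹) := by
    intro l l'
    rw [map_mul]
    show c * ((e l : Perm (Fin 7)) * (e l' : Perm (Fin 7))) * c⁻¹ = _
    group
  have h1' : c * (e 1 : Perm (Fin 7)) * c⁻¹ = 1 := by
    rw [map_one]; show c * 1 * c⁻¹ = 1; group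
  have hcj : c * (e ⟨j, hjL⟩ : Perm (Fin 7)) * c⁻¹ = v0 := hc
  obtain ⟨s, hs⟩ := lift w0 (by decide)
  obtain ⟨f, hf⟩ := lift f0 (by decide)
  have a1 : s * ⟨j, hjL⟩ = ⟨j, hjL⟩ * s := inj _ _ (by rw [hm, hm, hs, hcj]; decide)
  have a2 : f * ⟨j, hjL⟩ = ⟨j, hjL⟩ * f := inj _ _ (by rw [hm, hm, hf, hcj]; decide)
  have a3 : s * f = f * s := inj _ _ (by rw [hm, hm, hf, hs]; decide)
  have a4 : s * s = 1 := inj _ _ (by rw [hm, hs, h1']; decide)
  have a5 : s ≠ 1 := by
    rintro rfl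
    rw [h1'] at hs
    exact absurd hs (by decide)
  have a6 : s ≠ ⟨j, hjL⟩ := by
    intro h
    rw [h, hcj] at hs
    exact absurd hs (by decide)
  have a7 : f * f * f = 1 := inj _ _ (by rw [hm, hm, hf, h1']; decide)
  have a8 : f ≠ 1 := by
    rintro rfl
    rw [h1'] at hf
    exact absurd hf (by decide)
  have b1 : (s : X) * j = j * s := congrArg Subtype.val a1
  have b2 : (f : X) * j = j * f := congrArg Subtype.val a2
  have b3 : (s : X) * f = f * s := congrArg Subtype.val a3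
  have hfo : Odd (orderOf (f : X)) := by
    have h2 : orderOf (f : X) ∣ 3 := orderOf_dvd_of_pow_eq_one (by
      rw [pow_succ, pow_two]; exact congrArg Subtype.val a7)
    exact (show Odd 3 by decide).of_dvd_nat h2
  have hfA := hj.odd_mem b2 hfo
  have hsA : (s : X) ∉ A := by
    intro h
    rcases hj.uniq _ h (congrArg Subtype.val a4) with h1 | h1
    · exact a5 (Subtype.ext h1)
    · exact a6 (Subtype.ext h1)
  have h3 := (hj.out _ b1 hsA).2 _ hfA
  rw [b3, mul_inv_cancel_right] at h3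
  have h4 : (f : X) * f = 1 := by nth_rewrite 1 [h3]; group
  have h5 : orderOf (f : X) ∣ 2 := orderOf_dvd_of_pow_eq_one (by rw [pow_two]; exact h4)
  rcases (Nat.dvd_prime Nat.prime_two).1 h5 with h | h
  · exact a8 (Subtype.ext (orderOf_eq_one_iff.1 h))
  · rw [h] at hfo; exact absurd hfo (by decide)

end alt

/-- a nonsolvable group with dihedral Sylow `2`-subgroups and trivial odd core -/
theorem exists_L (gw : H28.GW8.GWThm.{u}) {X : Type u} [Group X] [Finite X] (hD : Dh X)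
    (hO : pPrimeCore 2 X = ⊥) (hns : ¬ Group.IsSolvable X) :
    ∃ L : Subgroup X, L.Normal ∧ centralizer (L : Set X) = ⊥ ∧ H28.GW8.Known L := by
  haveI : Fact (Nat.Prime 2) := ⟨Nat.prime_two⟩
  rcases struct hD hO with h | ⟨Q, h1, h2, h3⟩ | ⟨L, h1, h2, h3, h4, h5⟩
  · exact absurd (H73.SolvSmall.isSolvable_of_isPGroup Nat.prime_two h) hns
  · exact absurd (solvable_klein h1 h2 h3) hns
  · refine ⟨L, h1, h5, ?_⟩
    obtain ⟨S⟩ : Nonempty (Sylow 2 L) := inferInstance
    obtain ⟨n, hn, e⟩ := Dh.dsyl (hD.sub L) h2 h4 h3 S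
    exact gw L h2 ⟨S, n, hn, e⟩

/-- the structure of `X` -/
theorem final_X (gw : H28.GW8.GWThm.{u}) {X : Type u} [Group X] [Finite X] (hD : Dh X)
    (hO : pPrimeCore 2 X = ⊥) (hns : ¬ Group.IsSolvable X) {A : Subgroup X} {j : X} (hj : DJ A j) :
    ∃ (F : Type) (_ : Field F) (_ : Fintype F), 3 < Fintype.card F ∧
      (Nonempty (X ≃* Matrix.ProjectiveSpecialLinearGroup (Fin 2) F) ∨
        Nonempty (X ≃* Matrix.ProjGenLinGroup (Fin 2) F)) := by
  obtain ⟨L, hL, hC, ⟨F, i1, i2, h1, h2, ⟨e⟩⟩ | ⟨⟨e⟩⟩⟩ := exists_L gw hD hO hns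
  · exact ⟨F, i1, i2, h2, final_psl hD L h1 h2 e hC hj⟩
  · exact absurd (final_alt hD hC e hj) id

end H74.DG
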