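import Cfsg.Agent.Lib.H74.DG2
import Cfsg.Agent.Lib.H18.OddOrder

set_option autoImplicit false
set_option linter.unusedSectionVars false
set_option linter.unusedVariables false
set_option linter.style.haveILetI false

/-!
# S3322, dihedral part: reduction to `G / O(G)`
-/

namespace H74.DG

open Cfsg Subgroup H59.G8

universe u

/-- passing to a quotient by a normal subgroup of odd order -/
theorem DJ.quot {G : Type*} [Group G] [Finite G] {A : Subgroup G} {j : G} (hj : DJ A j) (N : Subgroup G)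
    [hN : N.Normal] (hNo : Odd (Nat.card N)) : DJ (A.map (QuotientGroup.mk' N)) (QuotientGroup.mk' N j) := by
  classical
  set π := QuotientGroup.mk' N with hπ
  have hodd : ∀ y ∈ N, Odd (orderOf y) := by
    intro y hy
    have := orderOf_dvd_natCard (⟨y, hy⟩ : N)
    rw [Subgroup.orderOf_mk] at this
    exact hNo.of_dvd_nat this
  have hker : ∀ y, π y = 1 ↔ y ∈ N := fun y => QuotientGroup.eq_one_iff y
  have two : ∀ y : G, Odd (orderOf y) → y * y = 1 → y = 1 := by
    intro y ho h
    have h5 : orderOf y ∣ 2 := orderOf_dvd_of_pow_eq_one (by rw [pow_two]; exact h)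
    rcases (Nat.dvd_prime Nat.prime_two).1 h5 with h | h
    · exact orderOf_eq_one_iff.1 h
    · rw [h] at ho; exact absurd ho (by decide)
  -- lifting of elements commuting with `j`
  have lift : ∀ x : G, π x * π j = π j * π x → ∃ y, π y = π x ∧ y * j = j * y := by
    intro x hx
    obtain ⟨n, hn, h⟩ := lift_cent N hNo hj.sq hx
    refine ⟨n * x, ?_, h⟩
    rw [map_mul, (hker n).2 hn, one_mul]
  refine
    { jA := mem_map_of_mem _ hj.jA
      sq := by rw [← map_mul, hj.sq, map_one]
      ne := fun h => hj.ne (two j (hodd j ((hker j).1 h)) hj.sq)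
      com := ?_
      uniq := ?_
      out := ?_
      ex := ?_ }
  · rintro _ ⟨a, ha, rfl⟩
    rw [← map_mul, hj.com a ha, map_mul]
  · rintro _ ⟨a, ha, rfl⟩ haa
    rw [← map_mul, hker] at haa
    obtain ⟨m, hm⟩ := hodd _ haa
    have h1 : a ^ orderOf (a * a) * a ^ orderOf (a * a) = 1 := by
      rw [← pow_two, ← pow_mul, mul_comm, pow_mul, pow_two, pow_orderOf_eq_one]
    have h2 : π (a ^ orderOf (a * a)) = π a := by
      rw [hm, pow_succ, map_mul, pow_mul, pow_two, map_pow, (hker _).2 haa, one_pow, one_mul]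
    rw [← h2]
    rcases hj.uniq _ (A.pow_mem ha _) h1 with h | h
    · left; rw [h, map_one]
    · right; rw [h]
  · intro x hx hxA
    obtain ⟨x, rfl⟩ := QuotientGroup.mk'_surjective N x
    obtain ⟨y, hy, hyj⟩ := lift x hx
    change π y = (QuotientGroup.mk' N) x at hy
    rw [← hy] at hxA ⊢
    have hyA : y ∉ A := fun h => hxA (mem_map_of_mem _ h)
    obtain ⟨h1, h2⟩ := hj.out y hyj hyA
    refine ⟨by rw [← map_mul, h1, map_one], ?_⟩
    rintro _ ⟨a, ha, rfl⟩
    rw [← map_mul, ← map_inv, ← map_mul, h2 a ha, map_inv]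
  · obtain ⟨x, hx, hxA⟩ := hj.ex
    refine ⟨π x, by rw [← map_mul, hx, map_mul], ?_⟩
    rintro ⟨a, ha, hax⟩
    have h1 : a⁻¹ * x ∈ N := by
      rw [← hker, map_mul, map_inv, hax, inv_mul_cancel]
    have h2 : a⁻¹ * x ∉ A := fun h => hxA (by have := A.mul_mem ha h; rwa [mul_inv_cancel_left] at this)
    have h3 : (a⁻¹ * x) * j = j * (a⁻¹ * x) := by
      have h4 : a⁻¹ * j = j * a⁻¹ := hj.com _ (A.inv_mem ha)
      rw [mul_assoc, hx, ← mul_assoc, h4, mul_assoc]
    have h4 := two _ (hodd _ h1) (hj.out _ h3 h2).1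
    apply h2
    rw [h4]; exact A.one_mem

theorem solvable_of_quot {G : Type u} [Group G] [Finite G] (N : Subgroup G) [N.Normal]
    (hNo : Odd (Nat.card N)) (h : Group.IsSolvable (G ⧸ N)) : Group.IsSolvable G :=
  (Group.isSolvable_iff_subgroup_quotient N).mpr ⟨H18.OddOrder.solvable hNo, h⟩

theorem odd_core {G : Type*} [Group G] [Finite G] : Odd (Nat.card (pPrimeCore 2 G)) := by
  have h := H1.Cores.coprime_card_pPrimeCore (G := G) 2
  rwa [Nat.coprime_two_right] at h

/-- the dihedral case -/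
theorem final_G (gw : H28.GW8.GWThm.{u}) {G : Type u} [Group G] [Finite G] (hD : Dh G)
    (hns : ¬ Group.IsSolvable G) {A : Subgroup G} {j : G} (hj : DJ A j) :
    ∃ (N : Subgroup G) (_ : N.Normal), Odd (Nat.card N) ∧
      ∃ (F : Type) (_ : Field F) (_ : Fintype F), 3 < Fintype.card F ∧
        (Nonempty (G ⧸ N ≃* Matrix.ProjectiveSpecialLinearGroup (Fin 2) F) ∨
          Nonempty (G ⧸ N ≃* Matrix.ProjGenLinGroup (Fin 2) F)) := by
  have hn : (pPrimeCore 2 G).Normal := H1.Cores.pPrimeCore_normal 2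
  refine ⟨pPrimeCore 2 G, hn, odd_core, ?_⟩
  exact final_X gw (hD.quot _ odd_core) (H1.Cores.pPrimeCore_quotient_pPrimeCore 2)
    (fun h => hns (solvable_of_quot _ odd_core h)) (hj.quot _ odd_core)

end H74.DG
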