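import Cfsg.Agent.Lib.H74.DG3
import Cfsg.Agent.Lib.H3.MaxClass2
import Cfsg.Agent.S0112

set_option autoImplicit false
set_option linter.unusedSectionVars false
set_option linter.unusedVariables false
set_option linter.style.haveILetI false

/-!
# S3322, dihedral part: the Sylow `2`-subgroup
-/

namespace H74.DG

open Cfsg Subgroup H59.G8

universe u

theorem dh_of_ci {X : Type*} [Group X] [Finite X] (S : Sylow 2 X) (h : CI (S : Subgroup X)) : Dh X := by
  haveI : Fact (Nat.Prime 2) := ⟨Nat.prime_two⟩
  intro R hR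
  obtain ⟨S', hS'⟩ := hR.exists_le_sylow
  have e : (S' : Subgroup X) ≃* (S : Subgroup X) := (S.equiv S').symm
  exact CI.of_injective (e.toMonoidHom.comp (Subgroup.inclusion hS'))
    (e.injective.comp (Subgroup.inclusion_injective hS')) h

theorem card_four {P : Type*} [Group P] [Finite P] {j x : P} (hj : j * j = 1) (hj1 : j ≠ 1)
    (hx1 : x ≠ 1) (hxj : x ≠ j) (C : Subgroup P)
    (hC : ∀ y, y ∈ C ↔ (y = 1 ∨ y = j ∨ y = x ∨ y = j * x)) : Nat.card C = 4 := by
  classical
  have h1 : (C : Set P) = (({1, j, x, j * x} : Finset P) : Set P) := by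
    ext y
    simp only [SetLike.mem_coe, hC, Finset.coe_insert, Finset.coe_singleton, Set.mem_insert_iff,
      Set.mem_singleton_iff]
  have h2 : Nat.card C = ({1, j, x, j * x} : Finset P).card := by
    have h3 : Nat.card C = Nat.card (C : Set P) := rfl
    rw [h3, h1]
    rw [Nat.card_eq_card_toFinset]
    simp
  rw [h2]
  have hjx1 : j * x ≠ 1 := by
    intro h
    apply hxj
    have : x = j⁻¹ := eq_inv_of_mul_eq_one_right h
    rw [this]; exact inv_eq_of_mul_eq_one_right hj
  have hjxj : j * x ≠ j := fun h => hx1 (by simpa using h)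
  have hjxx : j * x ≠ x := fun h => hj1 (by simpa using h)
  rw [Finset.card_insert_of_notMem, Finset.card_insert_of_notMem, Finset.card_insert_of_notMem,
    Finset.card_singleton]
  · simpa using hjxx.symm
  · simp only [Finset.mem_insert, Finset.mem_singleton, not_or]
    exact ⟨hxj.symm, hjxj.symm⟩
  · simp only [Finset.mem_insert, Finset.mem_singleton, not_or]
    exact ⟨hj1.symm, hx1.symm, hjx1.symm⟩

theorem maxclass {P : Type*} [Group P] [Finite P] (hP : IsPGroup 2 P) {j x : P} (hj : j * j = 1) (hj1 : j ≠ 1)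
    (hx : x * x = 1) (hx1 : x ≠ 1) (hxj : x ≠ j) (hc : x * j = j * x)
    (hC : ∀ y, y * j = j * y → y = 1 ∨ y = j ∨ y = x ∨ y = j * x) :
    CI P ∨ ∃ a z : P, (∀ g, g * z = z * g) ∧ z * z = 1 ∧ z ≠ 1 ∧ z ≠ j ∧
      (∀ b ∈ zpowers a, b * b = 1 → b = 1 ∨ b = z) ∧ (∀ g, ∃ k : ℤ, g = a ^ k ∨ g = j * a ^ k) ∧
      j * a * j⁻¹ = a⁻¹ * z ∧ (zpowers a).index = 2 ∧ j ∉ zpowers a := by
  classical
  haveI : Fact (Nat.Prime 2) := ⟨Nat.prime_two⟩
  have hjx : (j * x) * (j * x) = 1 := by
    rw [mul_assoc, ← mul_assoc x j, hc, mul_assoc j x x, hx, mul_one, hj]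
  have hsq : ∀ y, y * j = j * y → y * y = 1 := by
    intro y hy
    rcases hC y hy with rfl | rfl | rfl | rfl
    · simp
    · exact hj
    · exact hx
    · exact hjx
  by_cases hall : ∀ y, y * j = j * y
  · left
    refine ⟨zpowers j, inferInstance, ?_, fun y _ => hsq y (hall y)⟩
    have hjinv : j⁻¹ = j := inv_eq_of_mul_eq_one_right hj
    have hz : ∀ y, y ∈ zpowers j ↔ (y = 1 ∨ y = j) := by
      intro y
      constructor
      · intro hy
        obtain ⟨k, rfl⟩ := mem_zpowers_iff.1 hy
        rcases Int.even_or_odd' k with ⟨i, rfl | rfl⟩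
        · left
          rw [_root_.zpow_mul, zpow_two, hj, one_zpow]
        · right
          rw [zpow_add, _root_.zpow_mul, zpow_two, hj, one_zpow, one_mul, zpow_one]
      · rintro (rfl | rfl)
        · exact (zpowers j).one_mem
        · exact mem_zpowers _
    have : (zpowers j).index = 2 := by
      rw [Subgroup.index_eq_two_iff]
      refine ⟨x, fun b => ?_⟩
      rw [hz, hz]
      have hjx1 : j * x ≠ 1 := by
        intro h
        apply hxj
        have : x = j⁻¹ := eq_inv_of_mul_eq_one_right h
        rw [this, hjinv]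
      have hjxj : j * x ≠ j := fun h => hx1 (by simpa using h)
      have hjxx : j * x ≠ x := fun h => hj1 (by simpa using h)
      rcases hC b (hall b) with rfl | rfl | rfl | rfl
      · right; simp [hx1, hxj]
      · right; simp [hjx1, hx1]
      · left; rw [hx]; simp [hx1, hxj]
      · left; rw [mul_assoc, hx, mul_one]; simp [hjx1, hx1]
    rw [this]
  · -- the centralizer
    push Not at hall
    obtain ⟨y0, hy0⟩ := hall
    set C : Subgroup P := centralizer {j} with hCdef
    have hmem : ∀ y, y ∈ C ↔ (y = 1 ∨ y = j ∨ y = x ∨ y = j * x) := by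
      intro y
      rw [hCdef, mem_centralizer_singleton_iff]
      constructor
      · exact hC y
      · rintro (rfl | rfl | rfl | rfl)
        · simp
        · rfl
        · exact hc
        · rw [mul_assoc, hc]
    have hcard : Nat.card C = 4 := card_four hj hj1 hx1 hxj C hmem
    have hCC : centralizer (C : Set P) = C := by
      apply le_antisymm
      · intro y hy
        rw [hCdef, mem_centralizer_singleton_iff]
        have := mem_centralizer_iff.1 hy j ((hmem j).2 (Or.inr (Or.inl rfl)))
        exact this.symm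
      · intro y hy
        rw [mem_centralizer_iff]
        intro w hw
        have h1 := hsq _ (mem_centralizer_singleton_iff.1 (hCdef ▸ hy))
        have h2 := hsq _ (mem_centralizer_singleton_iff.1 (hCdef ▸ hw))
        have h3 := hsq _ (mem_centralizer_singleton_iff.1 (hCdef ▸ C.mul_mem hw hy))
        have h4 : w⁻¹ = w := inv_eq_of_mul_eq_one_right h2
        have h5 : y⁻¹ = y := inv_eq_of_mul_eq_one_right h1
        have h6 : (w * y)⁻¹ = w * y := inv_eq_of_mul_eq_one_right h3
        rw [← h6, _root_.mul_inv_rev, h4, h5]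
    obtain ⟨n, hn⟩ := IsPGroup.iff_card.1 hP
    have hn3 : 3 ≤ n := by
      by_contra hlt
      have h1 : Nat.card P ≤ 4 := by
        rw [hn]
        calc 2 ^ n ≤ 2 ^ 2 := Nat.pow_le_pow_right (by norm_num) (by omega)
          _ = 4 := by norm_num
      have h2 : C = ⊤ := Subgroup.eq_top_of_le_card C (by rw [hcard]; exact h1)
      apply hy0
      have h3 : y0 ∈ C := h2 ▸ mem_top y0
      exact mem_centralizer_singleton_iff.1 (hCdef ▸ h3)
    have hcl := Cfsg.Agent.S0112.result n hn C (by rw [hcard]; norm_num) hCC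
    have hab := H3.MaxClassP.index_commutator_eq (by omega) hn hcl
    obtain ⟨a, t, ha, hidx, ht, hcen, hZ, h1, h2⟩ := H3.MaxClass2.exists_structure hn3 hn hab
    have haa : a * a ≠ 1 := by
      intro h
      have h3 : orderOf a ∣ 2 := orderOf_dvd_of_pow_eq_one (by rw [pow_two]; exact h)
      rw [ha] at h3
      have h4 := Nat.le_of_dvd (by norm_num) h3
      have h5 : 2 ^ 2 ≤ 2 ^ (n - 1) := Nat.pow_le_pow_right (by norm_num) (by omega)
      omega
    have hja : j ∉ zpowers a := by
      intro h
      obtain ⟨k, hk⟩ := mem_zpowers_iff.1 h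
      apply haa
      apply hsq
      rw [← hk, ← zpow_one_add, ← zpow_add_one, add_comm]
    have hjk : ∀ g, g ∉ zpowers a → ∃ k : ℤ, g = j * a ^ k := by
      intro g hg
      have h3 : j⁻¹ * g ∈ zpowers a := by
        rw [Subgroup.mul_mem_iff_of_index_two hidx]
        exact ⟨fun h => absurd (by simpa using h) hja, fun h => absurd h hg⟩
      obtain ⟨k, hk⟩ := mem_zpowers_iff.1 h3
      exact ⟨k, by rw [hk]; group⟩
    have hcz : j * a * j⁻¹ * a ∈ center P := by
      obtain ⟨k, hk⟩ := hjk t ht
      have h3 : t * a * t⁻¹ = j * a * j⁻¹ := by rw [hk]; group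
      rw [← h3]; exact h1
    obtain ⟨z, hz1, hz2⟩ := (Nat.card_eq_two_iff' (1 : center P)).1 hZ
    have hzc : ∀ g : P, g * z = z * g := fun g => mem_center_iff.1 z.2 g
    have hzz : (z : P) * z = 1 := by
      have h3 : z ^ 2 = 1 := by rw [← hZ]; exact pow_card_eq_one'
      rw [pow_two] at h3
      exact congrArg Subtype.val h3
    have hz1' : (z : P) ≠ 1 := fun h => hz1 (Subtype.ext h)
    by_cases hc1 : j * a * j⁻¹ * a = 1
    · left
      refine ⟨zpowers a, inferInstance, by rw [hidx], ?_⟩
      intro y hy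
      obtain ⟨k, rfl⟩ := hjk y hy
      have h3 : j * a * j⁻¹ = a⁻¹ := eq_inv_of_mul_eq_one_left hc1
      have h4 : j * a ^ k * j⁻¹ = (a ^ k)⁻¹ := by
        rw [← conj_zpow, h3, inv_zpow]
      calc j * a ^ k * (j * a ^ k) = (j * a ^ k * j⁻¹) * (j * j) * a ^ k := by group
        _ = 1 := by rw [h4, hj]; group
    · right
      have h3 : j * a * j⁻¹ * a = z := by
        have := hz2 ⟨_, hcz⟩ (fun h => hc1 (congrArg Subtype.val h))
        exact congrArg Subtype.val this
      have hzin : (z : P) ∈ zpowers a := by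
        have := hcen t ht
        have h4 : (z : P) ∈ zpowers a ⊓ centralizer {t} := by rw [this]; exact z.2
        exact h4.1
      refine ⟨a, z, hzc, hzz, hz1', ?_, ?_, ?_, ?_, hidx, hja⟩
      · intro h
        apply hy0
        rw [← h]; exact hzc y0
      · intro b hb hbb
        by_cases hb1 : b = 1
        · exact Or.inl hb1
        · right
          exact H5.InvTools.cyclic_involution_unique_mem (zpowers a) inferInstance hb hzin
            (H5.Dihedral.orderOf_eq_two hbb hb1) (H5.Dihedral.orderOf_eq_two hzz hz1')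
      · intro g
        by_cases hg : g ∈ zpowers a
        · obtain ⟨k, hk⟩ := mem_zpowers_iff.1 hg
          exact ⟨k, Or.inl hk.symm⟩
        · obtain ⟨k, hk⟩ := hjk g hg
          exact ⟨k, Or.inr hk⟩
      · have h4 : j * a * j⁻¹ = z * a⁻¹ := by rw [← h3]; group
        rw [h4, hzc]

end H74.DG
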