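import Cfsg.Agent.Lib.H74.DG4
import Cfsg.Agent.Lib.H3.ThompsonTransfer
import Cfsg.Agent.Lib.H5.ZStar
import Cfsg.Agent.Lib.H5.PLocal
import Cfsg.Agent.Lib.H58.UniqInv

set_option autoImplicit false
set_option linter.unusedSectionVars false
set_option linter.unusedVariables false
set_option linter.style.haveILetI false

/-!
# S3322, dihedral part: the Sylow `2`-subgroup of `G`
-/

namespace H74.DG

open Cfsg Subgroup H59.G8
open scoped Pointwise

universe u

theorem DJ.abel {X : Type*} [Group X] {A : Subgroup X} {j : X} (h : DJ A j) :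
    ∀ a ∈ A, ∀ b ∈ A, a * b = b * a := by
  obtain ⟨x, hx, hxA⟩ := h.ex
  have h1 := (h.out x hx hxA).2
  intro a ha b hb
  have h2 := h1 (a * b) (A.mul_mem ha hb)
  have h3 : x * (a * b) * x⁻¹ = (x * a * x⁻¹) * (x * b * x⁻¹) := by group
  rw [h3, h1 a ha, h1 b hb, ← _root_.mul_inv_rev] at h2
  exact (inv_injective h2).symm

/-- index two -/
def Idx {X : Type*} [Group X] (A : Subgroup X) (j : X) : Prop :=
  ∀ x y, x * j = j * x → y * j = j * y → x ∉ A → y ∉ A → x * y ∈ A

theorem ci_of_cent {G : Type*} [Group G] [Finite G] {A : Subgroup G} {j : G} (hj : DJ A j) (hidx : Idx A j)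
    (S : Subgroup G) (hS : IsPGroup 2 S) (hc : ∀ s ∈ S, s * j = j * s) : CI S := by
  classical
  haveI : Fact (Nat.Prime 2) := ⟨Nat.prime_two⟩
  refine ⟨A.subgroupOf S, ?_, ?_, ?_⟩
  · have hQ : IsPGroup 2 (A.subgroupOf S) := hS.to_subgroup _
    have hcomm : ∀ a b : A.subgroupOf S, a * b = b * a := by
      rintro ⟨⟨a, ha⟩, ha'⟩ ⟨⟨b, hb⟩, hb'⟩
      apply Subtype.ext
      apply Subtype.ext
      exact hj.abel a ha' b hb'
    have hval : ∀ x : A.subgroupOf S, orderOf x = 2 → ((x : S) : G) = j := by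
      intro x hx
      have h1 : x * x = 1 := H5.Dihedral.mul_self hx
      have h2 : ((x : S) : G) * ((x : S) : G) = 1 :=
        congrArg (fun y : A.subgroupOf S => ((y : S) : G)) h1
      rcases hj.uniq _ x.2 h2 with h | h
      · exfalso
        have : x = 1 := Subtype.ext (Subtype.ext h)
        rw [this, orderOf_one] at hx
        omega
      · exact h
    by_cases hex : ∃ x : A.subgroupOf S, orderOf x = 2
    · obtain ⟨x, hx⟩ := hex
      have hu : ∃! x : A.subgroupOf S, orderOf x = 2 :=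
        ⟨x, hx, fun y hy => Subtype.ext (Subtype.ext ((hval y hy).trans (hval x hx).symm))⟩
      have h3 := H58.UniqInv.cyclic_of_comm hQ hu ⊤ ⟨⟨fun a b => Subtype.ext (hcomm a b)⟩⟩
      exact isCyclic_of_surjective _ (Subgroup.topEquiv (G := A.subgroupOf S)).surjective
    · obtain ⟨n, hn⟩ := IsPGroup.iff_card.1 hQ
      have h1 : n = 0 := by
        by_contra hne
        apply hex
        exact exists_prime_orderOf_dvd_card' 2 (by rw [hn]; exact dvd_pow_self 2 hne)
      rw [h1, pow_zero] at hn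
      haveI : Subsingleton (A.subgroupOf S) := (Nat.card_eq_one_iff_unique.1 hn).1
      exact isCyclic_of_subsingleton
  · by_cases hall : ∀ s : S, s ∈ A.subgroupOf S
    · have : A.subgroupOf S = ⊤ := eq_top_iff.2 fun x _ => hall x
      rw [this, Subgroup.index_top]
      exact one_dvd _
    · push Not at hall
      obtain ⟨s0, hs0⟩ := hall
      have : (A.subgroupOf S).index = 2 := by
        rw [Subgroup.index_eq_two_iff]
        refine ⟨s0, fun b => ?_⟩
        by_cases hb : b ∈ A.subgroupOf S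
        · right
          refine ⟨hb, fun h => hs0 ?_⟩
          have := (A.subgroupOf S).mul_mem ((A.subgroupOf S).inv_mem hb) h
          rwa [inv_mul_cancel_left] at this
        · left
          exact ⟨mem_subgroupOf.2 (hidx _ _ (hc _ b.2) (hc _ s0.2) (fun h => hb (mem_subgroupOf.2 h))
            (fun h => hs0 (mem_subgroupOf.2 h))), hb⟩
      rw [this]
  · intro x hx
    exact Subtype.ext (hj.out _ (hc _ x.2) (fun h => hx (mem_subgroupOf.2 h))).1

theorem small_cent {G : Type*} [Group G] [Finite G] {A : Subgroup G} {j : G} (hj : DJ A j) (hidx : Idx A j)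
    (S : Subgroup G) (hS : IsPGroup 2 S) (hjS : j ∈ S) (hno : ¬ ∀ s ∈ S, s * j = j * s) :
    ∃ x ∈ S, x * x = 1 ∧ x ≠ 1 ∧ x ≠ j ∧ x * j = j * x ∧
      ∀ y ∈ S, y * j = j * y → y = 1 ∨ y = j ∨ y = x ∨ y = j * x := by
  classical
  haveI : Fact (Nat.Prime 2) := ⟨Nat.prime_two⟩
  set T : Subgroup G := S ⊓ centralizer {j} with hT
  have hmT : ∀ y, y ∈ T ↔ y ∈ S ∧ y * j = j * y := by
    intro y; rw [hT, mem_inf, mem_centralizer_singleton_iff]
  have hlt : T < S := by
    refine lt_of_le_of_ne inf_le_left ?_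
    intro h
    apply hno
    intro s hs
    exact ((hmT s).1 (h ▸ hs)).2
  obtain ⟨g, hgS, hgT, hgn⟩ := H5.PLocal.exists_mem_normalizer_not_mem hS hlt
  have hjT : j ∈ T := (hmT j).2 ⟨hjS, rfl⟩
  set x := g * j * g⁻¹ with hx
  have hxT : x ∈ T := (mem_normalizer_iff.1 hgn j).1 hjT
  have hxj : x ≠ j := by
    intro h
    apply hgT
    rw [hmT]
    refine ⟨hgS, ?_⟩
    calc g * j = (g * j * g⁻¹) * g := by group
      _ = j * g := by rw [← hx, h]
  have hxc : x * j = j * x := ((hmT x).1 hxT).2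
  have hxx : x * x = 1 := by
    rw [hx, show g * j * g⁻¹ * (g * j * g⁻¹) = g * (j * j) * g⁻¹ by group, hj.sq]; group
  have hx1 : x ≠ 1 := by
    intro h
    apply hj.ne
    have : j = g⁻¹ * x * g := by rw [hx]; group
    rw [this, h]; group
  have hxA : x ∉ A := by
    intro h
    rcases hj.uniq _ h hxx with h | h
    · exact hx1 h
    · exact hxj h
  -- `x` is central in `T`
  have hxT' : ∀ y ∈ T, y * x = x * y := by
    intro y hy
    have h1 : g⁻¹ * y * g ∈ T := by
      rw [mem_normalizer_iff.1 hgn]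
      rw [show g * (g⁻¹ * y * g) * g⁻¹ = y by group]; exact hy
    have h2 := ((hmT _).1 h1).2
    calc y * x = g * ((g⁻¹ * y * g) * j) * g⁻¹ := by rw [hx]; group
      _ = g * (j * (g⁻¹ * y * g)) * g⁻¹ := by rw [h2]
      _ = x * y := by rw [hx]; group
  have hTA : ∀ y ∈ T, y ∈ A → y = 1 ∨ y = j := by
    intro y hy hyA
    apply hj.uniq y hyA
    have h1 := (hj.out x hxc hxA).2 y hyA
    rw [← hxT' y hy, mul_inv_cancel_right] at h1
    nth_rewrite 1 [h1]; group
  refine ⟨x, ((hmT x).1 hxT).1, hxx, hx1, hxj, hxc, ?_⟩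
  intro y hyS hyj
  have hyT : y ∈ T := (hmT y).2 ⟨hyS, hyj⟩
  by_cases hyA : y ∈ A
  · rcases hTA y hyT hyA with h | h
    · exact Or.inl h
    · exact Or.inr (Or.inl h)
  · have h1 := hidx y x hyj hxc hyA hxA
    have hxi : x⁻¹ = x := inv_eq_of_mul_eq_one_right hxx
    rcases hTA _ (T.mul_mem hyT hxT) h1 with h | h
    · right; right; left
      have := eq_inv_of_mul_eq_one_left h
      rw [this, hxi]
    · right; right; right
      have : y = j * x⁻¹ := by rw [← h]; group
      rw [this, hxi]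

/-- the semidihedral configuration -/
structure SD {G : Type*} [Group G] (S : Subgroup G) (j a z : G) : Prop where
  jS : j ∈ S
  aS : a ∈ S
  zS : z ∈ S
  zc : ∀ g ∈ S, g * z = z * g
  zz : z * z = 1
  z1 : z ≠ 1
  zj : z ≠ j
  inv : ∀ b ∈ zpowers a, b * b = 1 → b = 1 ∨ b = z
  ex : ∀ g ∈ S, ∃ k : ℤ, g = a ^ k ∨ g = j * a ^ k
  cj : j * a * j⁻¹ = a⁻¹ * z
  rel : (zpowers a).relIndex S = 2
  ja : j ∉ zpowers a
  nc : ∀ g, g * j * g⁻¹ ≠ z

theorem sylow_case {G : Type*} [Group G] [Finite G] {A : Subgroup G} {j : G} (hj : DJ A j) (hidx : Idx A j) :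
    Dh G ∨ ∃ (S : Sylow 2 G) (a z : G), SD (S : Subgroup G) j a z := by
  classical
  haveI : Fact (Nat.Prime 2) := ⟨Nat.prime_two⟩
  by_cases hex : ∃ S : Sylow 2 G, ∀ s ∈ (S : Subgroup G), s * j = j * s
  · obtain ⟨S, hS⟩ := hex
    exact Or.inl (dh_of_ci S (ci_of_cent hj hidx S S.2 hS))
  push Not at hex
  have hjp : IsPGroup 2 (zpowers j) := by
    have h1 : orderOf j = 2 := H5.Dihedral.orderOf_eq_two hj.sq hj.ne
    exact IsPGroup.of_card (n := 1) (by rw [Nat.card_zpowers, h1, pow_one])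
  obtain ⟨S, hS⟩ := hjp.exists_le_sylow
  have hjS : j ∈ (S : Subgroup G) := hS (mem_zpowers j)
  have hno : ¬ ∀ s ∈ (S : Subgroup G), s * j = j * s := by
    obtain ⟨s, hs, h⟩ := hex S
    exact fun h' => h (h' s hs)
  obtain ⟨x, hxS, hxx, hx1, hxj, hxc, hC⟩ := small_cent hj hidx S S.2 hjS hno
  rcases maxclass (P := (S : Subgroup G)) S.2 (j := ⟨j, hjS⟩) (x := ⟨x, hxS⟩) (Subtype.ext hj.sq)
    (fun h => hj.ne (congrArg Subtype.val h)) (Subtype.ext hxx) (fun h => hx1 (congrArg Subtype.val h))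
    (fun h => hxj (congrArg Subtype.val h)) (Subtype.ext hxc) (fun y hy => by
      rcases hC y y.2 (congrArg Subtype.val hy) with h | h | h | h
      · exact Or.inl (Subtype.ext h)
      · exact Or.inr (Or.inl (Subtype.ext h))
      · exact Or.inr (Or.inr (Or.inl (Subtype.ext h)))
      · exact Or.inr (Or.inr (Or.inr (Subtype.ext h)))) with h | ⟨a, z, h1, h2, h3, h4, h5, h6, h7, h8, h9⟩
  · exact Or.inl (dh_of_ci S h)
  · right
    have hmz : ∀ y : (S : Subgroup G), (y : G) ∈ zpowers (a : G) ↔ y ∈ zpowers a := by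
      intro y
      rw [mem_zpowers_iff, mem_zpowers_iff]
      constructor
      · rintro ⟨k, hk⟩
        exact ⟨k, Subtype.ext (by rw [Subgroup.coe_zpow]; exact hk)⟩
      · rintro ⟨k, hk⟩
        exact ⟨k, by rw [← hk, Subgroup.coe_zpow]⟩
    have hsub : (zpowers (a : G)).subgroupOf (S : Subgroup G) = zpowers a := by
      ext y
      rw [mem_subgroupOf, hmz]
    have hleS : zpowers (a : G) ≤ (S : Subgroup G) := by
      rw [zpowers_le]; exact a.2
    refine ⟨S, a, z, ?_⟩
    refine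
      { jS := hjS
        aS := a.2
        zS := z.2
        zc := fun g hg => congrArg Subtype.val (h1 ⟨g, hg⟩)
        zz := congrArg Subtype.val h2
        z1 := fun h => h3 (Subtype.ext h)
        zj := fun h => h4 (Subtype.ext h)
        inv := ?_
        ex := ?_
        cj := congrArg Subtype.val h7
        rel := by rw [relIndex, hsub]; exact h8
        ja := fun h => h9 ((hmz ⟨j, hjS⟩).1 h)
        nc := ?_ }
    · intro b hb hbb
      rcases h5 ⟨b, hleS hb⟩ ((hmz ⟨b, hleS hb⟩).1 hb) (Subtype.ext hbb) with h | h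
      · exact Or.inl (congrArg Subtype.val h)
      · exact Or.inr (congrArg Subtype.val h)
    · intro g hg
      obtain ⟨k, h | h⟩ := h6 ⟨g, hg⟩
      · refine ⟨k, Or.inl ?_⟩
        have := congrArg Subtype.val h
        rwa [Subgroup.coe_zpow] at this
      · refine ⟨k, Or.inr ?_⟩
        have := congrArg Subtype.val h
        rwa [Subgroup.coe_mul, Subgroup.coe_zpow] at this
    · intro g hg
      -- a conjugate of `S` centralizes `j`
      obtain ⟨s, hs, hsj⟩ := hex (MulAut.conj g⁻¹ • S)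
      apply hsj
      have hs' : g * s * g⁻¹ ∈ (S : Subgroup G) := by
        have h10 : s ∈ MulAut.conj g⁻¹ • (S : Subgroup G) := hs
        rw [Subgroup.mem_pointwise_smul_iff_inv_smul_mem] at h10
        have h11 : (MulAut.conj g⁻¹)⁻¹ • s = g * s * g⁻¹ := by
          rw [← map_inv, inv_inv]; rfl
        rwa [h11] at h10
      have h12 : (g * s * g⁻¹) * (g * j * g⁻¹) = (g * j * g⁻¹) * (g * s * g⁻¹) := by
        rw [hg]; exact congrArg Subtype.val (h1 ⟨_, hs'⟩)
      have h13 : g * (s * j) * g⁻¹ = g * (j * s) * g⁻¹ := by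
        calc g * (s * j) * g⁻¹ = (g * s * g⁻¹) * (g * j * g⁻¹) := by group
          _ = (g * j * g⁻¹) * (g * s * g⁻¹) := h12
          _ = g * (j * s) * g⁻¹ := by group
      exact mul_left_cancel (mul_right_cancel h13)

end H74.DG
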