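import Cfsg.Agent.Lib.H74.DG5

set_option autoImplicit false
set_option linter.unusedSectionVars false
set_option linter.unusedVariables false
set_option linter.style.haveILetI false

/-!
# S3322, dihedral part: the semidihedral configuration does not occur
-/

namespace H74.DG

open Cfsg Subgroup H59.G8 H62.PGX

universe u

theorem eq_one_of_odd {X : Type*} [Group X] {y : X} (ho : Odd (orderOf y)) (h : y * y = 1) : y = 1 := by
  have h5 : orderOf y ∣ 2 := orderOf_dvd_of_pow_eq_one (by rw [pow_two]; exact h)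
  rcases (Nat.dvd_prime Nat.prime_two).1 h5 with h | h
  · exact orderOf_eq_one_iff.1 h
  · rw [h] at ho; exact absurd ho (by decide)

theorem eq_one_of_pow {X : Type*} [Group X] {y : X} (ho : Odd (orderOf y)) {k : ℕ} (h : y ^ 2 ^ k = 1) :
    y = 1 := by
  have := mem_of_pow_two (L := (⊥ : Subgroup X)) ho (by rw [mem_bot]; exact h)
  exact mem_bot.1 this

section alt
open Equiv Equiv.Perm

theorem alt_nf {X : Type*} [Group X] [Finite X] (hD : Dh X) {L : Subgroup X} [hL : L.Normal]
    (hC : centralizer (L : Set X) = ⊥) (e : L ≃* alternatingGroup (Fin 7)) {j : X}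
    (hjj : j * j = 1) (hj1 : j ≠ 1) : ∃ f : X, f * j = j * f ∧ f * f * f = 1 ∧ f ≠ 1 := by
  classical
  have hjL : j ∈ L := alt_inv hD hC e hjj
  set σ : Perm (Fin 7) := ((e ⟨j, hjL⟩ : alternatingGroup (Fin 7)) : Perm (Fin 7)) with hσ
  have hσσ : σ * σ = 1 := by
    have : e ⟨j, hjL⟩ * e ⟨j, hjL⟩ = 1 := by
      rw [← map_mul, show (⟨j, hjL⟩ : L) * ⟨j, hjL⟩ = 1 from Subtype.ext hjj, map_one]
    exact congrArg Subtype.val this
  have hσ1 : σ ≠ 1 := by
    intro h
    have h1 : e ⟨j, hjL⟩ = 1 := Subtype.ext h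
    rw [MulEquiv.map_eq_one_iff] at h1
    exact hj1 (congrArg Subtype.val h1)
  obtain ⟨c, hc⟩ := exists_conj_v0 (H5.Dihedral.orderOf_eq_two hσσ hσ1)
    (Equiv.Perm.mem_alternatingGroup.1 (e ⟨j, hjL⟩).2)
  have hsgn : ∀ ρ : Perm (Fin 7), Perm.sign ρ = 1 → Perm.sign (c⁻¹ * ρ * c) = 1 := by
    intro ρ hρ
    rw [map_mul, map_mul, map_inv, hρ, mul_one, inv_mul_cancel]
  have lift : ∀ ρ : Perm (Fin 7), Perm.sign ρ = 1 → ∃ l : L, c * (e l : Perm (Fin 7)) * c⁻¹ = ρ := by
    intro ρ hρ
    refine ⟨e.symm ⟨c⁻¹ * ρ * c, Equiv.Perm.mem_alternatingGroup.2 (hsgn ρ hρ)⟩, ?_⟩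
    rw [e.apply_symm_apply]
    show c * (c⁻¹ * ρ * c) * c⁻¹ = ρ
    group
  have inj : ∀ l l' : L, c * (e l : Perm (Fin 7)) * c⁻¹ = c * (e l' : Perm (Fin 7)) * c⁻¹ → l = l' := by
    intro l l' h
    have h1 : (e l : Perm (Fin 7)) = e l' := mul_left_cancel (mul_right_cancel h)
    exact e.injective (Subtype.ext h1)
  have hm : ∀ l l' : L, c * (e (l * l') : Perm (Fin 7)) * c⁻¹ =
      (c * (e l : Perm (Fin 7)) * c⁻¹) * (c * (e l' : Perm (Fin 7)) * c⁻¹) := by
    intro l l'
    rw [map_mul]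
    show c * ((e l : Perm (Fin 7)) * (e l' : Perm (Fin 7))) * c⁻¹ = _
    group
  have h1' : c * (e 1 : Perm (Fin 7)) * c⁻¹ = 1 := by
    rw [map_one]; show c * 1 * c⁻¹ = 1; group
  have hcj : c * (e ⟨j, hjL⟩ : Perm (Fin 7)) * c⁻¹ = v0 := hc
  obtain ⟨f, hf⟩ := lift f0 (by decide)
  have a2 : f * ⟨j, hjL⟩ = ⟨j, hjL⟩ * f := inj _ _ (by rw [hm, hm, hf, hcj]; decide)
  have a7 : f * f * f = 1 := inj _ _ (by rw [hm, hm, hf, h1']; decide)
  have a8 : f ≠ 1 := by
    rintro rfl
    rw [h1'] at hf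
    exact absurd hf (by decide)
  exact ⟨f, congrArg Subtype.val a2, congrArg Subtype.val a7, fun h => a8 (Subtype.ext h)⟩

end alt

/-- no element of odd order centralizes `j` -/
def NF {X : Type*} [Group X] (j : X) : Prop := ∀ c, c * j = j * c → Odd (orderOf c) → c = 1

theorem NF.quot {X : Type*} [Group X] [Finite X] {j : X} (hj : j * j = 1) (h : NF j) (N : Subgroup X)
    [hN : N.Normal] (hNo : Odd (Nat.card N)) : NF (QuotientGroup.mk' N j) := by
  intro c hc ho
  obtain ⟨x, rfl⟩ := QuotientGroup.mk'_surjective N c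
  obtain ⟨y, hy, hyx⟩ := lift_cent N hNo hj hc
  obtain ⟨k, hk⟩ := exists_pow_odd (y * x)
  have h1 : (y * x) ^ 2 ^ k = 1 := h _ ((Commute.pow_left (show Commute (y * x) j from hyx) _).eq) hk
  have h2 : QuotientGroup.mk' N (y * x) = QuotientGroup.mk' N x := by
    have h3 : QuotientGroup.mk' N y = 1 := (QuotientGroup.eq_one_iff y).2 hy
    rw [map_mul, h3, one_mul]
  refine eq_one_of_pow ho (k := k) ?_
  rw [← h2, ← map_pow, h1, map_one]

theorem NF.quot_z {X : Type*} [Group X] [Finite X] {j z : X} (h : NF j) (hz : z * z = 1)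
    (hzc : ∀ g, g * z = z * g) [hN : (zpowers z).Normal] : NF (QuotientGroup.mk' (zpowers z) j) := by
  intro c hc ho
  obtain ⟨x, rfl⟩ := QuotientGroup.mk'_surjective (zpowers z) c
  obtain ⟨k, hk⟩ := exists_pow_odd x
  set d := x ^ 2 ^ k with hd
  set ρ := QuotientGroup.mk' (zpowers z) with hρ
  have h1 : ρ d * ρ j = ρ j * ρ d := by
    rw [hd, map_pow]
    exact (Commute.pow_left (show Commute (ρ x) (ρ j) from hc) _).eq
  have h2 : (j * d)⁻¹ * (d * j) ∈ zpowers z := by
    rw [← QuotientGroup.eq_one_iff]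
    show ρ _ = 1
    rw [map_mul, map_inv, map_mul, map_mul, h1, inv_mul_cancel]
  have h3 : (j * d)⁻¹ * (d * j) = 1 ∨ (j * d)⁻¹ * (d * j) = z := by
    obtain ⟨i, hi⟩ := mem_zpowers_iff.1 h2
    rw [← hi]
    rcases Int.even_or_odd' i with ⟨i, rfl | rfl⟩
    · left
      rw [_root_.zpow_mul, zpow_two, hz, one_zpow]
    · right
      rw [zpow_add, _root_.zpow_mul, zpow_two, hz, one_zpow, one_mul, zpow_one]
  have h4 : (d * d) * j = j * (d * d) := by
    rcases h3 with h3 | h3
    · have h5 : d * j = j * d := by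
        calc d * j = (j * d) * ((j * d)⁻¹ * (d * j)) := by group
          _ = j * d := by rw [h3, mul_one]
      rw [mul_assoc, h5, ← mul_assoc, h5, mul_assoc]
    · have h5 : d * j = j * d * z := by
        calc d * j = (j * d) * ((j * d)⁻¹ * (d * j)) := by group
          _ = j * d * z := by rw [h3]
      have h6 : z * d = d * z := (hzc d).symm
      calc (d * d) * j = d * (d * j) := by group
        _ = d * (j * d * z) := by rw [h5]
        _ = (d * j) * (d * z) := by group
        _ = j * d * z * (d * z) := by rw [h5]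
        _ = j * d * (z * d) * z := by group
        _ = j * d * (d * z) * z := by rw [h6]
        _ = j * (d * d) * (z * z) := by group
        _ = j * (d * d) := by rw [hz, mul_one]
  have h5 : d * d = 1 := by
    apply h _ h4
    rw [← pow_two, orderOf_pow' d (by norm_num)]
    exact hk.of_dvd_nat (Nat.div_dvd_of_dvd (Nat.gcd_dvd_left _ _))
  have h6 : d = 1 := eq_one_of_odd hk h5
  refine eq_one_of_pow ho (k := k) ?_
  rw [← map_pow, ← hd, h6, map_one]

theorem ci_of_gen {P : Type*} [Group P] {a j : P} (hex : ∀ g, ∃ k : ℤ, g = a ^ k ∨ g = j * a ^ k)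
    (hcj : j * a * j⁻¹ = a⁻¹) (hjj : j * j = 1) : CI P := by
  classical
  have h4 : ∀ k : ℤ, j * a ^ k * j⁻¹ = (a ^ k)⁻¹ := by
    intro k
    rw [← conj_zpow, hcj, inv_zpow]
  have hji : j⁻¹ = j := inv_eq_of_mul_eq_one_right hjj
  refine ⟨zpowers a, inferInstance, ?_, ?_⟩
  · by_cases hja : j ∈ zpowers a
    · have : zpowers a = ⊤ := by
        rw [eq_top_iff]
        intro g _
        obtain ⟨k, rfl | rfl⟩ := hex g
        · exact zpow_mem (mem_zpowers a) k
        · exact mul_mem hja (zpow_mem (mem_zpowers a) k)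
      rw [this, Subgroup.index_top]
      exact one_dvd _
    · have : (zpowers a).index = 2 := by
        rw [Subgroup.index_eq_two_iff]
        refine ⟨j, fun b => ?_⟩
        obtain ⟨k, rfl | rfl⟩ := hex b
        · right
          refine ⟨zpow_mem (mem_zpowers a) k, fun h => hja ?_⟩
          have := mul_mem (inv_mem (zpow_mem (mem_zpowers a) k)) h
          rwa [inv_mul_cancel_left] at this
        · left
          constructor
          · have h5 : j * a ^ k * j = (a ^ k)⁻¹ := by
              have := h4 k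
              rwa [hji] at this
            rw [h5]
            exact inv_mem (zpow_mem (mem_zpowers a) k)
          · intro h
            apply hja
            have := mul_mem h (inv_mem (zpow_mem (mem_zpowers a) k))
            rwa [mul_inv_cancel_right] at this
      rw [this]
  · intro y hy
    obtain ⟨k, rfl | rfl⟩ := hex y
    · exact absurd (zpow_mem (mem_zpowers a) k) hy
    · calc j * a ^ k * (j * a ^ k) = (j * a ^ k * j⁻¹) * (j * j) * a ^ k := by group
        _ = 1 := by rw [h4, hjj]; group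

end H74.DG
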