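import Cfsg.Agent.Lib.H74.DG6

set_option autoImplicit false
set_option linter.unusedSectionVars false
set_option linter.unusedVariables false
set_option linter.style.haveILetI false

/-!
# S3322, dihedral part: the semidihedral configuration does not occur
-/

namespace H74.DG

open Cfsg Subgroup H59.G8 H62.PGX

universe u

/-- the contradiction in the final quotient -/
theorem kill_X (gw : H28.GW8.GWThm.{u}) {X : Type u} [Group X] [Finite X] (hD : Dh X)
    (hO : pPrimeCore 2 X = ⊥) (hns : ¬ Group.IsSolvable X) {j : X} (hjj : j * j = 1) (hj1 : j ≠ 1) (hnf : NF j)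
    (M : Subgroup X) (hM : ∀ a b : X, a * b * a⁻¹ * b⁻¹ ∈ M) (hjM : j ∉ M) : False := by
  classical
  obtain ⟨L, hL, hC, ⟨F, i1, i2, h1, h2, ⟨e⟩⟩ | ⟨⟨e⟩⟩⟩ := exists_L gw hD hO hns
  · obtain ⟨ε, m, m', h3, h5, h4⟩ := exists_eps h1
    have hf := fct L e hC (noE8_of_Dh hD) rfl h1 h2 h3 h5 h4
    have hLM : L ≤ M := hf.perf M fun a _ b _ => hM a b
    obtain ⟨T, hT⟩ := hf.tor' j hjj (fun h => hjM (hLM h))
    obtain ⟨-, hm'o, -, hm'3, -⟩ := hf.arith
    have hne : Nontrivial T := by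
      rw [← Finite.one_lt_card_iff_nontrivial, hT.card]
      omega
    obtain ⟨c, hc⟩ := exists_ne (1 : T)
    apply hc
    apply Subtype.ext
    refine hnf c (hT.fix c c.2).symm ?_
    have h6 : orderOf c ∣ m' := by rw [← hT.card]; exact orderOf_dvd_natCard c
    rw [Subgroup.orderOf_coe]
    exact hm'o.of_dvd_nat h6
  · obtain ⟨f, hf1, hf2, hf3⟩ := alt_nf hD hC e hjj hj1
    apply hf3
    apply hnf f hf1
    have h2 : orderOf f ∣ 3 := orderOf_dvd_of_pow_eq_one (by rw [pow_succ, pow_two]; exact hf2)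
    exact (show Odd 3 by decide).of_dvd_nat h2

theorem no_sd (gw : H28.GW8.GWThm.{u}) {G : Type u} [Group G] [Finite G] (hns : ¬ Group.IsSolvable G)
    {A : Subgroup G} {j : G} (hj : DJ A j) {S : Sylow 2 G} {a z : G} (h : SD (S : Subgroup G) j a z) : False := by
  classical
  haveI : Fact (Nat.Prime 2) := ⟨Nat.prime_two⟩
  -- Thompson transfer
  obtain ⟨M, hMn, hM2, hjM⟩ := H3.ThompsonTransfer.exists_index_two (S : Subgroup G) (zpowers a)
    (zpowers_le.2 h.aS) (H3.ThompsonTransfer.odd_index_sylow S) h.rel j (by rw [pow_two]; exact hj.sq) (by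
      intro g hg
      rcases h.inv _ hg (by
        rw [show g * j * g⁻¹ * (g * j * g⁻¹) = g * (j * j) * g⁻¹ by group, hj.sq]; group) with h1 | h1
      · apply hj.ne
        have : j = g⁻¹ * (g * j * g⁻¹) * g := by group
        rw [this, h1]; group
      · exact h.nc g h1)
  have hMsq : ∀ g : G, g * g ∈ M := fun g => by
    rw [Subgroup.mul_mem_iff_of_index_two hM2]
  have hMcj : ∀ g x : G, g * x * g⁻¹ ∈ M ↔ x ∈ M := by
    intro g x
    constructor
    · intro h1
      have := hMn.conj_mem _ h1 g⁻¹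
      rwa [show g⁻¹ * (g * x * g⁻¹) * g⁻¹⁻¹ = x by group] at this
    · intro h1; exact hMn.conj_mem _ h1 g
  have hMcomm : ∀ x y : G, x * y * x⁻¹ * y⁻¹ ∈ M := by
    intro x y
    rw [Subgroup.mul_mem_iff_of_index_two hM2, hMcj]
    exact M.inv_mem_iff.symm
  have hzM : z ∈ M := by
    have h1 : z = a * (j * a * j⁻¹) := by rw [h.cj]; group
    rw [h1, Subgroup.mul_mem_iff_of_index_two hM2, hMcj]
  have hzo : orderOf z = 2 := H5.Dihedral.orderOf_eq_two h.zz h.z1
  have hji : j⁻¹ = j := inv_eq_of_mul_eq_one_right hj.sq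
  have hcjk : ∀ k : ℤ, j * a ^ k * j⁻¹ = (a ^ k)⁻¹ * z ^ k := by
    intro k
    have hc : Commute a⁻¹ z := (show Commute a z from h.zc a h.aS).inv_left
    rw [← conj_zpow, h.cj, hc.mul_zpow, inv_zpow]
  -- the involutions of `S ∩ M`
  have hinv : ∀ u ∈ (S : Subgroup G), u ∈ M → u * u = 1 → u ≠ 1 → u = z := by
    intro u huS huM huu hu1
    obtain ⟨k, hk | hk⟩ := h.ex u huS
    · rcases h.inv u (hk ▸ zpow_mem (mem_zpowers a) k) huu with h1 | h1
      · exact absurd h1 hu1
      · exact h1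
    · exfalso
      have h1 : u * u = z ^ k := by
        have hzk : Commute (z ^ k) (a ^ k) := ((show Commute a z from h.zc a h.aS).symm.zpow_zpow k k)
        calc u * u = (j * a ^ k * j⁻¹) * (j * j) * a ^ k := by rw [hk]; group
          _ = (a ^ k)⁻¹ * (z ^ k * a ^ k) := by rw [hcjk, hj.sq]; group
          _ = (a ^ k)⁻¹ * (a ^ k * z ^ k) := by rw [hzk.eq]
          _ = z ^ k := by group
      rw [huu] at h1
      have h2 : (orderOf z : ℤ) ∣ k := orderOf_dvd_iff_zpow_eq_one.2 h1.symm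
      rw [hzo] at h2
      obtain ⟨i, hi⟩ := h2
      have h3 : a ^ k ∈ M := by
        have : a ^ k = a ^ i * a ^ i := by rw [← zpow_add, hi]; congr 1; push_cast; ring
        rw [this]; exact hMsq _
      apply hjM
      have h4 : j = u * (a ^ k)⁻¹ := by rw [hk]; group
      rw [h4]; exact M.mul_mem huM (M.inv_mem h3)
  -- the `Z*`-theorem
  have hzs := H5.ZStar.sylow_form S z hzo (by
    intro g hg
    refine hinv _ hg (hMn.conj_mem z hzM g) ?_ ?_
    · rw [show g * z * g⁻¹ * (g * z * g⁻¹) = g * (z * z) * g⁻¹ by group, h.zz]; group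
    · intro h1
      apply h.z1
      have : z = g⁻¹ * (g * z * g⁻¹) * g := by group
      rw [this, h1]; group)
  -- first quotient
  have hn : (pPrimeCore 2 G).Normal := H1.Cores.pPrimeCore_normal 2
  have hno : Odd (Nat.card (pPrimeCore 2 G)) := odd_core
  set π := QuotientGroup.mk' (pPrimeCore 2 G) with hπ
  have hker : ∀ y, π y = 1 ↔ y ∈ pPrimeCore 2 G := fun y => QuotientGroup.eq_one_iff y
  have hOo : ∀ y ∈ pPrimeCore 2 G, Odd (orderOf y) := by
    intro y hy
    have := orderOf_dvd_natCard (⟨y, hy⟩ : pPrimeCore 2 G)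
    rw [Subgroup.orderOf_mk] at this
    exact hno.of_dvd_nat this
  have hjX := hj.quot (pPrimeCore 2 G) hno
  have hzz : π z * π z = 1 := by rw [← map_mul, h.zz, map_one]
  have hzc : ∀ g : G ⧸ pPrimeCore 2 G, g * π z = π z * g := by
    intro g
    obtain ⟨x, rfl⟩ := QuotientGroup.mk'_surjective _ g
    change π x * π z = π z * π x
    have h1 := (hker _).2 (hzs x)
    rw [map_mul, map_mul, map_mul, map_inv, map_inv] at h1
    have h2 : π z * π x = π x * π z := by
      calc π z * π x = (π z * π x * (π z)⁻¹ * (π x)⁻¹) * (π x * π z) := by group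
        _ = π x * π z := by rw [h1, one_mul]
    exact h2.symm
  have hz1 : π z ≠ 1 := by
    intro h1
    apply h.z1
    exact eq_one_of_odd (hOo z ((hker z).1 h1)) h.zz
  have hzj : π z ≠ π j := by
    intro h1
    have h2 : z * j ∈ pPrimeCore 2 G := by
      rw [← hker, map_mul, h1, ← map_mul, hj.sq, map_one]
    have h3 : (z * j) * (z * j) = 1 := by
      have h4 : j * z = z * j := h.zc j h.jS
      calc (z * j) * (z * j) = z * (j * z) * j := by group
        _ = z * (z * j) * j := by rw [h4]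
        _ = (z * z) * (j * j) := by group
        _ = 1 := by rw [h.zz, hj.sq, one_mul]
    have h5 := eq_one_of_odd (hOo _ h2) h3
    apply h.zj
    rw [← hji]
    exact eq_inv_of_mul_eq_one_left h5
  have hzA : π z ∉ A.map π := by
    intro h1
    rcases hjX.uniq _ h1 hzz with h2 | h2
    · exact hz1 h2
    · exact hzj h2
  have hnf : NF (π j) := by
    intro c hc hco
    have hcA := hjX.odd_mem hc hco
    have h1 := (hjX.out (π z) (hzc (π j)).symm hzA).2 c hcA
    rw [← hzc c, mul_inv_cancel_right] at h1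
    refine eq_one_of_odd hco ?_
    nth_rewrite 1 [h1]; group
  have hnsX : ¬ Group.IsSolvable (G ⧸ pPrimeCore 2 G) := fun h1 => hns (solvable_of_quot _ hno h1)
  -- second quotient
  haveI hZn : (zpowers (π z)).Normal := by
    constructor
    intro n hn g
    obtain ⟨k, rfl⟩ := mem_zpowers_iff.1 hn
    have h1 : g * π z ^ k * g⁻¹ = π z ^ k := by
      have : Commute g (π z ^ k) := (show Commute g (π z) from hzc g).zpow_right k
      rw [this.eq, mul_inv_cancel_right]
    rw [h1]; exact hn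
  set ρ := QuotientGroup.mk' (zpowers (π z)) with hρ
  have hkerρ : ∀ y, ρ y = 1 ↔ y ∈ zpowers (π z) := fun y => QuotientGroup.eq_one_iff y
  have hmz : ∀ y, y ∈ zpowers (π z) → y = 1 ∨ y = π z := by
    intro y hy
    obtain ⟨i, hi⟩ := mem_zpowers_iff.1 hy
    rw [← hi]
    rcases Int.even_or_odd' i with ⟨i, rfl | rfl⟩
    · left
      rw [_root_.zpow_mul, zpow_two, hzz, one_zpow]
    · right
      rw [zpow_add, _root_.zpow_mul, zpow_two, hzz, one_zpow, one_mul, zpow_one]
  have hnf2 : NF (ρ (π j)) := hnf.quot_z hzz hzc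
  have hns2 : ¬ Group.IsSolvable ((G ⧸ pPrimeCore 2 G) ⧸ zpowers (π z)) := by
    intro h1
    apply hnsX
    refine (Group.isSolvable_iff_subgroup_quotient (zpowers (π z))).mpr ⟨?_, h1⟩
    apply Group.isSolvable_of_comm
    rintro ⟨x, hx⟩ ⟨y, hy⟩
    apply Subtype.ext
    show x * y = y * x
    rcases hmz x hx with rfl | rfl
    · simp
    · exact (hzc y).symm
  have hjj2 : ρ (π j) * ρ (π j) = 1 := by rw [← map_mul, ← map_mul, hj.sq, map_one, map_one]
  have hD2 : Dh ((G ⧸ pPrimeCore 2 G) ⧸ zpowers (π z)) := by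
    have hsurj : Function.Surjective (ρ.comp π) :=
      (QuotientGroup.mk'_surjective _).comp (QuotientGroup.mk'_surjective _)
    apply dh_of_ci (S.mapSurjective hsurj)
    have hSm : ∀ s ∈ (S : Subgroup G), ρ (π s) ∈ (S.mapSurjective hsurj : Subgroup _) := by
      intro s hs
      exact mem_map_of_mem (ρ.comp π) hs
    refine ci_of_gen (a := ⟨ρ (π a), hSm a h.aS⟩) (j := ⟨ρ (π j), hSm j h.jS⟩) ?_ ?_ ?_
    · rintro ⟨g, hg⟩
      have hg' : g ∈ (S : Subgroup G).map (ρ.comp π) := hg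
      obtain ⟨s, hs, rfl⟩ := hg'
      obtain ⟨k, rfl | rfl⟩ := h.ex s hs
      · refine ⟨k, Or.inl (Subtype.ext ?_)⟩
        rw [Subgroup.coe_zpow]
        show ρ (π (a ^ k)) = ρ (π a) ^ k
        rw [map_zpow, map_zpow]
      · refine ⟨k, Or.inr (Subtype.ext ?_)⟩
        rw [Subgroup.coe_mul, Subgroup.coe_zpow]
        show ρ (π (j * a ^ k)) = ρ (π j) * ρ (π a) ^ k
        rw [map_mul, map_mul, map_zpow, map_zpow]
    · apply Subtype.ext
      show ρ (π j) * ρ (π a) * (ρ (π j))⁻¹ = (ρ (π a))⁻¹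
      have h1 := congrArg (fun x => ρ (π x)) h.cj
      have h2 : ρ (π z) = 1 := (hkerρ _).2 (mem_zpowers _)
      simp only [map_mul, map_inv, h2, mul_one] at h1
      exact h1
    · exact Subtype.ext hjj2
  -- third quotient
  set Y := (G ⧸ pPrimeCore 2 G) ⧸ zpowers (π z) with hY
  have hnY : (pPrimeCore 2 Y).Normal := H1.Cores.pPrimeCore_normal 2
  have hnoY : Odd (Nat.card (pPrimeCore 2 Y)) := odd_core
  set τ := QuotientGroup.mk' (pPrimeCore 2 Y) with hτ
  have hkerτ : ∀ y, τ y = 1 ↔ y ∈ pPrimeCore 2 Y := fun y => QuotientGroup.eq_one_iff y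
  have hodd : ∀ y : G, ∀ n : ℕ, Odd n → y ^ n ∈ M → y ∈ M := by
    rintro y n ⟨i, rfl⟩ hy
    have h1 : y ^ (2 * i) ∈ M := by
      rw [mul_comm, pow_mul, pow_two]; exact hMsq _
    have h2 : y = (y ^ (2 * i))⁻¹ * y ^ (2 * i + 1) := by rw [pow_succ]; group
    rw [h2]; exact M.mul_mem (M.inv_mem h1) hy
  have hOM : ∀ y ∈ pPrimeCore 2 G, y ∈ M := by
    intro y hy
    refine hodd y (orderOf y) (hOo y hy) ?_
    rw [pow_orderOf_eq_one]; exact M.one_mem
  have hk1 : ∀ y : G, ρ (π y) = 1 → y ∈ M := by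
    intro y hy
    rcases hmz _ ((hkerρ _).1 hy) with h1 | h1
    · exact hOM y ((hker y).1 h1)
    · have h2 : y * z ∈ pPrimeCore 2 G := by rw [← hker, map_mul, h1, hzz]
      have := M.mul_mem (hOM _ h2) (M.inv_mem hzM)
      rwa [mul_inv_cancel_right] at this
  have hk2 : ∀ y : G, τ (ρ (π y)) = 1 → y ∈ M := by
    intro y hy
    have h1 := (hkerτ _).1 hy
    have h2 : Odd (orderOf (ρ (π y))) := by
      have := orderOf_dvd_natCard (⟨_, h1⟩ : pPrimeCore 2 Y)
      rw [Subgroup.orderOf_mk] at this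
      exact hnoY.of_dvd_nat this
    refine hodd y _ h2 (hk1 _ ?_)
    rw [map_pow, map_pow, pow_orderOf_eq_one]
  have hOY : pPrimeCore 2 (Y ⧸ pPrimeCore 2 Y) = ⊥ := H1.Cores.pPrimeCore_quotient_pPrimeCore 2
  refine kill_X gw (hD2.quot _ hnoY) hOY (fun h1 => hns2 (solvable_of_quot _ hnoY h1))
    (j := τ (ρ (π j))) ?_ ?_ (hnf2.quot hjj2 _ hnoY) (M.map (τ.comp (ρ.comp π))) ?_ ?_
  · rw [← map_mul, hjj2, map_one]
  · intro h1; exact hjM (hk2 j h1)
  · intro x y
    obtain ⟨x, rfl⟩ := QuotientGroup.mk'_surjective _ x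
    obtain ⟨x, rfl⟩ := QuotientGroup.mk'_surjective _ x
    obtain ⟨x, rfl⟩ := QuotientGroup.mk'_surjective _ x
    obtain ⟨y, rfl⟩ := QuotientGroup.mk'_surjective _ y
    obtain ⟨y, rfl⟩ := QuotientGroup.mk'_surjective _ y
    obtain ⟨y, rfl⟩ := QuotientGroup.mk'_surjective _ y
    refine ⟨x * y * x⁻¹ * y⁻¹, hMcomm x y, ?_⟩
    rfl
  · rintro ⟨m, hm, hmj⟩
    have hmj' : τ (ρ (π m)) = τ (ρ (π j)) := hmj
    apply hjM
    have h1 : m⁻¹ * j ∈ M := by
      apply hk2
      rw [map_mul, map_mul, map_mul, ← hmj', ← map_mul, ← map_mul, ← map_mul, inv_mul_cancel, map_one, map_one,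
        map_one]
    have := M.mul_mem hm h1
    rwa [mul_inv_cancel_left] at this

end H74.DG
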