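import Cfsg.Agent.Lib.H74.DG7

set_option autoImplicit false
set_option linter.unusedSectionVars false
set_option linter.unusedVariables false
set_option linter.style.haveILetI false

/-!
# S3322: the case of a unique involution in `A`
-/

namespace H74.DG

open Cfsg Subgroup H59.G8 H62.PGX

universe u

theorem small_DJ (gw : H28.GW8.GWThm.{u}) {G : Type u} [Group G] [Finite G] (hns : ¬ Group.IsSolvable G)
    {A : Subgroup G} {j : G} (hj : DJ A j) (hidx : Idx A j) :
    ∃ (N : Subgroup G) (_ : N.Normal), Odd (Nat.card N) ∧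
      ∃ (F : Type) (_ : Field F) (_ : Fintype F), 3 < Fintype.card F ∧
        (Nonempty (G ⧸ N ≃* Matrix.ProjectiveSpecialLinearGroup (Fin 2) F) ∨
          Nonempty (G ⧸ N ≃* Matrix.ProjGenLinGroup (Fin 2) F)) := by
  rcases sylow_case hj hidx with h | ⟨S, a, z, h⟩
  · exact final_G gw h hns hj
  · exact absurd (no_sd gw hns hj h) id

theorem small (gw : H28.GW8.GWThm.{u}) {G : Type u} [Group G] [Finite G] (H A : Subgroup G) (hAH : A < H)
    (hD : ∀ x ∈ H, x ∉ A → x ^ 2 = 1) (h4 : 4 ∣ Nat.card ↥H)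
    (hC : ∀ j ∈ H, orderOf j = 2 → (∀ h ∈ H, h * j = j * h) → Subgroup.centralizer ({j} : Set G) = H)
    (hns : ¬ Group.IsSolvable G) (hi : A.relIndex H = 2)
    (hinv : ∀ x ∈ H, x ∉ A → ∀ a ∈ A, x * a * x⁻¹ = a⁻¹)
    (huniq : ∀ a ∈ A, ∀ b ∈ A, orderOf a = 2 → orderOf b = 2 → a = b) :
    ∃ (N : Subgroup G) (_ : N.Normal), (Odd (Nat.card ↥N) ∨ ∃ m : ℕ, Odd m ∧ Nat.card ↥N = 2 * m) ∧
      ∃ (F : Type) (_ : Field F) (_ : Fintype F), 3 < Fintype.card F ∧
        (Nonempty (G ⧸ N ≃* Matrix.ProjectiveSpecialLinearGroup (Fin 2) F) ∨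
          Nonempty (G ⧸ N ≃* Matrix.ProjGenLinGroup (Fin 2) F)) := by
  classical
  haveI : Fact (Nat.Prime 2) := ⟨Nat.prime_two⟩
  obtain ⟨x0, hx0, hx0A⟩ := SetLike.exists_of_lt hAH
  have h2A : 2 ∣ Nat.card A := by
    have h1 := Subgroup.card_mul_index (A.subgroupOf H)
    have h2 : (A.subgroupOf H).index = 2 := hi
    have h3 : Nat.card (A.subgroupOf H) = Nat.card A :=
      Nat.card_congr (Subgroup.subgroupOfEquivOfLe hAH.le).toEquiv
    rw [h2, h3] at h1
    omega
  obtain ⟨j', hj'⟩ := exists_prime_orderOf_dvd_card' 2 h2A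
  obtain ⟨j, hjA⟩ := j'
  rw [Subgroup.orderOf_mk] at hj'
  have hjj : j * j = 1 := H5.Dihedral.mul_self hj'
  have hj1 : j ≠ 1 := by
    rintro rfl
    rw [orderOf_one] at hj'
    omega
  have hji : j⁻¹ = j := inv_eq_of_mul_eq_one_right hjj
  have hab : ∀ a ∈ A, ∀ b ∈ A, a * b = b * a := by
    intro a ha b hb
    have h2 := hinv x0 hx0 hx0A (a * b) (A.mul_mem ha hb)
    have h3 : x0 * (a * b) * x0⁻¹ = (x0 * a * x0⁻¹) * (x0 * b * x0⁻¹) := by group
    rw [h3, hinv x0 hx0 hx0A a ha, hinv x0 hx0 hx0A b hb, ← _root_.mul_inv_rev] at h2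
    exact (inv_injective h2).symm
  have hHj : ∀ h ∈ H, h * j = j * h := by
    intro h hh
    by_cases hA : h ∈ A
    · exact hab h hA j hjA
    · have h1 := hinv h hh hA j hjA
      rw [hji] at h1
      calc h * j = (h * j * h⁻¹) * h := by group
        _ = j * h := by rw [h1]
  have hCj := hC j (hAH.le hjA) hj' hHj
  have hmem : ∀ x, x * j = j * x → x ∈ H := by
    intro x hx
    rw [← hCj]
    exact mem_centralizer_singleton_iff.2 hx
  have hDJ : DJ A j :=
    { jA := hjA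
      sq := hjj
      ne := hj1
      com := fun a ha => hHj a (hAH.le ha)
      uniq := by
        intro a ha haa
        by_cases h1 : a = 1
        · exact Or.inl h1
        · right
          exact huniq a ha j hjA (H5.Dihedral.orderOf_eq_two haa h1) hj'
      out := by
        intro x hx hxA
        refine ⟨?_, hinv x (hmem x hx) hxA⟩
        rw [← pow_two]; exact hD x (hmem x hx) hxA
      ex := ⟨x0, hHj x0 hx0, hx0A⟩ }
  have hidx : Idx A j := by
    intro x y hx hy hxA hyA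
    have h1 := (Subgroup.relIndex_eq_two_iff).1 hi
    have h2 : (A.subgroupOf H).index = 2 := hi
    have h3 := (Subgroup.mul_mem_iff_of_index_two h2 (a := ⟨x, hmem x hx⟩) (b := ⟨y, hmem y hy⟩)).2
    have h4 := h3 (iff_of_false (fun h => hxA (mem_subgroupOf.1 h)) (fun h => hyA (mem_subgroupOf.1 h)))
    exact mem_subgroupOf.1 h4
  obtain ⟨N, hN, hNo, h⟩ := small_DJ gw hns hDJ hidx
  exact ⟨N, hN, Or.inl hNo, h⟩

end H74.DG
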