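import Cfsg.Agent.Lib.H74.DG8
import Cfsg.Agent.Lib.H16.DG6

set_option autoImplicit false
set_option linter.unusedSectionVars false
set_option linter.unusedVariables false

/-!
# S3322, modulo `GWThm`
-/

namespace H74.DG

open Cfsg Subgroup

universe u

theorem main (gw : H28.GW8.GWThm.{u}) {G : Type u} [Group G] [Finite G] (H A : Subgroup G) (hAH : A < H)
    (hD : ∀ x ∈ H, x ∉ A → x ^ 2 = 1) (h4 : 4 ∣ Nat.card ↥H)
    (hC : ∀ j ∈ H, orderOf j = 2 → (∀ h ∈ H, h * j = j * h) → Subgroup.centralizer ({j} : Set G) = H)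
    (hns : ¬ Group.IsSolvable G) :
    ∃ (N : Subgroup G) (_ : N.Normal), (Odd (Nat.card ↥N) ∨ ∃ m : ℕ, Odd m ∧ Nat.card ↥N = 2 * m) ∧
      ∃ (F : Type) (_ : Field F) (_ : Fintype F), 3 < Fintype.card F ∧
        (Nonempty (G ⧸ N ≃* Matrix.ProjectiveSpecialLinearGroup (Fin 2) F) ∨
          Nonempty (G ⧸ N ≃* Matrix.ProjGenLinGroup (Fin 2) F)) := by
  rcases H16.DG.red H A hAH hD with hE | ⟨hi, hinv⟩
  · exact H16.DG.big H A hAH hD h4 hC hns (Or.inl hE)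
  by_cases hb : ∃ j1 ∈ A, ∃ j2 ∈ A, orderOf j1 = 2 ∧ orderOf j2 = 2 ∧ j1 ≠ j2
  · exact H16.DG.big H A hAH hD h4 hC hns (Or.inr hb)
  · refine small gw H A hAH hD h4 hC hns hi hinv ?_
    intro a ha b hb' hoa hob
    by_contra hab
    exact hb ⟨a, ha, b, hb', hoa, hob, hab⟩

end H74.DG
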