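import Cfsg.Agent.Lib.H38.Goldschmidt
import Cfsg.Agent.Lib.H25.Fus
import Cfsg.Agent.Lib.H5.PLocal

set_option autoImplicit false
set_option linter.unusedSectionVars false
set_option linter.unusedVariables false
set_option linter.style.haveILetI false

/-!
# S3250: an essential subgroup outside a maximal subgroup of the Sylow `2`-subgroup
-/

namespace H74.Ess

open scoped commutatorElement

open Subgroup H38.Basic H38.Alperin H38.Functor H38.Control H38.FamilyControl

universe u

theorem relIndex_sup_eq {G : Type u} [Group G] (R K : Subgroup G) (h : R ≤ Subgroup.normalizer (K : Set G)) :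
    K.relIndex (R ⊔ K) = K.relIndex R := by
  letI := Subgroup.normal_subgroupOf_of_le_normalizer h
  letI := Subgroup.normal_subgroupOf_sup_of_le_normalizer h
  exact (Nat.card_congr (QuotientGroup.quotientInfEquivProdNormalizerQuotient R K h).toEquiv).symm

/-- the focal subgroup step -/
theorem focal_step {G : Type u} [Group G] [Finite G] (hperf : commutator G = ⊤) (S : Sylow 2 G)
    (T0 : Subgroup G) (hi : ∀ a ∈ (S : Subgroup G), ∀ b ∈ (S : Subgroup G), a ∉ T0 → b ∉ T0 → a * b ∈ T0)
    (hel : ∀ a ∈ (S : Subgroup G), ∀ x : G, x * a * x⁻¹ ∈ (S : Subgroup G) → ((x * a * x⁻¹ ∈ T0) ↔ (a ∈ T0))) :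
    (S : Subgroup G) ≤ T0 := by
  haveI : Fact (Nat.Prime 2) := ⟨Nat.prime_two⟩
  have h1 : (S : Subgroup G) = Subgroup.focalSubgroup (S : Subgroup G) := by
    rw [← Subgroup.commutator_inf_eq_focalSubgroup S, hperf, top_inf_eq]
  rw [h1, Subgroup.focalSubgroup_def, Subgroup.closure_le]
  rintro g ⟨hg, x, hx, y, rfl⟩
  have h2 : ⁅x, y⁆ = x * (y * x⁻¹ * y⁻¹) := by rw [commutatorElement_def]; group
  rw [h2] at hg
  have h3 : y * x⁻¹ * y⁻¹ ∈ (S : Subgroup G) := by
    have := mul_mem (inv_mem hx) hg
    rwa [inv_mul_cancel_left] at this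
  have h4 := hel x⁻¹ (inv_mem hx) y h3
  rw [inv_mem_iff] at h4
  show ⁅x, y⁆ ∈ T0
  rw [h2]
  by_cases hxT : x ∈ T0
  · exact mul_mem hxT (h4.2 hxT)
  · exact hi x hx _ h3 hxT (fun h => hxT (h4.1 h))

theorem ess {G : Type u} [Group G] [Finite G] (hperf : commutator G = ⊤) (S : Sylow 2 G)
    (hN : Subgroup.normalizer ((S : Subgroup G) : Set G) ≤ S) (T0 : Subgroup G) (hT : T0 ≤ S) (hne : T0 ≠ S)
    (hn : ∀ s ∈ (S : Subgroup G), ∀ t ∈ T0, s * t * s⁻¹ ∈ T0)
    (hi : ∀ a ∈ (S : Subgroup G), ∀ b ∈ (S : Subgroup G), a ∉ T0 → b ∉ T0 → a * b ∈ T0) :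
    ∃ E : Subgroup G, E ≤ S ∧ ¬ E ≤ T0 ∧ (∀ c ∈ (S : Subgroup G), (∀ e ∈ E, c * e = e * c) → c ∈ E) ∧
      (∃ g ∈ Subgroup.normalizer (E : Set G), g ∉ S) ∧
      (∀ Q : Subgroup G, IsPGroup 2 Q → E ≤ Q → Q ≤ S →
        Subgroup.normalizer (E : Set G) ≤ Subgroup.normalizer (Q : Set G) → Q = E) ∧
      (∀ Q : Subgroup G, IsPGroup 2 Q → Q ≤ Subgroup.normalizer (E : Set G) →
        (S : Subgroup G) ⊓ Subgroup.normalizer (E : Set G) ≤ Q → Q ≤ S) := by
  classical
  haveI : Fact (Nat.Prime 2) := ⟨Nat.prime_two⟩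
  by_contra hno
  -- membership in `T0` is a fusion invariant
  have hfus : ∀ Q : Subgroup G, Q ≤ (S : Subgroup G) → ∀ x, Q.map (MulAut.conj x).toMonoidHom ≤ (S : Subgroup G) →
      H25.Fus.RF (fun g : G => (g ∈ T0 : Prop)) (Q : Set G) x := by
    apply H38.Goldschmidt.alperin_goldschmidt S (H25.Fus.isFusionRel_RF _)
    · intro A c hA hc a ha
      have h4 := Subgroup.mem_centralizer_iff.1 hc _ ha
      have h5 : c * a * c⁻¹ = a := by rw [← h4]; group
      show (c * a * c⁻¹ ∈ T0) = (a ∈ T0)
      rw [h5]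
    · intro U hU hsyl hcen hrad x hx a ha
      show (x * a * x⁻¹ ∈ T0) = (a ∈ T0)
      have hcen' : ∀ c ∈ (S : Subgroup G), (∀ e ∈ U, c * e = e * c) → c ∈ U := by
        intro c hc hce
        apply hcen
        refine ⟨hc, ?_⟩
        exact Subgroup.mem_centralizer_iff.2 (fun e he => (hce e he).symm)
      by_cases hUT : U ≤ T0
      · exact propext ⟨fun _ => hUT ha, fun _ => hUT ((mem_normalizer_iff.1 hx a).1 ha)⟩
      have hSyl : ∀ Q : Subgroup G, IsPGroup 2 Q → Q ≤ Subgroup.normalizer (U : Set G) →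
          (S : Subgroup G) ⊓ Subgroup.normalizer (U : Set G) ≤ Q → Q ≤ S := by
        intro Q hQ hQN hSQ
        have h1 := Subgroup.relIndex_mul_relIndex _ _ _ hSQ hQN
        have h2 : ((S : Subgroup G) ⊓ normalizer (U : Set G)).relIndex Q = 1 := by
          obtain ⟨k, hk⟩ := IsPGroup.iff_card.1 hQ
          have h3 : ((S : Subgroup G) ⊓ normalizer (U : Set G)).relIndex Q ∣ 2 ^ k := by
            rw [← hk]; exact Subgroup.index_dvd_card _
          obtain ⟨i, -, hi'⟩ := (Nat.dvd_prime_pow Nat.prime_two).1 h3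
          rcases Nat.eq_zero_or_pos i with h0 | h0
          · rw [hi', h0, pow_zero]
          · exfalso
            apply hsyl.2.2
            rw [← h1, hi']
            exact Dvd.dvd.mul_right (dvd_pow_self 2 h0.ne') _
        have h3 : Q ≤ (S : Subgroup G) ⊓ normalizer (U : Set G) := Subgroup.relIndex_eq_one.1 h2
        exact h3.trans inf_le_left
      have hmax : ∀ Q : Subgroup G, IsPGroup 2 Q → U ≤ Q → Q ≤ S →
          Subgroup.normalizer (U : Set G) ≤ Subgroup.normalizer (Q : Set G) → Q = U := by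
        intro Q hQ hUQ hQS hNQ
        by_contra hQU
        have hlt : U < Q := lt_of_le_of_ne hUQ (fun h => hQU h.symm)
        obtain ⟨y, hyQ, hyU, hyN⟩ := H5.PLocal.exists_mem_normalizer_not_mem hQ hlt
        apply hyU
        set C := Subgroup.centralizer (U : Set G) with hC
        have hUN : U ≤ Subgroup.normalizer (C : Set G) :=
          Subgroup.le_normalizer.trans (H38.Goldschmidt.le_normalizer_centralizer U)
        have hUCn : ∀ n ∈ Subgroup.normalizer (U : Set G), (U ⊔ C).map (MulAut.conj n).toMonoidHom = U ⊔ C := by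
          intro n hn
          rw [conj_sup, H38.Basic.mem_normalizer_iff'.1 hn,
            H38.Basic.mem_normalizer_iff'.1 (H38.Goldschmidt.le_normalizer_centralizer U hn)]
        set R := Q ⊓ normalizer (U : Set G) with hR
        have hRn : ∀ n ∈ normalizer (U : Set G), R.map (MulAut.conj n).toMonoidHom = R := by
          intro n hn
          have h1 : n ∈ normalizer (R : Set G) := by
            rw [mem_normalizer_iff]
            intro r
            have h2 := mem_normalizer_iff.1 (hNQ hn) r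
            have h3 : r ∈ normalizer (U : Set G) ↔ n * r * n⁻¹ ∈ normalizer (U : Set G) := by
              constructor
              · intro h; exact mul_mem (mul_mem hn h) (inv_mem hn)
              · intro h
                have := mul_mem (mul_mem (inv_mem hn) h) hn
                rwa [show n⁻¹ * (n * r * n⁻¹) * n = r by group] at this
            rw [hR, mem_inf, mem_inf, h2, h3]
          exact H38.Basic.mem_normalizer_iff'.1 h1
        have hX := hrad (R ⊔ (U ⊔ C)) (sup_le inf_le_right (sup_le Subgroup.le_normalizer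
          (Subgroup.centralizer_le_normalizer (U : Set G)))) (by
            intro n hn
            rw [conj_sup, hRn n hn, hUCn n hn]) le_sup_right (by
            -- the index is a power of two
            have h1 : (U ⊔ C).relIndex (R ⊔ (U ⊔ C)) ∣ Nat.card R := by
              have hRUC : R ≤ normalizer ((U ⊔ C : Subgroup G) : Set G) := by
                intro r hr
                exact H38.Basic.mem_normalizer_iff'.2 (hUCn r hr.2)
              rw [relIndex_sup_eq R (U ⊔ C) hRUC]
              exact Subgroup.index_dvd_card _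
            obtain ⟨k, hk⟩ := IsPGroup.iff_card.1 (hQ.to_le (inf_le_left : R ≤ Q))
            rw [hk] at h1
            obtain ⟨i, -, hi'⟩ := (Nat.dvd_prime_pow Nat.prime_two).1 h1
            exact ⟨i, hi'⟩)
        have hyX : y ∈ U ⊔ C := by
          rw [← hX]
          exact mem_sup_left ⟨hyQ, hyN⟩
        rw [H38.Goldschmidt.mem_sup_iff_of_le_normalizer hUN] at hyX
        obtain ⟨c, hc, u, hu, rfl⟩ := hyX
        have hcS : c ∈ (S : Subgroup G) := by
          have := mul_mem (hQS hyQ) (inv_mem (hU hu))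
          rwa [mul_inv_cancel_right] at this
        exact mul_mem (hcen ⟨hcS, hc⟩) hu
      have hNS : ∀ g ∈ normalizer (U : Set G), g ∈ (S : Subgroup G) := by
        by_contra! hg
        exact hno ⟨U, hU, hUT, hcen', hg, hmax, hSyl⟩
      have hxS := hNS x hx
      refine propext ⟨fun h => ?_, fun h => hn x hxS a h⟩
      have h1 := hn x⁻¹ (inv_mem hxS) _ h
      rwa [show x⁻¹ * (x * a * x⁻¹) * x⁻¹⁻¹ = a by group] at h1
  have hel : ∀ a ∈ (S : Subgroup G), ∀ x : G, x * a * x⁻¹ ∈ (S : Subgroup G) → ((x * a * x⁻¹ ∈ T0) ↔ (a ∈ T0)) := by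
    intro a ha x hx
    have h1 := hfus (zpowers a) (by rwa [zpowers_le]) x (by
      rw [MonoidHom.map_zpowers, Subgroup.zpowers_le]; exact hx)
    exact iff_of_eq (h1 a (mem_zpowers a))
  -- the focal subgroup
  exact hne (le_antisymm hT (focal_step hperf S T0 hi hel))

end H74.Ess
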