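import Cfsg.Agent.Lib.H74.FrobC
import Cfsg.Agent.Lib.H1.Cyc
import Cfsg.Agent.Lib.H1.FrobSyl
import Cfsg.Agent.Lib.H1.UniqueSub
set_option autoImplicit false
open Matrix Cfsg

namespace H74.FC
open H74.FrobC

variable {G : Type*} [Group G] [Finite G]

theorem exists_module (h : IsFC G) : ∃ (V : Type) (_ : CommGroup V) (_ : Finite V) (_ : Nontrivial V)
    (_ : MulDistribMulAction G V), ∀ a : G, a ≠ 1 → ∀ v : V, a • v = v → v = 1 := by
  obtain ⟨K, _, _, _, φ, hφ⟩ := fpf_of_FC h
  obtain ⟨r, hr, n, ρ, hrG, hn, hρ⟩ := H74.FpfMod.exists_modular φ hφ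
  have : NeZero n := ⟨hn.ne'⟩
  refine ⟨Multiplicative (Fin n → ZMod r), inferInstance, inferInstance, inferInstance,
    { smul := fun g v => Multiplicative.ofAdd (ρ g *ᵥ v.toAdd)
      one_smul := fun v => by
        change Multiplicative.ofAdd (ρ 1 *ᵥ v.toAdd) = v
        rw [map_one, Matrix.one_mulVec]; rfl
      mul_smul := fun a b v => by
        change Multiplicative.ofAdd (ρ (a * b) *ᵥ v.toAdd) = Multiplicative.ofAdd (ρ a *ᵥ (ρ b *ᵥ v.toAdd))
        rw [map_mul, Matrix.mulVec_mulVec]
      smul_one := fun a => congrArg Multiplicative.ofAdd (Matrix.mulVec_zero (ρ a))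
      smul_mul := fun a v w => congrArg Multiplicative.ofAdd (Matrix.mulVec_add (ρ a) v.toAdd w.toAdd) }, ?_⟩
  intro a ha v hv
  exact congrArg Multiplicative.ofAdd (hρ a ha v.toAdd hv)

theorem isFC_subgroup (h : IsFC G) (A : Subgroup G) (hA : A ≠ ⊥) : IsFC A := by
  have : Nontrivial A := (Subgroup.nontrivial_iff_ne_bot A).mpr hA
  exact h.of_injective A.subtype A.subtype_injective

theorem isCyclic_of_comm (h : IsFC G) (A : Subgroup G) (hA : ∀ x ∈ A, ∀ y ∈ A, x * y = y * x) : IsCyclic A := by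
  by_cases hbot : A = ⊥
  · subst hbot; infer_instance
  obtain ⟨V, _, _, _, _, hfpf⟩ := exists_module (isFC_subgroup h A hbot)
  exact H1.Cyc.isCyclic_of_comm hfpf (fun a b => Subtype.ext (hA a a.2 b b.2))

theorem zpowers_eq_of_comm (h : IsFC G) {x y : G} (hxy : x * y = y * x) (ho : orderOf x = orderOf y) :
    Subgroup.zpowers x = Subgroup.zpowers y := by
  let A := Subgroup.closure ({x, y} : Set G)
  have hA : ∀ a ∈ A, ∀ b ∈ A, a * b = b * a := by
    have hc : ∀ a ∈ ({x, y} : Set G), ∀ b ∈ ({x, y} : Set G), a * b = b * a := by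
      rintro a (rfl | rfl) b (rfl | rfl)
      · rfl
      · exact hxy
      · exact hxy.symm
      · rfl
    have := Subgroup.isMulCommutative_closure hc
    intro a ha b hb
    exact congrArg Subtype.val (this.is_comm.comm ⟨a, ha⟩ ⟨b, hb⟩)
  have hcyc := isCyclic_of_comm h A hA
  apply H1.FrobSyl.eq_of_card_eq_of_le hcyc
  · rw [Subgroup.zpowers_le]; exact Subgroup.subset_closure (by simp)
  · rw [Subgroup.zpowers_le]; exact Subgroup.subset_closure (by simp)
  · rw [Nat.card_zpowers, Nat.card_zpowers, ho]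

theorem mem_zpowers_of_comm (h : IsFC G) {x y : G} (hxy : x * y = y * x) (ho : orderOf x = orderOf y) :
    x ∈ Subgroup.zpowers y := by
  rw [← zpowers_eq_of_comm h hxy ho]; exact Subgroup.mem_zpowers x

theorem pgroup (h : IsFC G) (p : ℕ) [hp : Fact p.Prime] (P : Subgroup G) (hP : IsPGroup p P) :
    IsCyclic P ∨ (p = 2 ∧ ∃ n : ℕ, Nonempty (P ≃* QuaternionGroup (2 ^ n))) := by
  apply H1.UniqueSub.cyclic_or_quaternion p hP
  intro H K hH hK
  have hbot : P ≠ ⊥ := by
    rintro rfl
    have h1 := Subgroup.card_subgroup_dvd_card H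
    rw [hH, Subgroup.card_bot] at h1
    exact hp.out.one_lt.ne' (Nat.dvd_one.mp h1)
  have hFC := isFC_subgroup h P hbot
  have hnt : Nontrivial P := (Subgroup.nontrivial_iff_ne_bot P).mpr hbot
  have hcent := hP.center_nontrivial
  obtain ⟨z, hz⟩ : ∃ z : Subgroup.center P, orderOf z = p := by
    apply exists_prime_orderOf_dvd_card' p
    have hp' : IsPGroup p (Subgroup.center P) := hP.to_subgroup _
    obtain ⟨k, hk⟩ := IsPGroup.iff_card.mp hp'
    have : k ≠ 0 := by
      rintro rfl
      rw [pow_zero] at hk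
      exact not_subsingleton (Subgroup.center P) (Nat.card_eq_one_iff_unique.mp hk).1
    rw [hk]
    exact dvd_pow_self p this
  have key : ∀ X : Subgroup P, Nat.card X = p → X = Subgroup.zpowers (z : P) := by
    intro X hX
    obtain ⟨x, hx⟩ := exists_prime_orderOf_dvd_card' (G := X) p (by rw [hX])
    have hx' : orderOf (x : P) = p := by rw [Subgroup.orderOf_coe]; exact hx
    have hz' : orderOf (z : P) = p := by rw [Subgroup.orderOf_coe]; exact hz
    have h1 : X = Subgroup.zpowers (x : P) := by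
      symm
      apply Subgroup.eq_of_le_of_card_ge
      · rw [Subgroup.zpowers_le]; exact x.2
      · rw [hX, Nat.card_zpowers, hx']
    rw [h1]
    apply zpowers_eq_of_comm hFC _ (by rw [hx', hz'])
    exact Subgroup.mem_center_iff.mp z.2 x
  rw [key H hH, key K hK]

theorem involution_unique (h : IsFC G) {x y : G} (hx : orderOf x = 2) (hy : orderOf y = 2) : x = y := by
  obtain ⟨m, ρ, hm, hρ⟩ := exists_int_of_FC h
  apply H74.FpfRep.ex_injective ρ hρ hm ℚ
  rw [H74.FpfRep.order_two ρ hρ hx, H74.FpfRep.order_two ρ hρ hy]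

theorem involution_central (h : IsFC G) {x : G} (hx : orderOf x = 2) (g : G) : g * x = x * g := by
  have : g * x * g⁻¹ = x := by
    apply involution_unique h _ hx
    have := (MulAut.conj g).orderOf_eq x
    rw [MulAut.conj_apply] at this
    rw [this, hx]
  rw [mul_inv_eq_iff_eq_mul] at this
  exact this

end H74.FC
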