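import Mathlib
import Cfsg.Prelude.Def_Solvable

set_option autoImplicit false

/-! The Fitting subgroup of a finite group is nilpotent; subgroup index powers in nilpotent groups. -/

namespace H74.Fitting

open Subgroup

variable {G : Type*} [Group G]

theorem pCore_isPGroup (p : ℕ) : IsPGroup p (Cfsg.pCore p G) := by
  unfold Cfsg.pCore
  exact Sylow.sSup_of_normal _ (fun H hH => hH.2) (fun H hH => hH.1)

theorem le_pCore {p : ℕ} {N : Subgroup G} (hN : N.Normal) (hp : IsPGroup p N) :
    N ≤ Cfsg.pCore p G := le_sSup ⟨hN, hp⟩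

instance pCore_normal (p : ℕ) : (Cfsg.pCore p G).Normal := by
  unfold Cfsg.pCore
  exact Subgroup.sSup_normal _ (fun H hH => hH.1)

instance fitting_normal : (Cfsg.fittingSubgroup G).Normal := by
  unfold Cfsg.fittingSubgroup
  exact Subgroup.sSup_normal _ (fun H hH => hH.1)

theorem le_fitting {N : Subgroup G} (hN : N.Normal) (hn : Group.IsNilpotent N) :
    N ≤ Cfsg.fittingSubgroup G := le_sSup ⟨hN, hn⟩

theorem pCore_le_fitting [Finite G] (p : ℕ) [Fact p.Prime] :
    Cfsg.pCore p G ≤ Cfsg.fittingSubgroup G :=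
  le_fitting inferInstance (IsPGroup.isNilpotent (pCore_isPGroup p))

/-- The join of the `p`-cores. -/
theorem nilpotent_iSup_pCore [Finite G] :
    Group.IsNilpotent (⨆ p : (Nat.card G).primeFactors, Cfsg.pCore (p : ℕ) G : Subgroup G) := by
  classical
  let ps := (Nat.card G).primeFactors
  have hprime : ∀ p : ps, Fact (p : ℕ).Prime := fun p => ⟨Nat.prime_of_mem_primeFactors p.2⟩
  have hcomm : Pairwise fun i j : ps => ∀ x y : G, x ∈ Cfsg.pCore (i : ℕ) G →
      y ∈ Cfsg.pCore (j : ℕ) G → Commute x y := by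
    intro i j hij x y hx hy
    have := hprime i
    have := hprime j
    refine Subgroup.commute_of_normal_of_disjoint _ _ inferInstance inferInstance ?_ x y hx hy
    exact IsPGroup.disjoint_of_ne (i : ℕ) (j : ℕ) (fun h => hij (Subtype.ext h)) _ _
      (pCore_isPGroup _) (pCore_isPGroup _)
  have hnil : ∀ i : ps, Group.IsNilpotent (Cfsg.pCore (i : ℕ) G) := fun i => by
    have := hprime i
    exact IsPGroup.isNilpotent (pCore_isPGroup (i : ℕ))
  have h1 : Group.IsNilpotent (∀ i : ps, Cfsg.pCore (i : ℕ) G) := inferInstance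
  have hr := Subgroup.noncommPiCoprod_range (hcomm := hcomm)
  rw [← hr]
  exact Group.nilpotent_of_surjective (MonoidHom.rangeRestrict (Subgroup.noncommPiCoprod hcomm))
    (MonoidHom.rangeRestrict_surjective _)


/-- a normal nilpotent subgroup lies in the join of the p-cores -/
theorem le_iSup_pCore [Finite G] {N : Subgroup G} (hN : N.Normal) (hn : Group.IsNilpotent N) :
    N ≤ (⨆ p : (Nat.card G).primeFactors, Cfsg.pCore (p : ℕ) G : Subgroup G) := by
  set E : Subgroup G := ⨆ p : (Nat.card G).primeFactors, Cfsg.pCore (p : ℕ) G with hE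
  rw [← Subgroup.relIndex_eq_one]
  by_contra hne
  obtain ⟨p, hp, hpd⟩ := Nat.exists_prime_and_dvd hne
  have : Fact p.Prime := ⟨hp⟩
  have P : Sylow p N := Classical.arbitrary _
  have hPn : (P : Subgroup N).Normal := inferInstance
  have hchar : (P : Subgroup N).Characteristic := P.characteristic_of_normal hPn
  have hPG : ((P : Subgroup N).map N.subtype).Normal := inferInstance
  have hPp : IsPGroup p ((P : Subgroup N).map N.subtype) := P.isPGroup'.map _
  have hle : (P : Subgroup N).map N.subtype ≤ Cfsg.pCore p G := le_pCore hPG hPp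
  have hpG : p ∈ (Nat.card G).primeFactors := by
    rw [Nat.mem_primeFactors]
    refine ⟨hp, ?_, Nat.card_pos.ne'⟩
    exact (hpd.trans (Subgroup.relIndex_dvd_card _ _)).trans (Subgroup.card_subgroup_dvd_card N)
  have hle2 : (P : Subgroup N).map N.subtype ≤ E :=
    hle.trans (le_iSup (fun q : (Nat.card G).primeFactors => Cfsg.pCore (q : ℕ) G) ⟨p, hpG⟩)
  have hle3 : (P : Subgroup N) ≤ E.subgroupOf N := by
    intro x hx
    rw [Subgroup.mem_subgroupOf]
    exact hle2 (Subgroup.mem_map_of_mem _ hx)
  have h4 : (E.subgroupOf N).index ∣ (P : Subgroup N).index := Subgroup.index_dvd_of_le hle3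
  exact P.not_dvd_index (hpd.trans h4)

theorem fitting_eq_iSup [Finite G] :
    Cfsg.fittingSubgroup G = (⨆ p : (Nat.card G).primeFactors, Cfsg.pCore (p : ℕ) G : Subgroup G) := by
  apply le_antisymm
  · exact sSup_le fun N hN => le_iSup_pCore hN.1 hN.2
  · refine iSup_le fun p => ?_
    have : Fact (p : ℕ).Prime := ⟨Nat.prime_of_mem_primeFactors p.2⟩
    exact pCore_le_fitting _

instance fitting_nilpotent [Finite G] : Group.IsNilpotent (Cfsg.fittingSubgroup G) := by
  rw [fitting_eq_iSup]
  exact nilpotent_iSup_pCore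

/-- In a finite nilpotent group, `x ^ |G : H| ∈ H` for every subgroup `H`. -/
theorem pow_index_mem_of_nilpotent [Finite G] [Group.IsNilpotent G] (H : Subgroup G) (x : G) :
    x ^ H.index ∈ H := by
  induction hn : H.index using Nat.strong_induction_on generalizing H with
  | _ n ih =>
    subst hn
    rcases eq_or_ne H ⊤ with rfl | hH
    · exact Subgroup.mem_top _
    · have hlt : H < Subgroup.normalizer (H : Set G) :=
        Group.normalizerCondition_of_isNilpotent H hH.lt_top
      have hi : H.relIndex (Subgroup.normalizer (H : Set G)) * (Subgroup.normalizer (H : Set G)).index = H.index :=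
        Subgroup.relIndex_mul_index hlt.le
      have h1 : (Subgroup.normalizer (H : Set G)).index < H.index := Subgroup.index_strictAnti hlt
      have h2 := ih _ h1 (Subgroup.normalizer (H : Set G)) rfl
      rw [← hi, mul_comm, pow_mul]
      set y : Subgroup.normalizer (H : Set G) := ⟨_, h2⟩ with hy
      have h3 : y ^ (H.subgroupOf (Subgroup.normalizer (H : Set G))).index ∈ H.subgroupOf (Subgroup.normalizer (H : Set G)) :=
        Subgroup.pow_index_mem _ _
      rw [Subgroup.mem_subgroupOf] at h3
      exact h3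

/-- `|F : H ∩ F|` divides `|G : H|` when `F` is normal. -/
theorem relIndex_dvd_index_of_normal_right [Finite G] (H F : Subgroup G) [F.Normal] :
    H.relIndex F ∣ H.index := by
  have h1 : F.relIndex (H ⊔ F) = F.relIndex H := Subgroup.relIndex_sup_right _ _
  have h2 : (H ⊓ F).relIndex H * H.relIndex (H ⊔ F) = (H ⊓ F).relIndex (H ⊔ F) :=
    Subgroup.relIndex_mul_relIndex _ _ _ inf_le_left le_sup_left
  have h3 : (H ⊓ F).relIndex F * F.relIndex (H ⊔ F) = (H ⊓ F).relIndex (H ⊔ F) :=
    Subgroup.relIndex_mul_relIndex _ _ _ inf_le_right le_sup_right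
  rw [Subgroup.inf_relIndex_left] at h2
  rw [Subgroup.inf_relIndex_right, h1, ← h2, mul_comm] at h3
  have h4 : F.relIndex H ≠ 0 := Subgroup.index_ne_zero_of_finite
  have h5 := Nat.eq_of_mul_eq_mul_left (Nat.pos_of_ne_zero h4) h3
  rw [h5]
  exact Subgroup.relIndex_dvd_index_of_le le_sup_left

end H74.Fitting
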