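import Cfsg.Agent.Lib.H74.FpfRep
set_option autoImplicit false
open Matrix

namespace H74.FpfLift

/-- lifting homomorphisms through surjections whose kernel is an `r`-group -/
theorem lift_hom {G Γ Δ : Type*} [Group G] [Group Γ] [Group Δ] [Finite G] [Finite Γ] (r : ℕ) [Fact r.Prime]
    (hr : ¬ r ∣ Nat.card G) (π : Γ →* Δ) (hπ : Function.Surjective π) (hker : IsPGroup r π.ker)
    (f : G →* Δ) : ∃ f' : G →* Γ, π.comp f' = f := by
  let E : Subgroup (G × Γ) := MonoidHom.eqLocus (f.comp (MonoidHom.fst G Γ)) (π.comp (MonoidHom.snd G Γ))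
  have hE : ∀ x : G × Γ, x ∈ E ↔ f x.1 = π x.2 := fun x => Iff.rfl
  let p : E →* G := (MonoidHom.fst G Γ).comp E.subtype
  have hp : Function.Surjective p := by
    intro g
    obtain ⟨u, hu⟩ := hπ (f g)
    exact ⟨⟨(g, u), hu.symm⟩, rfl⟩
  have hK : IsPGroup r p.ker := by
    intro x
    have h1 : (x : E).1.1 = 1 := x.2
    have h2 : (x : E).1.2 ∈ π.ker := by
      have := (hE _).mp (x : E).2
      rw [h1, map_one] at this
      exact this.symm
    obtain ⟨k, hk⟩ := hker ⟨_, h2⟩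
    refine ⟨k, ?_⟩
    apply Subtype.ext
    apply Subtype.ext
    apply Prod.ext
    · change (x : E).1.1 ^ _ = 1
      rw [h1, one_pow]
    · exact congrArg Subtype.val hk
  have hcop : (Nat.card p.ker).Coprime p.ker.index := by
    obtain ⟨k, hk⟩ := IsPGroup.iff_card.mp hK
    rw [hk]
    apply Nat.Coprime.pow_left
    rw [Nat.Prime.coprime_iff_not_dvd Fact.out, Subgroup.index_ker]
    rwa [MonoidHom.range_eq_top.mpr hp, Subgroup.card_top]
  obtain ⟨H, hH⟩ := Subgroup.exists_right_complement'_of_coprime hcop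
  have hinj : Function.Injective (p.comp H.subtype) := by
    rw [injective_iff_map_eq_one]
    intro x hx
    have h1 : (x : E) ∈ p.ker ⊓ H := ⟨hx, x.2⟩
    rw [hH.disjoint.eq_bot] at h1
    exact Subtype.ext h1
  have hsurj : Function.Surjective (p.comp H.subtype) := by
    intro g
    obtain ⟨e, he⟩ := hp g
    have h1 : e ∈ p.ker ⊔ H := by rw [hH.sup_eq_top]; trivial
    rw [Subgroup.mem_sup_of_normal_left] at h1
    obtain ⟨y, hy, z, hz, hyz⟩ := h1
    refine ⟨⟨z, hz⟩, ?_⟩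
    rw [← he, ← hyz, map_mul, MonoidHom.mem_ker.mp hy, one_mul]
    rfl
  let e := MulEquiv.ofBijective _ ⟨hinj, hsurj⟩
  refine ⟨((MonoidHom.snd G Γ).comp (E.subtype.comp H.subtype)).comp e.symm.toMonoidHom, ?_⟩
  ext g
  obtain ⟨x, rfl⟩ := e.surjective g
  simp only [MonoidHom.comp_apply, MulEquiv.coe_toMonoidHom, MulEquiv.symm_apply_apply]
  exact ((hE _).mp (x : E).2).symm

/-- one lifting step for rings: kernel of square zero and exponent `r` -/
theorem lift_step {G R T : Type*} [Group G] [Finite G] [Ring R] [Ring T] [Finite R] (r : ℕ) [Fact r.Prime]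
    (hr : ¬ r ∣ Nat.card G) (f : R →+* T) (hf : Function.Surjective f)
    (h2 : ∀ x y : R, f x = 0 → f y = 0 → x * y = 0) (hrI : ∀ x : R, f x = 0 → (r : R) * x = 0)
    (hunit : ∀ d : ℕ, d ≠ 0 → ¬ r ∣ d → ∃ d' : R, d' * (d : R) = 1)
    (ρ : G →* T) (hρ : ∀ g : G, g ≠ 1 → ∑ i ∈ Finset.range (orderOf g), ρ g ^ i = 0) :
    ∃ ρ' : G →* R, ∀ g : G, g ≠ 1 → ∑ i ∈ Finset.range (orderOf g), ρ' g ^ i = 0 := by
  let π : Rˣ →* Tˣ := Units.map (f : R →* T)
  have hπ : Function.Surjective π := by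
    intro u
    obtain ⟨a, ha⟩ := hf (u : T)
    obtain ⟨b, hb⟩ := hf ((u⁻¹ : Tˣ) : T)
    have hab : f (a * b - 1) = 0 := by rw [map_sub, map_mul, ha, hb, map_one, Units.mul_inv, sub_self]
    have hba : f (b * a - 1) = 0 := by rw [map_sub, map_mul, ha, hb, map_one, Units.inv_mul, sub_self]
    have s1 := h2 _ _ hab hab
    have s2 := h2 _ _ hba hba
    have e1 : a * (b * (1 - (a * b - 1))) = 1 := by
      linear_combination (norm := noncomm_ring) -s1
    have e2 : ((1 - (b * a - 1)) * b) * a = 1 := by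
      linear_combination (norm := noncomm_ring) -s2
    have e3 : b * (1 - (a * b - 1)) = (1 - (b * a - 1)) * b := by noncomm_ring
    refine ⟨⟨a, b * (1 - (a * b - 1)), e1, by rw [e3]; exact e2⟩, ?_⟩
    apply Units.ext
    exact ha
  have hker : IsPGroup r π.ker := by
    intro x
    refine ⟨1, ?_⟩
    apply Subtype.ext
    apply Units.ext
    have hx : f ((x : Rˣ) : R) = 1 := congrArg Units.val (MonoidHom.mem_ker.mp x.2)
    obtain ⟨z, hz⟩ : ∃ z : R, z = ((x : Rˣ) : R) - 1 := ⟨_, rfl⟩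
    have hfz : f z = 0 := by rw [hz, map_sub, hx, map_one, sub_self]
    have hx' : ((x : Rˣ) : R) = 1 + z := by rw [hz]; abel
    have hzz := h2 z z hfz hfz
    have hpow : ∀ n : ℕ, (1 + z) ^ n = 1 + n * z := by
      intro n
      induction n with
      | zero => simp
      | succ n ih =>
        rw [pow_succ, ih]
        push_cast
        have : (n : R) * z * z = 0 := by rw [mul_assoc, hzz, mul_zero]
        linear_combination (norm := noncomm_ring) this
    simp only [pow_one, SubmonoidClass.coe_pow, Units.val_pow_eq_pow_val, OneMemClass.coe_one, Units.val_one]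
    rw [hx', hpow, hrI z hfz, add_zero]
  obtain ⟨f', hf'⟩ := lift_hom r hr π hπ hker ρ.toHomUnits
  refine ⟨(Units.coeHom R).comp f', ?_⟩
  intro g hg
  have hfg : ∀ g, f ((f' g : Rˣ) : R) = ρ g := by
    intro g
    have := congrArg (fun h : G →* Tˣ => ((h g : Tˣ) : T)) hf'
    exact this
  simp only [MonoidHom.comp_apply, Units.coeHom_apply]
  set a : R := ((f' g : Rˣ) : R) with ha
  have hN : f (∑ i ∈ Finset.range (orderOf g), a ^ i) = 0 := by
    rw [map_sum]
    simp only [map_pow]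
    rw [ha, hfg g]
    exact hρ g hg
  have hsq := h2 _ _ hN hN
  have han : a ^ orderOf g = 1 := by
    rw [ha, ← Units.val_pow_eq_pow_val, ← map_pow, pow_orderOf_eq_one, map_one, Units.val_one]
  have haN : a * ∑ i ∈ Finset.range (orderOf g), a ^ i = ∑ i ∈ Finset.range (orderOf g), a ^ i := by
    have h1 := mul_neg_geom_sum a (orderOf g)
    rw [han, sub_self] at h1
    linear_combination (norm := noncomm_ring) -h1
  have haiN : ∀ i : ℕ, a ^ i * ∑ i ∈ Finset.range (orderOf g), a ^ i = ∑ i ∈ Finset.range (orderOf g), a ^ i := by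
    intro i
    induction i with
    | zero => simp
    | succ k ih => rw [pow_succ, mul_assoc, haN, ih]
  have h3 : (∑ i ∈ Finset.range (orderOf g), a ^ i) * (∑ i ∈ Finset.range (orderOf g), a ^ i) =
      (orderOf g : R) * ∑ i ∈ Finset.range (orderOf g), a ^ i := by
    rw [Finset.sum_mul, Finset.sum_congr rfl (fun i _ => haiN i), Finset.sum_const, Finset.card_range, nsmul_eq_mul]
  rw [hsq] at h3
  have hd : ¬ r ∣ orderOf g := fun h => hr (h.trans (orderOf_dvd_natCard g))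
  obtain ⟨d', hd'⟩ := hunit (orderOf g) (orderOf_pos g).ne' hd
  rw [← one_mul (∑ i ∈ Finset.range (orderOf g), a ^ i), ← hd', mul_assoc, ← h3, mul_zero]


/-- property: representation with vanishing norms -/
def NormZero {G R : Type*} [Group G] [Ring R] (ρ : G →* R) : Prop :=
  ∀ g : G, g ≠ 1 → ∑ i ∈ Finset.range (orderOf g), ρ g ^ i = 0

theorem lift_all {G : Type*} [Group G] [Finite G] (r : ℕ) [hr0 : Fact r.Prime] (hr : ¬ r ∣ Nat.card G) {n : ℕ}
    (ρ : G →* Matrix (Fin n) (Fin n) (ZMod (r ^ 1))) (hρ : NormZero ρ) (k : ℕ) (hk : 1 ≤ k) :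
    ∃ ρ' : G →* Matrix (Fin n) (Fin n) (ZMod (r ^ k)), NormZero ρ' := by
  induction k, hk using Nat.le_induction with
  | base => exact ⟨ρ, hρ⟩
  | succ k hk ih =>
    obtain ⟨ρk, hρk⟩ := ih
    have hrp : 0 < r := hr0.out.pos
    have : NeZero (r ^ (k + 1)) := ⟨(pow_pos hrp _).ne'⟩
    have : NeZero (r ^ k) := ⟨(pow_pos hrp _).ne'⟩
    have hdvd : r ^ k ∣ r ^ (k + 1) := pow_dvd_pow r (Nat.le_succ k)
    let c : ZMod (r ^ (k + 1)) →+* ZMod (r ^ k) := ZMod.castHom hdvd (ZMod (r ^ k))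
    have hc : Function.Surjective c := ZMod.castHom_surjective hdvd
    have hc0 : ∀ x : ZMod (r ^ (k + 1)), c x = 0 → ∃ y : ZMod (r ^ (k + 1)), x = (r ^ k : ℕ) * y := by
      intro x hx
      have h1 : ((x.val : ℕ) : ZMod (r ^ k)) = 0 := by
        have : c ((x.val : ℕ) : ZMod (r ^ (k + 1))) = 0 := by rw [ZMod.natCast_zmod_val]; exact hx
        rwa [map_natCast] at this
      rw [ZMod.natCast_eq_zero_iff] at h1
      obtain ⟨y, hy⟩ := h1
      refine ⟨(y : ℕ), ?_⟩
      rw [← ZMod.natCast_zmod_val x, hy]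
      push_cast; ring
    have hz1 : ((r ^ k : ℕ) : ZMod (r ^ (k + 1))) * ((r ^ k : ℕ) : ZMod (r ^ (k + 1))) = 0 := by
      rw [← Nat.cast_mul, ← pow_add, ZMod.natCast_eq_zero_iff]
      exact pow_dvd_pow r (by omega)
    have hz2 : ((r : ℕ) : ZMod (r ^ (k + 1))) * ((r ^ k : ℕ) : ZMod (r ^ (k + 1))) = 0 := by
      rw [← Nat.cast_mul, ← pow_succ', ZMod.natCast_eq_zero_iff]
    have hmul : ∀ x y : ZMod (r ^ (k + 1)), c x = 0 → c y = 0 → x * y = 0 := by
      intro x y hx hy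
      obtain ⟨a, rfl⟩ := hc0 x hx
      obtain ⟨b, rfl⟩ := hc0 y hy
      calc _ = ((r ^ k : ℕ) : ZMod (r ^ (k + 1))) * ((r ^ k : ℕ) : ZMod (r ^ (k + 1))) * (a * b) := by ring
        _ = 0 := by rw [hz1, zero_mul]
    have hrmul : ∀ x : ZMod (r ^ (k + 1)), c x = 0 → (r : ZMod (r ^ (k + 1))) * x = 0 := by
      intro x hx
      obtain ⟨a, rfl⟩ := hc0 x hx
      rw [← mul_assoc, hz2, zero_mul]
    apply lift_step r hr (c.mapMatrix : Matrix (Fin n) (Fin n) (ZMod (r ^ (k + 1))) →+* Matrix (Fin n) (Fin n) (ZMod (r ^ k)))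
      _ _ _ _ ρk hρk
    · intro M
      choose g hg using hc
      refine ⟨M.map g, ?_⟩
      ext i j
      exact hg _
    · intro x y hx hy
      ext i j
      rw [Matrix.mul_apply]
      apply Finset.sum_eq_zero
      intro l _
      exact hmul _ _ (congrFun (congrFun hx i) l) (congrFun (congrFun hy l) j)
    · intro x hx
      ext i j
      have := hrmul _ (congrFun (congrFun hx i) j)
      rw [← Matrix.diagonal_natCast, Matrix.diagonal_mul]
      exact this
    · intro d hd hrd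
      have hcop : Nat.Coprime d (r ^ (k + 1)) := by
        apply Nat.Coprime.pow_right
        rw [Nat.coprime_comm]
        exact (Nat.Prime.coprime_iff_not_dvd hr0.out).mpr hrd
      obtain ⟨u, hu⟩ := (ZMod.isUnit_iff_coprime d (r ^ (k + 1))).mpr hcop
      refine ⟨Matrix.diagonal (fun _ => ((u⁻¹ : (ZMod (r ^ (k + 1)))ˣ) : ZMod (r ^ (k + 1)))), ?_⟩
      rw [← Matrix.diagonal_natCast, Matrix.diagonal_mul_diagonal]
      rw [← hu, Units.inv_mul, Matrix.diagonal_one]


/-- matrices from a module which is a lattice -/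
theorem exists_matrix {A : Type*} [Ring A] (L : Type*) [AddCommGroup L] [Module A L] [Module.Finite ℤ L]
    [Module.IsTorsionFree ℤ L] [Nontrivial L] :
    ∃ (m : ℕ) (Θ : A →+* Matrix (Fin m) (Fin m) ℤ), 0 < m ∧ ∀ a : A, (∀ x : L, a • x = 0) → Θ a = 0 := by
  have hfree : Module.Free ℤ L := inferInstance
  let b := Module.finBasis ℤ L
  let Θ0 : A →+* Module.End ℤ L := Module.toModuleEnd ℤ L
  let e : Module.End ℤ L →+* Matrix (Fin (Module.finrank ℤ L)) (Fin (Module.finrank ℤ L)) ℤ :=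
    RingHomClass.toRingHom (LinearMap.toMatrixAlgEquiv b)
  refine ⟨Module.finrank ℤ L, e.comp Θ0, Module.finrank_pos, ?_⟩
  intro a ha
  have h2 : Θ0 a = 0 := by
    ext x
    exact ha x
  rw [RingHom.comp_apply, h2, map_zero]

section lattice

variable {G : Type*} [Group G] {R : ℕ → Type*} [∀ k, Ring (R k)] (Φ : ∀ k, MonoidAlgebra ℤ G →+* R k)

/-- the ideal of elements whose multiples vanish in all `R k` -/
def J : Submodule (MonoidAlgebra ℤ G) (MonoidAlgebra ℤ G) where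
  carrier := {a | ∃ m : ℤ, m ≠ 0 ∧ ∀ k, (m : R k) * Φ k a = 0}
  zero_mem' := ⟨1, one_ne_zero, fun k => by rw [map_zero, mul_zero]⟩
  add_mem' := by
    rintro a b ⟨m, hm, h1⟩ ⟨l, hl, h2⟩
    refine ⟨m * l, mul_ne_zero hm hl, fun k => ?_⟩
    have e : ((m : R k) * l) = (l : R k) * m := by rw [← Int.cast_mul, ← Int.cast_mul, mul_comm]
    rw [map_add, mul_add, Int.cast_mul, mul_assoc _ _ (Φ k b), h2, mul_zero, add_zero, e, mul_assoc, h1, mul_zero]
  smul_mem' := by
    rintro c a ⟨m, hm, h1⟩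
    refine ⟨m, hm, fun k => ?_⟩
    rw [smul_eq_mul, map_mul, ← mul_assoc, Int.cast_comm, mul_assoc, h1, mul_zero]

theorem mem_J {a : MonoidAlgebra ℤ G} : a ∈ J Φ ↔ ∃ m : ℤ, m ≠ 0 ∧ ∀ k, (m : R k) * Φ k a = 0 := Iff.rfl



theorem fin_quot {A L : Type*} [AddCommGroup A] [Module.Finite ℤ A] [AddCommGroup L] (f : A →+ L) (hf : Function.Surjective f) :
    Module.Finite ℤ L := Module.Finite.of_surjective f.toIntLinearMap hf

theorem tf_quot {A L : Type*} [AddCommGroup A] [AddCommGroup L] (f : A →+ L) (hf : Function.Surjective f)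
    (h : ∀ (m : ℤ) (a : A), m ≠ 0 → f (m • a) = 0 → f a = 0) : Module.IsTorsionFree ℤ L := by
  apply Module.IsTorsionFree.of_smul_eq_zero
  intro m x hx
  by_contra hne
  push Not at hne
  obtain ⟨a, rfl⟩ := hf x
  exact hne.2 (h m a hne.1 (by rw [map_zsmul, hx]))

set_option maxHeartbeats 1000000 in
theorem lattice [Finite G] (hΦ : ∀ m : ℤ, (∀ k, (m : R k) = 0) → m = 0) 
    (hN : ∀ k, ∀ g : G, g ≠ 1 → ∑ i ∈ Finset.range (orderOf g), (Φ k (MonoidAlgebra.of ℤ G g)) ^ i = 0) :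
    ∃ (m : ℕ) (ρ : G →* Matrix (Fin m) (Fin m) ℤ), 0 < m ∧ H74.FpfRep.IntFpf ρ := by
  obtain ⟨L, _, _, π, hπ, hker⟩ : ∃ (L : Type _) (_ : AddCommGroup L) (_ : Module (MonoidAlgebra ℤ G) L)
      (π : MonoidAlgebra ℤ G →ₗ[MonoidAlgebra ℤ G] L), Function.Surjective π ∧ ∀ a, π a = 0 ↔ a ∈ J Φ :=
    ⟨MonoidAlgebra ℤ G ⧸ J Φ, inferInstance, inferInstance, (J Φ).mkQ, Submodule.mkQ_surjective _,
      fun a => by rw [Submodule.mkQ_apply, Submodule.Quotient.mk_eq_zero]⟩
  have hfin : Module.Finite ℤ L := fin_quot π.toAddMonoidHom hπ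
  have htf : Module.IsTorsionFree ℤ L := by
    apply tf_quot π.toAddMonoidHom hπ
    intro m a hm h1
    change π (m • a) = 0 at h1
    change π a = 0
    rw [hker, mem_J] at h1 ⊢
    obtain ⟨l, hl, h2⟩ := h1
    refine ⟨l * m, mul_ne_zero hl hm, fun k => ?_⟩
    have := h2 k
    rwa [map_zsmul, zsmul_eq_mul, ← mul_assoc, ← Int.cast_mul] at this
  have hnt : Nontrivial L := by
    refine ⟨π 1, 0, ?_⟩
    intro h1
    rw [hker] at h1
    obtain ⟨m, hm, h2⟩ := (mem_J Φ).mp h1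
    apply hm
    apply hΦ
    intro k
    have := h2 k
    rwa [map_one, mul_one] at this
  obtain ⟨m, Θ, hm, hΘ⟩ := exists_matrix (A := MonoidAlgebra ℤ G) L
  refine ⟨m, (Θ : MonoidAlgebra ℤ G →* _).comp (MonoidAlgebra.of ℤ G), hm, ?_⟩
  intro g hg
  have h1 : ∑ i ∈ Finset.range (orderOf g), ((Θ : MonoidAlgebra ℤ G →* _).comp (MonoidAlgebra.of ℤ G)) g ^ i =
      Θ (∑ i ∈ Finset.range (orderOf g), (MonoidAlgebra.of ℤ G g) ^ i) := by
    rw [map_sum]; simp only [map_pow]; rfl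
  rw [h1]
  apply hΘ
  intro x
  obtain ⟨a, rfl⟩ := hπ x
  rw [← map_smul, hker, mem_J]
  refine ⟨1, one_ne_zero, fun k => ?_⟩
  rw [smul_eq_mul, map_mul, map_sum]
  simp only [map_pow]
  rw [hN k g hg, zero_mul, mul_zero]

end lattice

theorem exists_intFpf {G : Type*} [Group G] [Finite G] (r : ℕ) [hr0 : Fact r.Prime] (hr : ¬ r ∣ Nat.card G) {n : ℕ}
    (hn : 0 < n) (ρ : G →* Matrix (Fin n) (Fin n) (ZMod r))
    (hρ : ∀ g : G, g ≠ 1 → ∀ v : Fin n → ZMod r, ρ g *ᵥ v = v → v = 0) :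
    ∃ (m : ℕ) (ρ : G →* Matrix (Fin m) (Fin m) ℤ), 0 < m ∧ H74.FpfRep.IntFpf ρ := by
  have : NeZero n := ⟨hn.ne'⟩
  have h0 : NormZero ρ := by
    intro g hg
    have key : ∀ v : Fin n → ZMod r, (∑ i ∈ Finset.range (orderOf g), ρ g ^ i) *ᵥ v = 0 := by
      intro v
      apply hρ g hg
      rw [Matrix.mulVec_mulVec]
      congr 1
      have h1 := mul_neg_geom_sum (ρ g) (orderOf g)
      rw [← map_pow, pow_orderOf_eq_one, map_one, sub_self] at h1
      linear_combination (norm := noncomm_ring) -h1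
    ext i j
    have := congrFun (key (Pi.single j 1)) i
    simpa using this
  let c : ZMod r →+* ZMod (r ^ 1) := ZMod.castHom (by rw [pow_one]) (ZMod (r ^ 1))
  have h1 : ∃ ρ1 : G →* Matrix (Fin n) (Fin n) (ZMod (r ^ 1)), NormZero ρ1 := by
    refine ⟨(RingHom.toMonoidHom c.mapMatrix).comp ρ, ?_⟩
    intro g hg
    have := congrArg c.mapMatrix (h0 g hg)
    rw [map_sum, map_zero] at this
    rw [← this]
    apply Finset.sum_congr rfl
    intro i _
    rw [map_pow]; rfl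
  obtain ⟨ρ1, hρ1⟩ := h1
  choose f hf using fun k : ℕ => lift_all r hr ρ1 hρ1 (k + 1) (by omega)
  refine lattice (R := fun k => Matrix (Fin n) (Fin n) (ZMod (r ^ (k + 1))))
    (fun k => ((MonoidAlgebra.lift ℤ _ G (f k) : MonoidAlgebra ℤ G →ₐ[ℤ] _) : MonoidAlgebra ℤ G →+* _)) ?_ ?_
  · intro m hm
    by_contra hne
    have h2 := hm (m.natAbs)
    have h3 := congrFun (congrFun h2 ⟨0, hn⟩) ⟨0, hn⟩
    rw [← Matrix.diagonal_intCast, Matrix.diagonal_apply_eq, Matrix.zero_apply] at h3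
    rw [ZMod.intCast_zmod_eq_zero_iff_dvd] at h3
    have h4 := Int.natAbs_dvd_natAbs.mpr h3
    rw [Int.natAbs_natCast] at h4
    have h5 := Nat.le_of_dvd (Int.natAbs_pos.mpr hne) h4
    have h6 : m.natAbs + 1 < r ^ (m.natAbs + 1) := Nat.lt_pow_self hr0.out.one_lt
    omega
  · intro k g hg
    have := hf k g hg
    simp only [RingHom.coe_coe, MonoidAlgebra.lift_of]
    exact this

end H74.FpfLift
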