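import Cfsg.Agent.Lib.H74.FpfLift
set_option autoImplicit false
open Matrix

namespace H74.FpfMod

/-- passing to matrices -/
theorem to_matrix {F G V : Type*} [Field F] [Group G] [AddCommGroup V] [Module F V] [Module.Finite F V] [Nontrivial V]
    (θ : G →* Module.End F V) (h : ∀ g : G, g ≠ 1 → ∀ x : V, θ g x = x → x = 0) :
    ∃ (n : ℕ) (ρ : G →* Matrix (Fin n) (Fin n) F), 0 < n ∧ ∀ g : G, g ≠ 1 → ∀ v : Fin n → F, ρ g *ᵥ v = v → v = 0 := by
  let b := Module.finBasis F V
  refine ⟨Module.finrank F V, ((LinearMap.toMatrixAlgEquiv b : _ →* _)).comp θ, Module.finrank_pos, ?_⟩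
  intro g hg v hv
  obtain ⟨x, rfl⟩ : ∃ x : V, v = b.repr x := ⟨b.equivFun.symm v, by
    have := b.equivFun.apply_symm_apply v
    exact this.symm⟩
  have h1 : θ g x = x := by
    apply b.repr.injective
    apply DFunLike.coe_injective
    rw [← hv]
    exact (LinearMap.toMatrix_mulVec_repr b b (θ g) x).symm
  rw [h g hg x h1]; simp

variable {K G : Type*} [Group K] [Finite K] [Group G]

theorem conj_fpf (φ : G →* MulAut K) (h : ∀ g : G, g ≠ 1 → ∀ k : K, φ g k = k → k = 1) (g : G) (hg : g ≠ 1) (n k : K)
    (hk : n * φ g k * n⁻¹ = k) : k = 1 := by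
  have hinj : Function.Injective (fun m : K => m⁻¹ * φ g m) := by
    intro m m' hmm
    have h1 : φ g (m' * m⁻¹) = m' * m⁻¹ := by
      simp only at hmm
      rw [map_mul, map_inv]
      have : φ g m = m * (m'⁻¹ * φ g m') := by rw [← hmm]; group
      rw [this]; group
    have := h g hg _ h1
    rw [mul_inv_eq_one] at this
    exact this.symm
  obtain ⟨m, hm⟩ := Finite.surjective_of_injective hinj n
  simp only at hm
  have h2 : φ g (m * k * m⁻¹) = m * k * m⁻¹ := by
    have e : φ g k = n⁻¹ * k * n := by
      nth_rewrite 2 [← hk]; group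
    rw [map_mul, map_mul, map_inv, e, ← hm]; group
  have h3 := h g hg _ h2
  rw [mul_inv_eq_one] at h3
  simpa using h3

theorem card_mod (φ : G →* MulAut K) (h : ∀ g : G, g ≠ 1 → ∀ k : K, φ g k = k → k = 1) :
    Nat.card G ∣ Nat.card K - 1 := by
  let act : MulAction G {k : K // k ≠ 1} :=
    { smul := fun g x => ⟨φ g x, fun hx => x.2 (by
        have := (map_eq_one_iff (φ g) (φ g).injective).mp hx
        exact this)⟩
      one_smul := fun x => Subtype.ext (by change φ 1 (x : K) = x; rw [map_one]; rfl)
      mul_smul := fun a b x => Subtype.ext (by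
        change φ (a * b) (x : K) = φ a (φ b x)
        rw [map_mul]; rfl) }
  have hst : ∀ x : {k : K // k ≠ 1}, MulAction.stabilizer G x = ⊥ := by
    intro x
    rw [eq_bot_iff]
    intro g hg
    by_contra hne
    exact x.2 (h g hne x (congrArg Subtype.val (MulAction.mem_stabilizer_iff.mp hg)))
  have e := MulAction.selfEquivOrbitsQuotientProd hst
  have h1 : Nat.card {k : K // k ≠ 1} = Nat.card K - 1 := by
    have : Nat.card {k : K // k ≠ 1} = ({1}ᶜ : Set K).ncard := rfl
    rw [this, Set.ncard_compl, Set.ncard_singleton]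
  rw [← h1, Nat.card_congr e, Nat.card_prod]
  exact Dvd.intro_left _ rfl

theorem coprime_card (φ : G →* MulAut K) (h : ∀ g : G, g ≠ 1 → ∀ k : K, φ g k = k → k = 1) :
    (Nat.card G).Coprime (Nat.card K) := by
  have h1 := card_mod φ h
  have h2 : 0 < Nat.card K := Nat.card_pos
  have h3 : (Nat.card G).gcd (Nat.card K) ∣ 1 := by
    have a1 := (Nat.gcd_dvd_left (Nat.card G) (Nat.card K)).trans h1
    have a2 := Nat.gcd_dvd_right (Nat.card G) (Nat.card K)
    have a3 := (Nat.dvd_sub a2 a1)
    rwa [Nat.sub_sub_self (by omega)] at a3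
  exact Nat.dvd_one.mp h3


theorem exists_section {M G : Type*} [Group M] [Group G] [Finite M] (p : M →* G) (hp : Function.Surjective p)
    (hcop : (Nat.card p.ker).Coprime (Nat.card G)) : ∃ s : G →* M, ∀ g, p (s g) = g := by
  have hcop' : (Nat.card p.ker).Coprime p.ker.index := by
    rwa [Subgroup.index_ker, MonoidHom.range_eq_top.mpr hp, Subgroup.card_top]
  obtain ⟨H, hH⟩ := Subgroup.exists_right_complement'_of_coprime hcop'
  have hinj : Function.Injective (p.comp H.subtype) := by
    rw [injective_iff_map_eq_one]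
    intro x hx
    have h1 : (x : M) ∈ p.ker ⊓ H := ⟨hx, x.2⟩
    rw [hH.disjoint.eq_bot] at h1
    exact Subtype.ext h1
  have hsurj : Function.Surjective (p.comp H.subtype) := by
    intro g
    obtain ⟨e, he⟩ := hp g
    have h1 : e ∈ p.ker ⊔ H := by rw [hH.sup_eq_top]; trivial
    rw [Subgroup.mem_sup_of_normal_left] at h1
    obtain ⟨y, hy, z, hz, hyz⟩ := h1
    refine ⟨⟨z, hz⟩, ?_⟩
    rw [← he, ← hyz, map_mul, MonoidHom.mem_ker.mp hy, one_mul]
    rfl
  let e := MulEquiv.ofBijective _ ⟨hinj, hsurj⟩
  refine ⟨H.subtype.comp e.symm.toMonoidHom, ?_⟩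
  intro g
  exact e.apply_symm_apply g

/-- the action of the semidirect product on the kernel -/
def psi (φ : G →* MulAut K) : K ⋊[φ] G →* MulAut K :=
  SemidirectProduct.lift MulAut.conj φ (by
    intro g
    ext n k
    simp)

omit [Finite K] in
theorem psi_apply (φ : G →* MulAut K) (x : K ⋊[φ] G) (k : K) : psi φ x k = x.left * φ x.right k * x.left⁻¹ := rfl

open scoped Pointwise in
theorem exists_invariant (φ : G →* MulAut K) (h : ∀ g : G, g ≠ 1 → ∀ k : K, φ g k = k → k = 1) [Finite G]
    (r : ℕ) [Fact r.Prime] (R : Sylow r K) :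
    ∃ φ' : G →* MulAut K, (∀ g : G, g ≠ 1 → ∀ k : K, φ' g k = k → k = 1) ∧
      ∀ g : G, ∀ k ∈ R, φ' g k ∈ R := by
  let L := K ⋊[φ] G
  have hfinL : Finite L := Finite.of_equiv _ SemidirectProduct.equivProd.symm
  let M : Subgroup L := 
    { carrier := {x | ∀ k, k ∈ R ↔ psi φ x k ∈ R}
      one_mem' := by intro k; rw [map_one]; rfl
      mul_mem' := by
        intro a b ha hb k
        rw [map_mul, MulAut.mul_apply, ← ha, ← hb]
      inv_mem' := by
        intro a ha k
        rw [ha (psi φ a⁻¹ k), ← MulAut.mul_apply, ← map_mul, mul_inv_cancel, map_one]; rfl }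
  let p : M →* G := SemidirectProduct.rightHom.comp M.subtype
  have hp : Function.Surjective p := by
    intro g
    obtain ⟨m, hm⟩ := MulAction.exists_smul_eq K (φ g • R) R
    refine ⟨⟨⟨m, g⟩, ?_⟩, rfl⟩
    intro k
    rw [psi_apply]
    have h1 : ∀ k, k ∈ R → m * φ g k * m⁻¹ ∈ R := by
      intro k hk
      have h2 : φ g k ∈ φ g • (R : Subgroup K) := Subgroup.smul_mem_pointwise_smul k (φ g) _ hk
      have h3 : MulAut.conj m • (φ g k) ∈ MulAut.conj m • (φ g • (R : Subgroup K)) :=
        Subgroup.smul_mem_pointwise_smul _ (MulAut.conj m) _ h2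
      have h4 : MulAut.conj m • (φ g • (R : Subgroup K)) = R := congrArg Sylow.toSubgroup hm
      rw [h4] at h3
      exact h3
    refine ⟨h1 k, ?_⟩
    intro hk
    -- use finiteness: the automorphism is injective on R
    let f : R → R := fun k => ⟨m * φ g k * m⁻¹, h1 k k.2⟩
    have hf : Function.Injective f := by
      intro a b hab
      have := congrArg Subtype.val hab
      simp only [f] at this
      apply Subtype.ext
      apply (φ g).injective
      exact mul_left_cancel (mul_right_cancel this)
    obtain ⟨k', hk'⟩ := Finite.surjective_of_injective hf ⟨_, hk⟩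
    have := congrArg Subtype.val hk'
    simp only [f] at this
    have e : (k' : K) = k := (φ g).injective (mul_left_cancel (mul_right_cancel this))
    rw [← e]; exact k'.2
  have hcop : (Nat.card p.ker).Coprime (Nat.card G) := by
    have hker : Nat.card p.ker ∣ Nat.card K := by
      let q : p.ker →* K := 
        { toFun := fun x => (x : M).1.left
          map_one' := rfl
          map_mul' := by
            intro a b
            change ((a : M).1 * (b : M).1).left = _
            rw [SemidirectProduct.mul_left]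
            have : (a : M).1.right = 1 := a.2
            rw [this, map_one]; rfl }
      have hq : Function.Injective q := by
        intro a b hab
        apply Subtype.ext
        apply Subtype.ext
        apply SemidirectProduct.ext
        · exact hab
        · have h1 : (a : M).1.right = 1 := a.2
          have h2 : (b : M).1.right = 1 := b.2
          rw [h1, h2]
      exact Subgroup.card_dvd_of_injective q hq
    exact (Nat.Coprime.coprime_dvd_right hker (coprime_card φ h)).symm
  obtain ⟨s, hs⟩ := exists_section p hp hcop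
  refine ⟨(psi φ).comp (M.subtype.comp s), ?_, ?_⟩
  · intro g hg k hk
    have h1 : (s g : L).right = g := hs g
    simp only [MonoidHom.comp_apply, Subgroup.subtype_apply] at hk
    rw [psi_apply, h1] at hk
    exact conj_fpf φ h g hg _ k hk
  · intro g k hk
    exact ((s g).2 k).mp hk


theorem of_elementary_add {V G : Type*} [AddCommGroup V] [Finite V] [Nontrivial V] [Group G] (r : ℕ) [Fact r.Prime]
    (hV : ∀ v : V, r • v = 0) (a : G →* AddMonoid.End V) (ha : ∀ g : G, g ≠ 1 → ∀ v : V, a g v = v → v = 0) :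
    ∃ (n : ℕ) (ρ : G →* Matrix (Fin n) (Fin n) (ZMod r)), 0 < n ∧
      ∀ g : G, g ≠ 1 → ∀ v : Fin n → ZMod r, ρ g *ᵥ v = v → v = 0 := by
  let _ : Module (ZMod r) V := AddCommGroup.zmodModule (n := r) hV
  have : Module.Finite (ZMod r) V := Module.Finite.of_finite
  let θ : G →* Module.End (ZMod r) V :=
    { toFun := fun g => AddMonoidHom.toZModLinearMap r (a g)
      map_one' := by
        apply LinearMap.ext
        intro x
        rw [map_one]; rfl
      map_mul' := by
        intro g h
        apply LinearMap.ext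
        intro x
        rw [map_mul]; rfl }
  refine to_matrix θ ?_
  intro g hg x hx
  exact ha g hg x hx

theorem of_elementary {W G : Type*} [CommGroup W] [Finite W] [Nontrivial W] [Group G] (r : ℕ) [Fact r.Prime]
    (hW : ∀ w : W, w ^ r = 1) (a : G →* MulAut W) (ha : ∀ g : G, g ≠ 1 → ∀ w : W, a g w = w → w = 1) :
    ∃ (n : ℕ) (ρ : G →* Matrix (Fin n) (Fin n) (ZMod r)), 0 < n ∧
      ∀ g : G, g ≠ 1 → ∀ v : Fin n → ZMod r, ρ g *ᵥ v = v → v = 0 := by
  let b : G →* AddMonoid.End (Additive W) :=
    { toFun := fun g => MonoidHom.toAdditive (a g).toMonoidHom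
      map_one' := by
        ext x
        rw [map_one]; rfl
      map_mul' := by
        intro g h
        ext x
        rw [map_mul]; rfl }
  refine of_elementary_add (V := Additive W) r (fun x => ?_) b ?_
  · have := hW x.toMul
    exact congrArg Additive.ofMul this
  · intro g hg x hx
    have h1 := ha g hg x.toMul hx
    exact congrArg Additive.ofMul h1

theorem exists_modular [Nontrivial K] (φ : G →* MulAut K) (h : ∀ g : G, g ≠ 1 → ∀ k : K, φ g k = k → k = 1) [Finite G] :
    ∃ (r : ℕ) (_ : Fact r.Prime) (n : ℕ) (ρ : G →* Matrix (Fin n) (Fin n) (ZMod r)), ¬ r ∣ Nat.card G ∧ 0 < n ∧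
      ∀ g : G, g ≠ 1 → ∀ v : Fin n → ZMod r, ρ g *ᵥ v = v → v = 0 := by
  have hK : Nat.card K ≠ 1 := by
    intro h1
    exact not_subsingleton K (Nat.card_eq_one_iff_unique.mp h1).1
  obtain ⟨r, hr, hrK⟩ := Nat.exists_prime_and_dvd hK
  have : Fact r.Prime := ⟨hr⟩
  have hrG : ¬ r ∣ Nat.card G := by
    intro hrG
    have := Nat.dvd_gcd hrG hrK
    rw [(coprime_card φ h).gcd_eq_one] at this
    exact hr.one_lt.ne' (Nat.dvd_one.mp this)
  let R : Sylow r K := default
  obtain ⟨φ', h1, h2⟩ := exists_invariant φ h r R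
  have hRnt : Nontrivial R := by
    have := R.dvd_card_of_dvd_card hrK
    rw [← Finite.one_lt_card_iff_nontrivial]
    exact lt_of_lt_of_le hr.one_lt (Nat.le_of_dvd Nat.card_pos this)
  have hcent := R.isPGroup'.center_nontrivial
  obtain ⟨z, hz⟩ : ∃ z : Subgroup.center R, orderOf z = r := by
    apply exists_prime_orderOf_dvd_card' r
    have hp : IsPGroup r (Subgroup.center R) := R.isPGroup'.to_subgroup _
    obtain ⟨k, hk⟩ := IsPGroup.iff_card.mp hp
    have : k ≠ 0 := by
      rintro rfl
      rw [pow_zero] at hk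
      exact not_subsingleton (Subgroup.center R) (Nat.card_eq_one_iff_unique.mp hk).1
    rw [hk]
    exact dvd_pow_self r this
  let W : Subgroup K :=
    { carrier := {k | k ∈ R ∧ (∀ x ∈ R, k * x = x * k) ∧ k ^ r = 1}
      one_mem' := ⟨one_mem _, fun x _ => by simp, one_pow _⟩
      mul_mem' := by
        rintro a b ⟨a1, a2, a3⟩ ⟨b1, b2, b3⟩
        refine ⟨mul_mem a1 b1, fun x hx => ?_, ?_⟩
        · rw [mul_assoc, b2 x hx, ← mul_assoc, a2 x hx, mul_assoc]
        · have : Commute a b := a2 b b1
          rw [this.mul_pow, a3, b3, one_mul]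
      inv_mem' := by
        rintro a ⟨a1, a2, a3⟩
        refine ⟨inv_mem a1, fun x hx => ?_, by rw [inv_pow, a3, inv_one]⟩
        have : Commute a x := a2 x hx
        exact this.inv_left.eq }
  let _ : CommGroup W := { (inferInstance : Group W) with
    mul_comm := fun a b => Subtype.ext (a.2.2.1 b b.2.1) }
  have hWnt : Nontrivial W := by
    refine ⟨⟨⟨((z : R) : K), (z : R).2, ?_, ?_⟩, 1, ?_⟩⟩
    · intro x hx
      have := Subgroup.mem_center_iff.mp z.2 ⟨x, hx⟩
      exact (congrArg Subtype.val this).symm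
    · have := pow_orderOf_eq_one z
      rw [hz] at this
      exact congrArg (fun y : Subgroup.center R => ((y : R) : K)) this
    · intro h3
      have h4 : z = 1 := by
        apply Subtype.ext; apply Subtype.ext
        have := congrArg Subtype.val h3
        exact this
      rw [h4, orderOf_one] at hz
      exact hr.one_lt.ne hz
  have hW : ∀ g, ∀ k ∈ W, φ' g k ∈ W := by
    rintro g k ⟨k1, k2, k3⟩
    refine ⟨h2 g k k1, fun x hx => ?_, by rw [← map_pow, k3, map_one]⟩
    have hx' := h2 g⁻¹ x hx
    have e := k2 _ hx'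
    have e2 := congrArg (φ' g) e
    rw [map_mul, map_mul, map_inv, MulAut.apply_inv_self] at e2
    exact e2
  let a : G →* MulAut W :=
    { toFun := fun g =>
        { toFun := fun w => ⟨φ' g w, hW g w w.2⟩
          invFun := fun w => ⟨φ' g⁻¹ w, hW g⁻¹ w w.2⟩
          left_inv := by
            intro w; apply Subtype.ext
            simp
          right_inv := by
            intro w; apply Subtype.ext
            simp
          map_mul' := by
            intro w w'; apply Subtype.ext
            simp }
      map_one' := by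
        ext w; simp
      map_mul' := by
        intro g g'; ext w; simp }
  obtain ⟨n, ρ, hn, hρ⟩ := of_elementary r (fun w : W => Subtype.ext w.2.2.2) a (by
    intro g hg w hw
    apply Subtype.ext
    exact h1 g hg w (congrArg Subtype.val hw))
  exact ⟨r, ⟨hr⟩, n, ρ, hrG, hn, hρ⟩

theorem exists_int [Nontrivial K] (φ : G →* MulAut K) (h : ∀ g : G, g ≠ 1 → ∀ k : K, φ g k = k → k = 1) [Finite G] :
    ∃ (m : ℕ) (ρ : G →* Matrix (Fin m) (Fin m) ℤ), 0 < m ∧ H74.FpfRep.IntFpf ρ := by
  obtain ⟨r, _, n, ρ, hr, hn, hρ⟩ := exists_modular φ h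
  exact H74.FpfLift.exists_intFpf r hr hn ρ hρ

end H74.FpfMod
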