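import Cfsg.Agent.Lib.H74.Ico3
set_option autoImplicit false
set_option linter.unusedSectionVars false
set_option linter.unusedVariables false
open Matrix Polynomial

namespace H74.FpfRep

variable {G : Type*} [Group G]

/-- an integral representation in which all the norms of nontrivial cyclic groups vanish -/
def IntFpf {m : ℕ} (ρ : G →* Matrix (Fin m) (Fin m) ℤ) : Prop :=
  ∀ g : G, g ≠ 1 → ∑ i ∈ Finset.range (orderOf g), ρ g ^ i = 0

variable {m : ℕ} (ρ : G →* Matrix (Fin m) (Fin m) ℤ)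

/-- extension of scalars -/
def ex (K : Type*) [CommRing K] : G →* Matrix (Fin m) (Fin m) K :=
  (RingHom.toMonoidHom (Int.castRingHom K).mapMatrix).comp ρ

theorem ex_apply (K : Type*) [CommRing K] (g : G) : ex ρ K g = (ρ g).map (Int.castRingHom K) := rfl

theorem ex_norm (K : Type*) [CommRing K] (h : IntFpf ρ) (g : G) (hg : g ≠ 1) :
    ∑ i ∈ Finset.range (orderOf g), ex ρ K g ^ i = 0 := by
  have := congrArg (Int.castRingHom K).mapMatrix (h g hg)
  rw [map_sum, map_zero] at this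
  rw [← this]
  apply Finset.sum_congr rfl
  intro i _
  rw [map_pow]; rfl

theorem ex_fpf (K : Type*) [Field K] (h : IntFpf ρ) (g : G) (hg : g ≠ 1)
    (hK : (orderOf g : K) ≠ 0) (v : Fin m → K) (hv : ex ρ K g *ᵥ v = v) : v = 0 := by
  have h1 := ex_norm ρ K h g hg
  have h2 : ∀ i : ℕ, ex ρ K g ^ i *ᵥ v = v := by
    intro i
    induction i with
    | zero => simp
    | succ k ih => rw [pow_succ, ← Matrix.mulVec_mulVec, hv, ih]
  have h3 : (∑ i ∈ Finset.range (orderOf g), ex ρ K g ^ i) *ᵥ v = (orderOf g : K) • v := by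
    rw [Matrix.sum_mulVec, Finset.sum_congr rfl (fun i _ => h2 i)]
    simp [Nat.cast_smul_eq_nsmul]
  rw [h1, Matrix.zero_mulVec] at h3
  exact (smul_eq_zero.mp h3.symm).resolve_left hK

theorem eigenvector [Finite G] (hm : 0 < m) (h : IntFpf ρ) (t : G) (ζ : ℂ) (hζ : IsPrimitiveRoot ζ (orderOf t)) :
    ∃ v : Fin m → ℂ, v ≠ 0 ∧ ex ρ ℂ t *ᵥ v = ζ • v := by
  have : NeZero m := ⟨hm.ne'⟩
  have key : ∀ z : ℂ, aeval z (ρ t).charpoly = 0 → ∃ v : Fin m → ℂ, v ≠ 0 ∧ ex ρ ℂ t *ᵥ v = z • v := by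
    intro z hz
    have h1 : (ex ρ ℂ t).charpoly.eval z = 0 := by
      rw [ex_apply, Matrix.charpoly_map, Polynomial.eval_map]
      exact hz
    rw [Matrix.eval_charpoly] at h1
    obtain ⟨v, hv, hv2⟩ := Matrix.exists_mulVec_eq_zero_iff.mpr h1
    refine ⟨v, hv, ?_⟩
    rw [Matrix.sub_mulVec, sub_eq_zero] at hv2
    rw [← hv2]
    ext i
    simp [Matrix.scalar_apply, Matrix.mulVec_diagonal]
  obtain ⟨z, hz⟩ : ∃ z : ℂ, aeval z (ρ t).charpoly = 0 := by
    have hdeg : ((ρ t).charpoly.map (Int.castRingHom ℂ)).degree ≠ 0 := by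
      rw [← Matrix.charpoly_map, Matrix.charpoly_degree_eq_dim]
      simpa using hm.ne'
    obtain ⟨z, hz⟩ := IsAlgClosed.exists_root _ hdeg
    refine ⟨z, ?_⟩
    rw [Polynomial.IsRoot, Polynomial.eval_map] at hz
    exact hz
  obtain ⟨v, hv, hv2⟩ := key z hz
  have hpow : ∀ k : ℕ, ex ρ ℂ (t ^ k) *ᵥ v = z ^ k • v := by
    intro k
    induction k with
    | zero => simp
    | succ k ih => rw [pow_succ, map_mul, ← Matrix.mulVec_mulVec, hv2, Matrix.mulVec_smul, ih, smul_smul, pow_succ, mul_comm]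
  have hn : 0 < orderOf t := orderOf_pos t
  have hz1 : z ^ orderOf t = 1 := by
    have h1 := hpow (orderOf t)
    rw [pow_orderOf_eq_one, map_one, Matrix.one_mulVec] at h1
    have h2 : (z ^ orderOf t - 1) • v = 0 := by rw [sub_smul, ← h1, one_smul, sub_self]
    exact sub_eq_zero.mp ((smul_eq_zero.mp h2).resolve_right hv)
  have hzprim : IsPrimitiveRoot z (orderOf t) := by
    refine ⟨hz1, fun l hl => ?_⟩
    rw [orderOf_dvd_iff_pow_eq_one]
    by_contra hne
    apply hv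
    apply ex_fpf ρ ℂ h (t ^ l) hne
    · exact_mod_cast (orderOf_pos (t ^ l)).ne'
    · rw [hpow, hl, one_smul]
  have hmin : minpoly ℤ z ∣ (ρ t).charpoly := by
    apply minpoly.isIntegrallyClosed_dvd (hzprim.isIntegral hn)
    exact hz
  rw [← Polynomial.cyclotomic_eq_minpoly hzprim hn] at hmin
  apply key
  obtain ⟨q, hq⟩ := hmin
  rw [hq, map_mul]
  have : aeval ζ (cyclotomic (orderOf t) ℤ) = 0 := by
    rw [Polynomial.cyclotomic_eq_minpoly hζ hn]
    exact minpoly.aeval _ _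
  rw [this, zero_mul]


section pos
variable [Fintype G]

/-- the invariant hermitian form -/
noncomputable def B (v w : Fin m → ℂ) : ℂ := ∑ g : G, star (ex ρ ℂ g *ᵥ v) ⬝ᵥ (ex ρ ℂ g *ᵥ w)

theorem B_inv (h : G) (v w : Fin m → ℂ) : B ρ (ex ρ ℂ h *ᵥ v) (ex ρ ℂ h *ᵥ w) = B ρ v w := by
  unfold B
  simp only [Matrix.mulVec_mulVec, ← map_mul]
  exact Fintype.sum_equiv (Equiv.mulRight h) _ _ (fun g => rfl)

theorem B_sub_left (u v w : Fin m → ℂ) : B ρ (u - v) w = B ρ u w - B ρ v w := by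
  unfold B
  rw [← Finset.sum_sub_distrib]
  apply Finset.sum_congr rfl
  intro g _
  rw [Matrix.mulVec_sub, star_sub, sub_dotProduct]

theorem B_sub_right (u v w : Fin m → ℂ) : B ρ u (v - w) = B ρ u v - B ρ u w := by
  unfold B
  rw [← Finset.sum_sub_distrib]
  apply Finset.sum_congr rfl
  intro g _
  rw [Matrix.mulVec_sub, dotProduct_sub]

theorem B_smul_right (c : ℂ) (v w : Fin m → ℂ) : B ρ v (c • w) = c * B ρ v w := by
  unfold B
  rw [Finset.mul_sum]
  apply Finset.sum_congr rfl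
  intro g _
  rw [Matrix.mulVec_smul, dotProduct_smul, smul_eq_mul]

theorem B_self (v : Fin m → ℂ) : ∃ r : ℝ, 0 ≤ r ∧ B ρ v v = r ∧ (r = 0 → v = 0) := by
  have h1 : ∀ u : Fin m → ℂ, star u ⬝ᵥ u = ((∑ i, Complex.normSq (u i) : ℝ) : ℂ) := by
    intro u
    rw [dotProduct]
    push_cast
    apply Finset.sum_congr rfl
    intro i _
    rw [Pi.star_apply, Complex.star_def, Complex.normSq_eq_conj_mul_self]
  refine ⟨∑ g : G, ∑ i, Complex.normSq ((ex ρ ℂ g *ᵥ v) i), ?_, ?_, ?_⟩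
  · exact Finset.sum_nonneg fun g _ => Finset.sum_nonneg fun i _ => Complex.normSq_nonneg _
  · unfold B
    simp only [h1]
    push_cast
    rfl
  · intro h
    have h2 := (Finset.sum_eq_zero_iff_of_nonneg (fun g _ => Finset.sum_nonneg fun i _ => Complex.normSq_nonneg _)).mp h 1 (Finset.mem_univ _)
    rw [map_one, Matrix.one_mulVec] at h2
    ext i
    have h3 := (Finset.sum_eq_zero_iff_of_nonneg (fun i _ => Complex.normSq_nonneg _)).mp h2 i (Finset.mem_univ _)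
    exact Complex.normSq_eq_zero.mp h3

variable (h : IntFpf ρ)
include h

omit [Fintype G] in
theorem sq_of_order3 (K : Type*) [CommRing K] {x : G} (hx : orderOf x = 3) :
    ex ρ K x * ex ρ K x = -1 - ex ρ K x := by
  have hx1 : x ≠ 1 := by
    rintro rfl; rw [orderOf_one] at hx; norm_num at hx
  have := ex_norm ρ K h x hx1
  rw [hx] at this
  simp only [Finset.sum_range_succ, Finset.sum_range_zero, pow_zero, pow_one, zero_add] at this
  rw [← sq]
  linear_combination (norm := noncomm_ring) this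

omit [Fintype G] in
theorem inv_of_order3 (K : Type*) [CommRing K] {x : G} (hx : orderOf x = 3) :
    ex ρ K x⁻¹ = -1 - ex ρ K x := by
  rw [← sq_of_order3 ρ h K hx, ← map_mul]
  congr 1
  rw [inv_eq_iff_mul_eq_one, ← mul_assoc, ← pow_three', ← hx, pow_orderOf_eq_one]

theorem pos_key {x y : G} (hx : orderOf x = 3) (hy : orderOf y = 3) (v : Fin m → ℂ) :
    B ρ (ex ρ ℂ x *ᵥ v - ex ρ ℂ y *ᵥ v) (ex ρ ℂ x *ᵥ v - ex ρ ℂ y *ᵥ v) =
      B ρ v (v + ex ρ ℂ (x * y) *ᵥ v + ex ρ ℂ (x * y)⁻¹ *ᵥ v) := by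
  have e1 : B ρ (ex ρ ℂ x *ᵥ v) (ex ρ ℂ y *ᵥ v) = B ρ v (ex ρ ℂ x⁻¹ *ᵥ (ex ρ ℂ y *ᵥ v)) := by
    rw [← B_inv ρ x⁻¹ (ex ρ ℂ x *ᵥ v), Matrix.mulVec_mulVec v, ← map_mul, inv_mul_cancel, map_one, Matrix.one_mulVec]
  have e2 : B ρ (ex ρ ℂ y *ᵥ v) (ex ρ ℂ x *ᵥ v) = B ρ v (ex ρ ℂ y⁻¹ *ᵥ (ex ρ ℂ x *ᵥ v)) := by
    rw [← B_inv ρ y⁻¹ (ex ρ ℂ y *ᵥ v), Matrix.mulVec_mulVec v, ← map_mul, inv_mul_cancel, map_one, Matrix.one_mulVec]
  rw [B_sub_left, B_sub_right, B_sub_right, B_inv, B_inv, e1, e2]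
  have e3 : v + ex ρ ℂ (x * y) *ᵥ v + ex ρ ℂ (x * y)⁻¹ *ᵥ v =
      v - ex ρ ℂ x⁻¹ *ᵥ (ex ρ ℂ y *ᵥ v) - (ex ρ ℂ y⁻¹ *ᵥ (ex ρ ℂ x *ᵥ v) - v) := by
    rw [_root_.mul_inv_rev, map_mul, map_mul, inv_of_order3 ρ h ℂ hx, inv_of_order3 ρ h ℂ hy]
    simp only [Matrix.mulVec_mulVec, mul_sub, sub_mul, mul_neg, neg_mul, one_mul, mul_one, Matrix.sub_mulVec,
      Matrix.neg_mulVec, Matrix.one_mulVec]
    abel
  rw [e3, B_sub_right, B_sub_right, B_sub_right]

theorem re_bound (hm : 0 < m) {x y : G} (hx : orderOf x = 3) (hy : orderOf y = 3) (ζ : ℂ)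
    (hζ : IsPrimitiveRoot ζ (orderOf (x * y))) : 0 ≤ 2 * ζ.re + 1 := by
  obtain ⟨v, hv, hv2⟩ := eigenvector ρ hm h (x * y) ζ hζ
  have hn : 0 < orderOf (x * y) := orderOf_pos _
  have hζ0 : ζ ≠ 0 := by
    rintro rfl
    have := hζ.pow_eq_one
    rw [zero_pow hn.ne'] at this
    exact zero_ne_one this
  have hv3 : ex ρ ℂ (x * y)⁻¹ *ᵥ v = ζ⁻¹ • v := by
    have h1 : ex ρ ℂ (x * y)⁻¹ *ᵥ (ex ρ ℂ (x * y) *ᵥ v) = v := by
      rw [Matrix.mulVec_mulVec, ← map_mul, inv_mul_cancel, map_one, Matrix.one_mulVec]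
    rw [hv2, Matrix.mulVec_smul] at h1
    rw [← h1, smul_smul, inv_mul_cancel₀ hζ0, one_smul]
    exact h1.symm ▸ rfl
  have key := pos_key ρ h hx hy v
  have e : v + ex ρ ℂ (x * y) *ᵥ v + ex ρ ℂ (x * y)⁻¹ *ᵥ v = (1 + ζ + ζ⁻¹) • v := by
    rw [hv2, hv3, add_smul, add_smul, one_smul]
  rw [e, B_smul_right] at key
  obtain ⟨r, hr0, hr, hr1⟩ := B_self ρ v
  obtain ⟨s, hs0, hs, -⟩ := B_self ρ (ex ρ ℂ x *ᵥ v - ex ρ ℂ y *ᵥ v)
  rw [hs, hr] at key
  have hrpos : 0 < r := lt_of_le_of_ne hr0 (fun h => hv (hr1 h.symm))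
  have hnorm : ‖ζ‖ = 1 := hζ.norm'_eq_one hn.ne'
  have hinv : ζ⁻¹ = (starRingEnd ℂ) ζ := by
    rw [Complex.inv_def, Complex.normSq_eq_norm_sq, hnorm]; simp
  rw [hinv] at key
  have h2 := congrArg Complex.re key
  simp [Complex.mul_re] at h2
  have h3 : (2 * ζ.re + 1) * r = s := by rw [h2]; ring
  by_contra hneg
  push Not at hneg
  nlinarith

end pos

theorem cos_lt {θ : ℝ} (h0 : 0 ≤ θ) (h1 : θ < Real.pi / 3) : Real.cos (Real.pi - θ) < -(1 / 2) := by
  rw [Real.cos_pi_sub, neg_lt_neg_iff, ← Real.cos_pi_div_three]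
  apply Real.cos_lt_cos_of_nonneg_of_le_pi h0 _ h1
  have := Real.pi_pos
  linarith

theorem order_aux {n k : ℕ} (hn : 0 < n) (hk : Nat.Coprime k n) {θ : ℝ} (h0 : 0 ≤ θ) (h1 : θ < Real.pi / 3)
    (h2 : 2 * Real.pi * k / n = Real.pi - θ)
    (h : ∀ ζ : ℂ, IsPrimitiveRoot ζ n → 0 ≤ 2 * ζ.re + 1) : False := by
  have h3 := h _ (Complex.isPrimitiveRoot_exp_of_coprime k n hn.ne' hk)
  have e : (2 * (Real.pi : ℂ) * Complex.I * ((k : ℂ) / n)) = ((2 * Real.pi * k / n : ℝ) : ℂ) * Complex.I := by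
    push_cast; ring
  rw [e, Complex.exp_ofReal_mul_I_re, h2] at h3
  have := cos_lt h0 h1
  linarith

theorem order_le {n : ℕ} (hn : 0 < n) (h : ∀ ζ : ℂ, IsPrimitiveRoot ζ n → 0 ≤ 2 * ζ.re + 1) :
    n = 1 ∨ n = 3 ∨ n = 4 ∨ n = 6 ∨ n = 10 := by
  have hpi := Real.pi_pos
  by_contra hne
  push Not at hne
  obtain ⟨n1, n3, n4, n6, n10⟩ := hne
  by_cases h2 : n = 2
  · subst h2
    refine order_aux (k := 1) (by norm_num) (by norm_num) (θ := 0) le_rfl (by linarith) ?_ h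
    push_cast; ring
  obtain ⟨j, hj | hj | hj⟩ : ∃ j, n = 2 * j + 1 ∨ n = 4 * j ∨ n = 4 * j + 2 := by
    rcases Nat.even_or_odd n with ⟨r, hr⟩ | ⟨r, hr⟩
    · rcases Nat.even_or_odd r with ⟨s, hs⟩ | ⟨s, hs⟩
      · exact ⟨s, Or.inr (Or.inl (by omega))⟩
      · exact ⟨s, Or.inr (Or.inr (by omega))⟩
    · exact ⟨r, Or.inl hr⟩
  · have hj2 : 2 ≤ j := by omega
    have hjr : (2 : ℝ) ≤ j := by exact_mod_cast hj2
    refine order_aux (k := j) hn ?_ (θ := Real.pi / n) (by positivity) ?_ ?_ h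
    · rw [hj]
      rw [Nat.coprime_comm]
      simp
    · rw [hj]; push_cast
      rw [div_lt_div_iff₀ (by positivity) (by norm_num)]
      nlinarith
    · rw [hj]; push_cast
      field_simp; ring
  · have hj2 : 2 ≤ j := by omega
    have hjr : (2 : ℝ) ≤ j := by exact_mod_cast hj2
    refine order_aux (k := 2 * j - 1) hn ?_ (θ := Real.pi / (2 * j)) (by positivity) ?_ ?_ h
    · rw [hj]
      have e : 4 * j = 2 + (2 * j - 1) * 2 := by omega
      rw [e, Nat.coprime_add_mul_left_right]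
      rw [Nat.coprime_two_right]
      exact ⟨j - 1, by omega⟩
    · rw [div_lt_div_iff₀ (by positivity) (by norm_num)]
      nlinarith
    · rw [hj]
      have : ((2 * j - 1 : ℕ) : ℝ) = 2 * j - 1 := by
        rw [Nat.cast_sub (by omega)]; push_cast; ring
      rw [this]; push_cast
      field_simp; ring
  · have hj2 : 3 ≤ j := by omega
    have hjr : (3 : ℝ) ≤ j := by exact_mod_cast hj2
    refine order_aux (k := 2 * j - 1) hn ?_ (θ := 2 * Real.pi / (2 * j + 1)) (by positivity) ?_ ?_ h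
    · rw [hj]
      have e : 4 * j + 2 = 4 + (2 * j - 1) * 2 := by omega
      rw [e, Nat.coprime_add_mul_left_right]
      have : (4 : ℕ) = 2 ^ 2 := by norm_num
      rw [this]
      apply Nat.Coprime.pow_right
      rw [Nat.coprime_two_right]
      exact ⟨j - 1, by omega⟩
    · rw [div_lt_div_iff₀ (by positivity) (by norm_num)]
      nlinarith
    · rw [hj]
      have : ((2 * j - 1 : ℕ) : ℝ) = 2 * j - 1 := by
        rw [Nat.cast_sub (by omega)]; push_cast; ring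
      rw [this]; push_cast
      field_simp; ring


open H74.Ico in
section
variable [Finite G] (h : IntFpf ρ) (hm : 0 < m)
include h hm

omit [Finite G] hm in
theorem order_two {K : Type*} [CommRing K] {g : G} (hg : orderOf g = 2) : ex ρ K g = -1 := by
  have hg1 : g ≠ 1 := by
    rintro rfl; rw [orderOf_one] at hg; norm_num at hg
  have := ex_norm ρ K h g hg1
  rw [hg] at this
  simp only [Finset.sum_range_succ, Finset.sum_range_zero, pow_zero, pow_one, zero_add] at this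
  exact (neg_eq_of_add_eq_zero_right this).symm

theorem ex_injective (K : Type*) [Field K] [CharZero K] : Function.Injective (ex ρ K) := by
  have : NeZero m := ⟨hm.ne'⟩
  rw [injective_iff_map_eq_one]
  intro g hg
  by_contra hne
  have h1 := ex_fpf ρ K h g hne (by exact_mod_cast (orderOf_pos g).ne') (fun _ => 1) (by rw [hg, Matrix.one_mulVec])
  have := congrFun h1 ⟨0, hm⟩
  exact one_ne_zero this

theorem eq_of_order_three {x y : G} (hx : orderOf x = 3) (hy : orderOf y = 3) (hxy : orderOf (x * y) = 3) :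
    x = y := by
  have := Fintype.ofFinite G
  apply ex_injective ρ h hm ℂ
  have h1 : ∀ v : Fin m → ℂ, ex ρ ℂ x *ᵥ v = ex ρ ℂ y *ᵥ v := by
    intro v
    have key := pos_key ρ h hx hy v
    have e : v + ex ρ ℂ (x * y) *ᵥ v + ex ρ ℂ (x * y)⁻¹ *ᵥ v = 0 := by
      rw [inv_of_order3 ρ h ℂ hxy, Matrix.sub_mulVec, Matrix.neg_mulVec, Matrix.one_mulVec]
      abel
    rw [e] at key
    have e0 : B ρ v 0 = 0 := by
      have := B_smul_right ρ 0 v 0
      simpa using this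
    rw [e0] at key
    obtain ⟨r, _, hr, hr1⟩ := B_self ρ (ex ρ ℂ x *ᵥ v - ex ρ ℂ y *ᵥ v)
    rw [key] at hr
    exact sub_eq_zero.mp (hr1 (by exact_mod_cast hr.symm))
  ext i j
  have := congrFun (h1 (Pi.single j 1)) i
  simpa using this

theorem order_cases {x y : G} (hx : orderOf x = 3) (hy : orderOf y = 3) :
    y = x⁻¹ ∨ y = x ∨ orderOf (x * y) = 4 ∨ orderOf (x * y) = 6 ∨ orderOf (x * y) = 10 := by
  have := Fintype.ofFinite G
  rcases order_le (orderOf_pos (x * y)) (fun ζ hζ => re_bound ρ h hm hx hy ζ hζ) with e | e | e | e | e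
  · left
    rw [orderOf_eq_one_iff] at e
    exact (inv_eq_of_mul_eq_one_right e).symm
  · right; left
    exact (eq_of_order_three ρ h hm hx hy e).symm
  · exact Or.inr (Or.inr (Or.inl e))
  · exact Or.inr (Or.inr (Or.inr (Or.inl e)))
  · exact Or.inr (Or.inr (Or.inr (Or.inr e)))

theorem S_eq (K : Type*) [CommRing K] {x y : G} (hx : orderOf x = 3) (hy : orderOf y = 3) :
    H74.Ico.S (ex ρ K x) (ex ρ K y) = ex ρ K (x * y) + ex ρ K (x * y)⁻¹ := by
  rw [_root_.mul_inv_rev, map_mul, map_mul, inv_of_order3 ρ h K hx, inv_of_order3 ρ h K hy]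
  unfold H74.Ico.S
  noncomm_ring

theorem sys : H74.Ico.Sys (ex ρ ℚ '' {x | orderOf x = 3}) where
  om := by
    rintro _ ⟨x, hx, rfl⟩
    exact sq_of_order3 ρ h ℚ hx
  inv := by
    rintro _ ⟨x, hx, rfl⟩
    refine ⟨x⁻¹, by simpa using hx, ?_⟩
    exact inv_of_order3 ρ h ℚ hx
  conj := by
    rintro _ ⟨x, hx, rfl⟩ _ ⟨y, hy, rfl⟩
    refine ⟨x * y * x⁻¹, ?_, ?_⟩
    · have : orderOf (MulAut.conj x y) = orderOf y := (MulAut.conj x).orderOf_eq y
      rw [MulAut.conj_apply] at this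
      exact this.trans hy
    · rw [map_mul, map_mul, inv_of_order3 ρ h ℚ hx]
  pair := by
    rintro _ ⟨x, hx, rfl⟩ _ ⟨y, hy, rfl⟩
    rw [S_eq ρ h hm ℚ hx hy]
    have tpow : ∀ k : ℕ, ex ρ ℚ (x * y) ^ k = ex ρ ℚ ((x * y) ^ k) := fun k => (map_pow _ _ _).symm
    have tinv : ∀ n : ℕ, orderOf (x * y) = n + 1 → ex ρ ℚ (x * y)⁻¹ = ex ρ ℚ (x * y) ^ n := by
      intro n hn
      rw [tpow]
      congr 1
      rw [inv_eq_iff_mul_eq_one, ← pow_succ', ← hn, pow_orderOf_eq_one]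
    rcases order_cases ρ h hm hx hy with e | e | e | e | e
    · right; left
      rw [e]; exact inv_of_order3 ρ h ℚ hx
    · left; rw [e]
    · right; right; left
      have h2 : ex ρ ℚ (x * y) ^ 2 = -1 := by
        rw [tpow]
        apply order_two ρ h
        rw [orderOf_pow, e]; norm_num
      rw [tinv 3 e]
      calc ex ρ ℚ (x * y) + ex ρ ℚ (x * y) ^ 3 = ex ρ ℚ (x * y) + ex ρ ℚ (x * y) * ex ρ ℚ (x * y) ^ 2 := by rw [← pow_succ']
        _ = 0 := by rw [h2]; noncomm_ring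
    · right; right; right; left
      have h2 : ex ρ ℚ (x * y) ^ 3 = -1 := by
        rw [tpow]
        apply order_two ρ h
        rw [orderOf_pow, e]; norm_num
      have h3 : ex ρ ℚ ((x * y) ^ 2) * ex ρ ℚ ((x * y) ^ 2) = -1 - ex ρ ℚ ((x * y) ^ 2) := by
        apply sq_of_order3 ρ h ℚ
        rw [orderOf_pow, e]; norm_num
      rw [← tpow] at h3
      rw [tinv 5 e]
      generalize ex ρ ℚ (x * y) = t at *
      have e4 : t ^ 2 * t ^ 2 = t ^ 3 * t := by rw [← pow_add, ← pow_succ]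
      have e5 : t ^ 5 = t ^ 3 * t ^ 2 := by rw [← pow_add]
      rw [e4, h2] at h3
      rw [e5, h2]
      linear_combination (norm := noncomm_ring) -h3
    · right; right; right; right
      have h2 : ex ρ ℚ (x * y) ^ 5 = -1 := by
        rw [tpow]
        apply order_two ρ h
        rw [orderOf_pow, e]; norm_num
      have h3 : orderOf ((x * y) ^ 2) = 5 := by rw [orderOf_pow, e]; norm_num
      have h4 := ex_norm ρ ℚ h ((x * y) ^ 2) (by
        intro hh; rw [hh, orderOf_one] at h3; norm_num at h3)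
      rw [h3] at h4
      simp only [Finset.sum_range_succ, Finset.sum_range_zero, zero_add, ← tpow, ← pow_mul] at h4
      rw [tinv 9 e]
      simp only [mul_zero, mul_one, pow_zero, Nat.reduceMul] at h4
      generalize ex ρ ℚ (x * y) = t at *
      have e6 : t ^ 6 = - t := by
        calc t ^ 6 = t ^ 5 * t := by rw [← pow_succ]
          _ = _ := by rw [h2]; noncomm_ring
      have e8 : t ^ 8 = - t ^ 3 := by
        calc t ^ 8 = t ^ 5 * t ^ 3 := by rw [← pow_add]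
          _ = _ := by rw [h2]; noncomm_ring
      have e9 : t ^ 9 = - t ^ 4 := by
        calc t ^ 9 = t ^ 5 * t ^ 4 := by rw [← pow_add]
          _ = _ := by rw [h2]; noncomm_ring
      have e10 : t * t ^ 4 = -1 := by rw [← pow_succ', h2]
      have e10' : t ^ 4 * t = -1 := by rw [← pow_succ, h2]
      have e11 : t ^ 4 * t ^ 4 = - t ^ 3 := by rw [← pow_add, e8]
      have e12 : t * t = t ^ 2 := (sq t).symm
      rw [e6, e8] at h4
      rw [e9]
      linear_combination (norm := skip) h4 + e12 - e10 - e10' + e11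
      simp only [mul_add, add_mul, mul_neg, neg_mul]
      abel

end

end H74.FpfRep
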