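import Cfsg.Agent.Lib.H74.FpfMod
import Cfsg.Agent.S0035
import Cfsg.Agent.Lib.H1.Frob
set_option autoImplicit false
open Matrix Cfsg

namespace H74.FrobC

/-- `G` occurs as a Frobenius complement -/
def IsFC (G : Type*) [Group G] : Prop :=
  ∃ (L : Type) (_ : Group L) (_ : Finite L) (H : Subgroup L), Cfsg.IsFrobeniusComplement H ∧ Nonempty (G ≃* H)

theorem fpf_of_FC {G : Type*} [Group G] (h : IsFC G) :
    ∃ (K : Type) (_ : Group K) (_ : Finite K) (_ : Nontrivial K) (φ : G →* MulAut K),
      ∀ g : G, g ≠ 1 → ∀ k : K, φ g k = k → k = 1 := by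
  obtain ⟨L, _, _, H, hH, ⟨e⟩⟩ := h
  obtain ⟨N, hN, hNn, hc⟩ := Cfsg.Agent.S0035.result H hH
  have hNbot : N ≠ ⊥ := by
    rintro rfl
    apply hH.2.1
    have := hc.symm
    rw [Subgroup.isComplement'_bot_right] at this
    exact this
  have h1 := (H1.Frob.isFrobeniusComplement_iff N H hc hNbot hH.1).mp hH
  refine ⟨N, inferInstance, inferInstance, (Subgroup.nontrivial_iff_ne_bot N).mpr hNbot,
    (MulAut.conjNormal.comp H.subtype).comp e.toMonoidHom, ?_⟩
  intro g hg k hk
  have h2 := h1 (e g) (e g).2 (by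
    intro h3
    apply hg
    apply e.injective
    rw [map_one]; exact Subtype.ext h3)
  have h3 : (k : L) ∈ N ⊓ Subgroup.centralizer {((e g : H) : L)} := by
    refine Subgroup.mem_inf.mpr ⟨k.2, ?_⟩
    rw [Subgroup.mem_centralizer_singleton_iff]
    have := congrArg Subtype.val hk
    simp only [MonoidHom.comp_apply, MulEquiv.coe_toMonoidHom, Subgroup.subtype_apply, MulAut.conjNormal_apply] at this
    rw [mul_inv_eq_iff_eq_mul] at this
    exact this.symm
  rw [h2] at h3
  exact Subtype.ext h3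

theorem FC_of_matrix {G : Type*} [Group G] [Finite G] [Nontrivial G] {F : Type} [Field F] [Finite F] {n : ℕ} (hn : 0 < n)
    (ρ : G →* Matrix (Fin n) (Fin n) F) (hρ : ∀ g : G, g ≠ 1 → ∀ v : Fin n → F, ρ g *ᵥ v = v → v = 0) : IsFC G := by
  have : NeZero n := ⟨hn.ne'⟩
  let ρu : G →* (Matrix (Fin n) (Fin n) F)ˣ := ρ.toHomUnits
  have hρu : ∀ g, ((ρu g : (Matrix (Fin n) (Fin n) F)ˣ) : Matrix (Fin n) (Fin n) F) = ρ g := fun g => rfl
  have hinj : Function.Injective ρu := by
    rw [injective_iff_map_eq_one]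
    intro g hg
    by_contra hne
    have h1 := hρ g hne (fun _ => 1) (by rw [← hρu, hg, Units.val_one, Matrix.one_mulVec])
    have := congrFun h1 ⟨0, hn⟩
    exact one_ne_zero this
  let Q : Subgroup (Matrix (Fin n) (Fin n) F)ˣ := ρu.range
  let e : G ≃* Q := ρu.ofInjective hinj
  let V := Multiplicative (Fin n → F)
  let act : (Matrix (Fin n) (Fin n) F)ˣ → MulAut V := fun u =>
    { toFun := fun v => Multiplicative.ofAdd ((u : Matrix (Fin n) (Fin n) F) *ᵥ v.toAdd)
      invFun := fun v => Multiplicative.ofAdd (((u⁻¹ : (Matrix (Fin n) (Fin n) F)ˣ) : Matrix (Fin n) (Fin n) F) *ᵥ v.toAdd)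
      left_inv := by
        intro v
        simp [Matrix.mulVec_mulVec]
      right_inv := by
        intro v
        simp [Matrix.mulVec_mulVec]
      map_mul' := fun v w => congrArg Multiplicative.ofAdd (Matrix.mulVec_add (u : Matrix (Fin n) (Fin n) F) v.toAdd w.toAdd) }
  let ψ : (Matrix (Fin n) (Fin n) F)ˣ →* MulAut V :=
    { toFun := act
      map_one' := MulEquiv.ext fun v => congrArg Multiplicative.ofAdd (Matrix.one_mulVec v.toAdd)
      map_mul' := fun u u' => MulEquiv.ext fun v =>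
        congrArg Multiplicative.ofAdd (Matrix.mulVec_mulVec v.toAdd (u : Matrix (Fin n) (Fin n) F) u').symm }
  let φ : Q →* MulAut V := ψ.comp Q.subtype
  have : Finite (Matrix (Fin n) (Fin n) F)ˣ := inferInstance
  let L := V ⋊[φ] Q
  have hfinL : Finite L := Finite.of_equiv _ SemidirectProduct.equivProd.symm
  let N : Subgroup L := (SemidirectProduct.inl : V →* L).range
  let H : Subgroup L := (SemidirectProduct.inr : Q →* L).range
  have hNn : N.Normal := by
    have : N = (SemidirectProduct.rightHom : L →* Q).ker := SemidirectProduct.range_inl_eq_ker_rightHom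
    rw [this]; infer_instance
  have hNmem : ∀ x : L, x ∈ N ↔ x.right = 1 := by
    intro x
    have : N = (SemidirectProduct.rightHom : L →* Q).ker := SemidirectProduct.range_inl_eq_ker_rightHom
    rw [this]; rfl
  have hHmem : ∀ x : L, x ∈ H ↔ x.left = 1 := by
    intro x
    constructor
    · rintro ⟨q, rfl⟩; rfl
    · intro h
      exact ⟨x.right, SemidirectProduct.ext h.symm rfl⟩
  have hc : Subgroup.IsComplement' N H := by
    apply Subgroup.isComplement'_of_disjoint_and_mul_eq_univ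
    · rw [Subgroup.disjoint_def]
      intro x hx hx'
      exact SemidirectProduct.ext ((hHmem x).mp hx') ((hNmem x).mp hx)
    · rw [Set.eq_univ_iff_forall]
      intro x
      exact ⟨SemidirectProduct.inl x.left, ⟨_, rfl⟩, SemidirectProduct.inr x.right, ⟨_, rfl⟩,
        SemidirectProduct.inl_left_mul_inr_right x⟩
  have hNbot : N ≠ ⊥ := by
    intro h
    have h1 : (SemidirectProduct.inl (Multiplicative.ofAdd (fun _ => 1)) : L) ∈ N := ⟨_, rfl⟩
    rw [h, Subgroup.mem_bot] at h1
    have h2 := congrArg SemidirectProduct.left h1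
    have h3 := congrFun (congrArg Multiplicative.toAdd h2) ⟨0, hn⟩
    exact one_ne_zero (α := F) h3
  have hHbot : H ≠ ⊥ := by
    intro h
    obtain ⟨g, hg⟩ := exists_ne (1 : G)
    apply hg
    have h1 : (SemidirectProduct.inr (e g) : L) ∈ H := ⟨_, rfl⟩
    rw [h, Subgroup.mem_bot] at h1
    have h2 : e g = 1 := congrArg SemidirectProduct.right h1
    exact (map_eq_one_iff e e.injective).mp h2
  refine ⟨L, inferInstance, hfinL, H, ?_, ⟨e.trans (MonoidHom.ofInjective SemidirectProduct.inr_injective)⟩⟩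
  rw [H1.Frob.isFrobeniusComplement_iff N H hc hNbot hHbot]
  intro h hh hh1
  rw [eq_bot_iff]
  intro x hx
  obtain ⟨hx1, hx2⟩ := Subgroup.mem_inf.mp hx
  rw [Subgroup.mem_centralizer_singleton_iff] at hx2
  have hr := (hNmem x).mp hx1
  have hl := (hHmem h).mp hh
  have h2 : x.left = φ h.right x.left := by
    have := congrArg SemidirectProduct.left hx2
    rw [SemidirectProduct.mul_left, SemidirectProduct.mul_left, hl, hr, map_one, one_mul] at this
    simpa using this
  obtain ⟨g, hg⟩ := e.surjective h.right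
  have hg1 : g ≠ 1 := by
    rintro rfl
    rw [map_one] at hg
    exact hh1 (SemidirectProduct.ext hl hg.symm)
  have h3 : ρ g *ᵥ (x.left).toAdd = (x.left).toAdd := by
    have : (φ h.right x.left).toAdd = ρ g *ᵥ (x.left).toAdd := by
      rw [← hg]; rfl
    rw [← this, ← h2]
  have h4 := hρ g hg1 _ h3
  rw [Subgroup.mem_bot]
  exact SemidirectProduct.ext (congrArg Multiplicative.ofAdd h4) hr


theorem FC_of_fpf {K G : Type*} [Group K] [Finite K] [Nontrivial K] [Group G] [Finite G] [Nontrivial G]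
    (φ : G →* MulAut K) (h : ∀ g : G, g ≠ 1 → ∀ k : K, φ g k = k → k = 1) : IsFC G := by
  obtain ⟨r, _, n, ρ, -, hn, hρ⟩ := H74.FpfMod.exists_modular φ h
  exact FC_of_matrix hn ρ hρ

theorem exists_int_of_FC {G : Type*} [Group G] [Finite G] (h : IsFC G) :
    ∃ (m : ℕ) (ρ : G →* Matrix (Fin m) (Fin m) ℤ), 0 < m ∧ H74.FpfRep.IntFpf ρ := by
  obtain ⟨K, _, _, _, φ, hφ⟩ := fpf_of_FC h
  exact H74.FpfMod.exists_int φ hφ

theorem IsFC.nontrivial {G : Type*} [Group G] (h : IsFC G) : Nontrivial G := by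
  obtain ⟨L, _, _, H, hH, ⟨e⟩⟩ := h
  have : Nontrivial H := (Subgroup.nontrivial_iff_ne_bot H).mpr hH.1
  exact e.toEquiv.nontrivial

/-- an integral norm-zero representation gives a fixed-point-free one over every field in which `|G|` is invertible -/
theorem FC_of_int {G : Type*} [Group G] [Finite G] [Nontrivial G] {m : ℕ} (hm : 0 < m)
    (ρ : G →* Matrix (Fin m) (Fin m) ℤ) (h : H74.FpfRep.IntFpf ρ) : IsFC G := by
  obtain ⟨p, hp, hpr⟩ := Nat.exists_infinite_primes (Nat.card G + 1)
  have : Fact p.Prime := ⟨hpr⟩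
  apply FC_of_matrix hm (H74.FpfRep.ex ρ (ZMod p))
  intro g hg
  apply H74.FpfRep.ex_fpf ρ (ZMod p) h g hg
  rw [Ne, ZMod.natCast_eq_zero_iff]
  intro hdvd
  have h1 := Nat.le_of_dvd Nat.card_pos (hdvd.trans (orderOf_dvd_natCard g))
  omega

theorem FC_iff_int {G : Type*} [Group G] [Finite G] [Nontrivial G] : IsFC G ↔
    ∃ (m : ℕ) (ρ : G →* Matrix (Fin m) (Fin m) ℤ), 0 < m ∧ H74.FpfRep.IntFpf ρ :=
  ⟨exists_int_of_FC, fun ⟨_, ρ, hm, h⟩ => FC_of_int hm ρ h⟩

/-- transport along isomorphisms and to subgroups -/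
theorem IsFC.of_injective {G H : Type*} [Group G] [Finite G] [Group H] [Nontrivial H] (h : IsFC G) (f : H →* G)
    (hf : Function.Injective f) : IsFC H := by
  have : Finite H := Finite.of_injective f hf
  obtain ⟨K, _, _, _, φ, hφ⟩ := fpf_of_FC h
  apply FC_of_fpf (φ.comp f)
  intro g hg k hk
  exact hφ (f g) (fun h => hg (hf (by rw [h, map_one]))) k hk

end H74.FrobC
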