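import Cfsg.Agent.Lib.H4.GWIface

set_option autoImplicit false

/-!
T-GW4, D2 (gamma): the structure of `U_t` used by [GOOD].
`F = F(U_t)`, `T = T₀ = Z(U_t)` cyclic, `A / T ≅ U_t / F` cyclic of order `k ≤ (p+1)/2`.
-/

namespace H74.GW

open Cfsg Subgroup H4.GW

universe u

variable {G : Type u} [Group G]

/-- the (gamma) structure: input of [GOOD] -/
structure Gam (V A T F : Subgroup G) (t s : G) (p : ℕ) : Prop where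
  tV : t ∈ V
  t1 : t ≠ 1
  sV : s ∈ V
  s1 : s ≠ 1
  st : s ≠ t
  pp : p.Prime
  p2 : p ≠ 2
  TA : T ≤ A
  TF : T ≤ F
  AU : A ≤ U t
  FU : F ≤ U t
  Fn : Ce t ≤ normalizer (F : Set G)
  AF : A ⊓ F ≤ T
  /-- the primes of `F(U_t)` divide `|Z(U_t)|` -/
  Fpr : ∀ r : ℕ, r.Prime → r ∣ Nat.card F → r ∣ Nat.card T
  pT : p ∣ Nat.card T
  Tcyc : IsCyclic T
  Tcen : ∀ z ∈ T, ∀ u ∈ U t, u * z = z * u
  inv : ∀ a ∈ A, Inv s a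
  cent : ∀ g ∈ A, g ∉ T → ∀ u ∈ U t, u * g = g * u → u ∈ A
  conj : ∀ g ∈ U t, g ∉ F → ∃ u ∈ U t, u * g * u⁻¹ ∈ A
  /-- `U_t / F` is cyclic, generated by an element of `A` -/
  cyc : ∃ a₀ ∈ A, ∀ g ∈ U t, ∃ n : ℕ, g * a₀ ^ n ∈ F
  k : 2 * F.relIndex (U t) ≤ p + 1
  /-- `N(B) = C(t)` for `1 ≠ B ≤ T` (from maximality of `C(t)`) -/
  nT : ∀ B ≤ T, B ≠ ⊥ → normalizer (B : Set G) ≤ Ce t

end H74.GW
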