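import Cfsg.Agent.Lib.H69.IC0
import Cfsg.Agent.Lib.H27.LBalTwo

/-! S1315, piece P3: lifting 2-components of centralizers modulo the core. -/

set_option autoImplicit false
set_option linter.unusedSectionVars false
set_option linter.style.haveILetI false

open Subgroup Cfsg H26.Basic H26.LocalFitting H26.OPPrime H26.PComponents H1.Coprime H1.Coprime2
open H37.PCOf H69.IC

universe u

namespace H74.IcP3

/-- quasisimplicity modulo the core passes up through a surjection with odd kernel -/
theorem quot_up {A B : Type u} [Group A] [Finite A] [Group B] [Finite B] (f : A →* B)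
    (hf : Function.Surjective f) (hk : (Nat.card f.ker).Coprime 2)
    (h : IsQuasisimple (B ⧸ pPrimeCore 2 B)) : IsQuasisimple (A ⧸ pPrimeCore 2 A) := by
  have hcomap : (pPrimeCore 2 B).comap f = pPrimeCore 2 A := by
    apply le_antisymm
    · apply H1.Cores.le_pPrimeCore
      · infer_instance
      · rw [Nat.coprime_comm, Nat.Prime.coprime_iff_not_dvd Nat.prime_two]
        intro h2
        haveI : Fact (Nat.Prime 2) := ⟨Nat.prime_two⟩
        obtain ⟨x, hx⟩ := exists_prime_orderOf_dvd_card' (G := ↥((pPrimeCore 2 B).comap f)) 2 h2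
        have hx2 : (x : A) ^ 2 = 1 := by
          have := pow_orderOf_eq_one x
          rw [hx] at this
          exact congrArg Subtype.val this
        have hfx : f (x : A) = 1 := by
          have h3 : orderOf (⟨f (x : A), x.2⟩ : ↥(pPrimeCore 2 B)) ∣ 2 := by
            apply orderOf_dvd_of_pow_eq_one
            apply Subtype.ext
            show f (x : A) ^ 2 = 1
            rw [← map_pow, hx2, map_one]
          have h4 := orderOf_dvd_natCard (⟨f (x : A), x.2⟩ : ↥(pPrimeCore 2 B))
          have h5 := Nat.eq_one_of_dvd_coprimes (H1.Cores.coprime_card_pPrimeCore (G := B) 2) h4 h3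
          exact congrArg Subtype.val (orderOf_eq_one_iff.1 h5)
        have h3 : orderOf (⟨(x : A), hfx⟩ : ↥f.ker) ∣ 2 := by
          apply orderOf_dvd_of_pow_eq_one
          exact Subtype.ext hx2
        have h4 := orderOf_dvd_natCard (⟨(x : A), hfx⟩ : ↥f.ker)
        have h5 := Nat.eq_one_of_dvd_coprimes hk h4 h3
        have h6 : (x : A) = 1 := congrArg Subtype.val (orderOf_eq_one_iff.1 h5)
        have h7 : x = 1 := Subtype.ext h6
        rw [h7, orderOf_one] at hx
        norm_num at hx
    · rw [← map_le_iff_le_comap]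
      apply H1.Cores.le_pPrimeCore
      · exact Subgroup.Normal.map inferInstance _ hf
      · exact Nat.Coprime.coprime_dvd_left (Subgroup.card_map_dvd _ _) (H1.Cores.coprime_card_pPrimeCore 2)
  let F : A →* B ⧸ pPrimeCore 2 B := (QuotientGroup.mk' (pPrimeCore 2 B)).comp f
  have hF : Function.Surjective F := (QuotientGroup.mk'_surjective _).comp hf
  have hker : F.ker = pPrimeCore 2 A := by
    rw [← hcomap, ← MonoidHom.comap_ker, QuotientGroup.ker_mk']
  have e : (A ⧸ pPrimeCore 2 A) ≃* (B ⧸ pPrimeCore 2 B) :=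
    (QuotientGroup.quotientMulEquivOfEq hker.symm).trans (QuotientGroup.quotientKerEquivOfSurjective F hF)
  exact H26.Quasisimple.of_mulEquiv e.symm h

variable {G : Type u} [Group G] [Finite G]

theorem lift {t : G} (ht : t * t = 1) {D : Subgroup (G ⧸ pPrimeCore 2 G)}
    (hD : IsPComponentOf 2 D (centralizer ({(QuotientGroup.mk' (pPrimeCore 2 G)) t} : Set _))) :
    ∃ E : Subgroup G, IsPComponentOf 2 E (centralizer ({t} : Set G)) ∧
      E.map (QuotientGroup.mk' (pPrimeCore 2 G)) = D := by
  haveI : Fact (Nat.Prime 2) := ⟨Nat.prime_two⟩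
  set O := pPrimeCore 2 G with hO
  set π := QuotientGroup.mk' O with hπ
  set Y := centralizer ({t} : Set G) with hYdef
  have hOc : (Nat.card O).Coprime 2 := H1.Cores.coprime_card_pPrimeCore 2
  -- the centralizer of the image
  have hT : IsPGroup 2 (zpowers t) := by
    rintro ⟨_, n, rfl⟩
    refine ⟨1, Subtype.ext ?_⟩
    show (t ^ n) ^ (2 ^ 1) = 1
    rw [pow_one, ← zpow_natCast, ← _root_.zpow_mul, mul_comm, _root_.zpow_mul, zpow_natCast, pow_two, ht, one_zpow]
  have hcz : ∀ {H : Type u} [Group H] (x : H), centralizer ((zpowers x : Subgroup H) : Set H) = centralizer ({x} : Set H) := by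
    intro H _ x
    rw [zpowers_eq_closure, centralizer_closure]
  have hYb : centralizer ({π t} : Set (G ⧸ O)) = Y.map π := by
    have h1 := map_inf_centralizer (zpowers t) ⊤ O (by rw [Subgroup.normalizer_eq_top]; exact le_top)
      (H1.Cores.coprime_card_of_isPGroup hT hOc) (Or.inl (by
        have := hT.isNilpotent
        infer_instance)) le_top
    rw [Subgroup.map_top_of_surjective _ (QuotientGroup.mk'_surjective O), top_inf_eq,
      top_inf_eq, MonoidHom.map_zpowers, hcz, hcz] at h1
    exact h1
  rw [hYb] at hD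
  obtain ⟨hSN, hQS⟩ := pcOf_iff.1 hD
  set E0 := D.comap π ⊓ Y with hE0
  have hE0map : E0.map π = D := by
    apply le_antisymm
    · exact (map_mono inf_le_left).trans (map_comap_le _ _)
    · intro d hd
      obtain ⟨y, hy, rfl⟩ := hSN.1 hd
      exact ⟨y, ⟨hd, hy⟩, rfl⟩
  have hSN0 : SN E0 Y := by
    refine ⟨inf_le_right, ?_⟩
    have h1 : ((D.subgroupOf (Y.map π)).comap (π.subgroupMap Y)).IsSubnormal := hSN.2.comap _
    have h2 : (D.subgroupOf (Y.map π)).comap (π.subgroupMap Y) = E0.subgroupOf Y := by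
      ext x
      constructor
      · intro hx
        exact ⟨hx, x.2⟩
      · intro hx
        exact hx.1
    rwa [h2] at h1
  have hSNE : SN (opp 2 E0) Y := (SN.of_normal (opp_le 2 E0) (le_normalizer_opp 2 E0)).trans hSN0
  have hEmap : (opp 2 E0).map π = D := by
    rw [map_opp, hE0map, hQS.2]
  refine ⟨opp 2 E0, pcOf_iff.2 ⟨hSNE, ?_, opp_opp 2 E0⟩, hEmap⟩
  have hq : IsQuasisimple (↥((opp 2 E0).map π) ⧸ pPrimeCore 2 ↥((opp 2 E0).map π)) := by
    rw [hEmap]; exact hQS.1
  refine quot_up (π.subgroupMap (opp 2 E0)) (π.subgroupMap_surjective _) ?_ hq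
  have h1 : ∀ x : (π.subgroupMap (opp 2 E0)).ker, ((x : ↥(opp 2 E0)) : G) ∈ O := by
    intro x
    have h2 : π ((x : ↥(opp 2 E0)) : G) = 1 := congrArg Subtype.val x.2
    exact (QuotientGroup.eq_one_iff _).1 h2
  let j : (π.subgroupMap (opp 2 E0)).ker →* O :=
    { toFun := fun x => ⟨((x : ↥(opp 2 E0)) : G), h1 x⟩
      map_one' := rfl
      map_mul' := fun _ _ => rfl }
  have hj : Function.Injective j := by
    intro x y hxy
    have h2 : ((x : ↥(opp 2 E0)) : G) = ((y : ↥(opp 2 E0)) : G) := congrArg (fun z : O => (z : G)) hxy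
    exact Subtype.ext (Subtype.ext h2)
  exact Nat.Coprime.coprime_dvd_left (Subgroup.card_dvd_of_injective j hj) hOc

end H74.IcP3
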