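import Mathlib
set_option autoImplicit false
set_option linter.unusedSimpArgs false
set_option linter.unusedVariables false
set_option linter.unusedSectionVars false
/-!
Rings generated by elements of order three acting fixed point freely: the configuration of the
elements of order three in a finite fixed-point-free linear group (Zassenhaus).
-/

namespace H74.Ico
variable {A : Type*} [Ring A]

theorem assoc_of {a b : A} {c : A} (h : a * b = c) (x : A) : a * (b * x) = c * x := by
  rw [← mul_assoc, h]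

structure Frame (i j : A) : Prop where
  hi : i * i = -1
  hj : j * j = -1
  hji : j * i = -(i * j)

/-- `a` commutes with the frame -/
structure Cm (i j a : A) : Prop where
  ci : a * i = i * a
  cj : a * j = j * a

theorem Cm.zero (i j : A) : Cm i j 0 := ⟨by simp, by simp⟩
theorem Cm.one (i j : A) : Cm i j 1 := ⟨by simp, by simp⟩
theorem Cm.neg {i j a : A} (h : Cm i j a) : Cm i j (-a) := ⟨by simp [h.ci], by simp [h.cj]⟩
theorem Cm.add {i j a b : A} (h : Cm i j a) (h' : Cm i j b) : Cm i j (a + b) :=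
  ⟨by simp [add_mul, mul_add, h.ci, h'.ci], by simp [add_mul, mul_add, h.cj, h'.cj]⟩
theorem Cm.sub {i j a b : A} (h : Cm i j a) (h' : Cm i j b) : Cm i j (a - b) := by
  rw [sub_eq_add_neg]; exact h.add h'.neg
theorem Cm.mul {i j a b : A} (h : Cm i j a) (h' : Cm i j b) : Cm i j (a * b) :=
  ⟨by rw [mul_assoc, h'.ci, ← mul_assoc, h.ci, mul_assoc],
   by rw [mul_assoc, h'.cj, ← mul_assoc, h.cj, mul_assoc]⟩
theorem Cm.natCast (i j : A) (n : ℕ) : Cm i j (n : A) := 
  ⟨(Nat.cast_commute n i).eq, (Nat.cast_commute n j).eq⟩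

section tors
variable [Algebra ℚ A]

theorem two_tors {a : A} (h : a + a = 0) : a = 0 := by
  have h2 : (2 : ℚ) • a = 0 := by rw [two_smul, h]
  exact (smul_eq_zero.mp h2).resolve_left (by norm_num)

theorem nat_tors (n : ℕ) (hn : n ≠ 0) {a : A} (h : (n : A) * a = 0) : a = 0 := by
  have h2 : (n : ℚ) • a = 0 := by
    rw [← h, Algebra.smul_def]; simp
  exact (smul_eq_zero.mp h2).resolve_left (by exact_mod_cast hn)

end tors

namespace Frame
variable {i j : A} (F : Frame i j)
include F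

theorem conj_i {a0 a1 a2 a3 : A} (h0 : Cm i j a0) (h1 : Cm i j a1) (h2 : Cm i j a2) (h3 : Cm i j a3) :
    i * (a0 + i * a1 + j * a2 + i * (j * a3)) * i = -a0 - i * a1 + j * a2 + i * (j * a3) := by
  have hi := F.hi
  have hji := F.hji
  have hii := assoc_of hi
  have hjii := assoc_of hji
  simp only [mul_add, add_mul, mul_assoc, h0.ci, h1.ci, h2.ci, h3.ci, hi, hji, hii, hjii, mul_neg,
    neg_mul, one_mul, mul_one]
  abel

theorem conj_j {a0 a1 a2 a3 : A} (h0 : Cm i j a0) (h1 : Cm i j a1) (h2 : Cm i j a2) (h3 : Cm i j a3) :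
    j * (a0 + i * a1 + j * a2 + i * (j * a3)) * j = -a0 + i * a1 - j * a2 + i * (j * a3) := by
  have hj := F.hj
  have hji := F.hji
  have hjj := assoc_of hj
  have hjii := assoc_of hji
  simp only [mul_add, add_mul, mul_assoc, h0.cj, h1.cj, h2.cj, h3.cj, hj, hji, hjj, hjii, mul_neg,
    neg_mul, one_mul, mul_one]
  abel

theorem i_cancel {a : A} (h : i * a = 0) : a = 0 := by
  have : i * (i * a) = -a := by rw [← mul_assoc, F.hi]; noncomm_ring
  rw [h, mul_zero] at this
  exact neg_eq_zero.mp this.symm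

theorem j_cancel {a : A} (h : j * a = 0) : a = 0 := by
  have : j * (j * a) = -a := by rw [← mul_assoc, F.hj]; noncomm_ring
  rw [h, mul_zero] at this
  exact neg_eq_zero.mp this.symm

variable [Algebra ℚ A]

theorem indep2 {a0 a1 : A} (h0 : Cm i j a0) (h1 : Cm i j a1)
    (h : a0 + i * a1 = 0) : a0 = 0 ∧ a1 = 0 := by
  have e2 := F.conj_j h0 h1 (Cm.zero i j) (Cm.zero i j)
  have e3 : a0 = 0 := two_tors (by
    have : j * (a0 + i * a1) * j = 0 := by rw [h]; simp
    linear_combination (norm := noncomm_ring) h - this + e2)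
  refine ⟨e3, F.i_cancel ?_⟩
  rw [← h, e3, zero_add]

theorem indep {a0 a1 a2 a3 : A} (h0 : Cm i j a0) (h1 : Cm i j a1) (h2 : Cm i j a2) (h3 : Cm i j a3)
    (h : a0 + i * a1 + j * a2 + i * (j * a3) = 0) : a0 = 0 ∧ a1 = 0 ∧ a2 = 0 ∧ a3 = 0 := by
  have e1 := F.conj_i h0 h1 h2 h3
  rw [h, mul_zero, zero_mul] at e1
  have e3 : a0 + i * a1 = 0 := two_tors (by linear_combination (norm := noncomm_ring) h + e1)
  have e4 : j * a2 + i * (j * a3) = 0 := two_tors (by linear_combination (norm := noncomm_ring) h - e1)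
  obtain ⟨r0, r1⟩ := F.indep2 h0 h1 e3
  have e5 : j * (a2 - i * a3) = 0 := by
    rw [← e4]; linear_combination (norm := noncomm_ring) -F.hji * a3
  have e6 := F.j_cancel e5
  obtain ⟨r2, r3⟩ := F.indep2 h2 h3.neg (by rw [← e6]; noncomm_ring)
  exact ⟨r0, r1, r2, neg_eq_zero.mp r3⟩

end Frame

def S (X Y : A) : A := X*Y + Y*X + X + Y + 1

theorem comm_left {X Y : A} (hX : X * X = -1 - X) : S X Y * X = X * S X Y := by
  unfold S; linear_combination (norm := noncomm_ring) Y * hX - hX * Y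
theorem comm_right {X Y : A} (hY : Y * Y = -1 - Y) : S X Y * Y = Y * S X Y := by
  unfold S; linear_combination (norm := noncomm_ring) X * hY - hY * X

theorem S_comm (X Y : A) : S X Y = S Y X := by unfold S; abel
theorem S_inv_right (X Y : A) : S X (-1 - Y) = 1 - S X Y := by
  unfold S; noncomm_ring
theorem S_inv_left (X Y : A) : S (-1 - X) Y = 1 - S X Y := by
  unfold S; noncomm_ring

/-- key commutation lemma -/
theorem cm_of [Algebra ℚ A] {i j a : A} (F : Frame i j) 
    (h1 : a * i = i * a) (h2 : a * (j + i * j) = (j + i * j) * a) : Cm i j a := by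
  refine ⟨h1, ?_⟩
  have hii := assoc_of F.hi
  have h3 : a * (i * j - j) = (i * j - j) * a := by
    have e1 : i * (j + i * j) = i * j - j := by
      rw [mul_add, hii]; noncomm_ring
    rw [← e1, ← mul_assoc, h1, mul_assoc, h2, ← mul_assoc]
  have h4 : (a * j - j * a) + (a * j - j * a) = 0 := by
    linear_combination (norm := noncomm_ring) h2 - h3
  exact sub_eq_zero.mp (two_tors h4)

/-- the two generators of a binary tetrahedral configuration -/
structure Pair (X Y : A) : Prop where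
  hX : X * X = -1 - X
  hY : Y * Y = -1 - Y
  hS : S X Y = 0

namespace Pair
variable {X Y : A} (h : Pair X Y)
include h

theorem yx : Y * X = -1 - X - Y - X * Y := by
  have := h.hS; unfold S at this
  linear_combination (norm := noncomm_ring) this

theorem xyx : X * Y * X = Y + 1 := by
  have := h.hS; unfold S at this
  linear_combination (norm := noncomm_ring) X * this - h.hX * Y - h.hX

theorem yxy : Y * X * Y = X + 1 := by
  have := h.hS; unfold S at this
  linear_combination (norm := noncomm_ring) this * Y - X * h.hY - h.hY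

theorem ii : (-(X * Y)) * (-(X * Y)) = -1 := by
  have := h.xyx
  linear_combination (norm := noncomm_ring) this * Y + h.hY

theorem jj : (-(Y * X)) * (-(Y * X)) = -1 := by
  have := h.yxy
  linear_combination (norm := noncomm_ring) this * X + h.hX

theorem ij : (-(X * Y)) * (-(Y * X)) = X - Y := by
  linear_combination (norm := noncomm_ring) X * h.hY * X - h.hX - h.xyx

theorem ji : (-(Y * X)) * (-(X * Y)) = - (X - Y) := by
  linear_combination (norm := noncomm_ring) Y * h.hX * Y - h.hY - h.yxy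

theorem frame : Frame (-(X * Y)) (-(Y * X)) := ⟨h.ii, h.jj, by rw [h.ij, h.ji]⟩

end Pair

/-- X = (-1+i+j+k)/2, Y = (-1+i+j-k)/2 -/
structure PF (i j X Y : A) : Prop extends Frame i j where
  X1 : X + X + 1 = i + j + i * j
  Y1 : Y + Y + 1 = i + j - i * j
  XX : X * X = -1 - X
  YY : Y * Y = -1 - Y
  xy : X * Y = - i
  yx : Y * X = - j
  dif : X - Y = i * j

theorem Pair.pf {X Y : A} (h : Pair X Y) : PF (-(X * Y)) (-(Y * X)) X Y where
  toFrame := h.frame
  X1 := by rw [h.ij, h.yx]; noncomm_ring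
  Y1 := by rw [h.ij, h.yx]; noncomm_ring
  XX := h.hX
  YY := h.hY
  xy := by simp
  yx := by simp
  dif := h.ij.symm


theorem cm_of2 [Algebra ℚ A] {i j a : A} (F : Frame i j)
    (h1 : a * j = j * a) (h2 : a * (i + i * j) = (i + i * j) * a) : Cm i j a := by
  refine ⟨?_, h1⟩
  have hji := F.hji
  have hjj := F.hj
  have h3 : a * (i - i * j) = (i - i * j) * a := by
    have e1 : j * (i + i * j) = i - i * j := by
      rw [mul_add, hji, ← mul_assoc, hji]
      linear_combination (norm := noncomm_ring) -i * hjj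
    rw [← e1, ← mul_assoc, h1, mul_assoc, h2, ← mul_assoc]
  have h4 : (a * i - i * a) + (a * i - i * a) = 0 := by
    linear_combination (norm := noncomm_ring) h2 + h3
  exact sub_eq_zero.mp (two_tors h4)

theorem cm_of3 [Algebra ℚ A] {i j a : A} (F : Frame i j)
    (h1 : a * (i * j) = i * j * a) (h2 : a * (i + j) = (i + j) * a) : Cm i j a := by
  have hji := F.hji
  have hjj := F.hj
  have hii := F.hi
  have h3 : a * (j - i) = (j - i) * a := by
    have e1 : (i * j) * (i + j) = j - i := by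
      linear_combination (norm := noncomm_ring) i * hji - hii * j + i * hjj
    rw [← e1, ← mul_assoc, h1, mul_assoc, h2, ← mul_assoc]
  have h4 : (a * i - i * a) + (a * i - i * a) = 0 := by
    linear_combination (norm := noncomm_ring) h2 - h3
  have h5 : (a * j - j * a) + (a * j - j * a) = 0 := by
    linear_combination (norm := noncomm_ring) h2 + h3
  exact ⟨sub_eq_zero.mp (two_tors h4), sub_eq_zero.mp (two_tors h5)⟩

theorem sq_of_U [Algebra ℚ A] {V : A} (h : (V + V + 1) * (V + V + 1) = -(1+1+1)) : V * V = -1 - V := by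
  have h1 : (V * V + 1 + V) + (V * V + 1 + V) = 0 := two_tors (by
    linear_combination (norm := noncomm_ring) h)
  have h2 := two_tors h1
  linear_combination (norm := noncomm_ring) h2

namespace Frame
variable {i j : A} (F : Frame i j)
include F

theorem sq_form {a b c : A} (ha : Cm i j a) (hb : Cm i j b) (hc : Cm i j c) :
    (i * a + j * b + i * (j * c)) * (i * a + j * b + i * (j * c)) =
      -(a * a + b * b + c * c) + i * (b * c - c * b) + j * (c * a - a * c) + i * (j * (a * b - b * a)) := by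
  have hi := F.hi
  have hj := F.hj
  have hji := F.hji
  have hii := assoc_of hi
  have hjj := assoc_of hj
  have hjii := assoc_of hji
  have ha1 := assoc_of ha.ci
  have ha2 := assoc_of ha.cj
  have hb1 := assoc_of hb.ci
  have hb2 := assoc_of hb.cj
  have hc1 := assoc_of hc.ci
  have hc2 := assoc_of hc.cj
  simp only [mul_add, add_mul, mul_sub, sub_mul, mul_assoc, ha.ci, ha.cj, hb.ci, hb.cj, hc.ci, hc.cj, 
    ha1, ha2, hb1, hb2, hc1, hc2, hi, hj, hji, hii, hjj, hjii, mul_neg, neg_mul, neg_neg, one_mul, mul_one]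
  abel

theorem mul_form {a b c a' b' c' : A} (ha : Cm i j a) (hb : Cm i j b) (hc : Cm i j c)
    (ha' : Cm i j a') (hb' : Cm i j b') (hc' : Cm i j c') :
    (i * a + j * b + i * (j * c)) * (i * a' + j * b' + i * (j * c')) =
      -(a * a' + b * b' + c * c') + i * (b * c' - c * b') + j * (c * a' - a * c') + i * (j * (a * b' - b * a')) := by
  have hi := F.hi
  have hj := F.hj
  have hji := F.hji
  have hii := assoc_of hi
  have hjj := assoc_of hj
  have hjii := assoc_of hji
  have ha1 := assoc_of ha.ci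
  have ha2 := assoc_of ha.cj
  have hb1 := assoc_of hb.ci
  have hb2 := assoc_of hb.cj
  have hc1 := assoc_of hc.ci
  have hc2 := assoc_of hc.cj
  simp only [mul_add, add_mul, mul_sub, sub_mul, mul_assoc, ha.ci, ha.cj, hb.ci, hb.cj, hc.ci, hc.cj, 
    ha1, ha2, hb1, hb2, hc1, hc2, hi, hj, hji, hii, hjj, hjii, mul_neg, neg_mul, neg_neg, one_mul, mul_one]
  abel

end Frame

namespace PF
variable {i j X Y : A} (P : PF i j X Y)
include P

theorem sq_U2 : (i - j + i * j) * (i - j + i * j) = -(1+1+1) := by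
  have := P.toFrame.sq_form (Cm.one i j) (Cm.one i j).neg (Cm.one i j)
  simp only [mul_one, mul_neg] at this
  linear_combination (norm := noncomm_ring) this

theorem sq_U3 : (-i + j + i * j) * (-i + j + i * j) = -(1+1+1) := by
  have := P.toFrame.sq_form (Cm.one i j).neg (Cm.one i j) (Cm.one i j)
  simp only [mul_one, mul_neg] at this
  linear_combination (norm := noncomm_ring) this

theorem V2_1 : (i - 1 - Y) + (i - 1 - Y) + 1 = i - j + i * j := by
  linear_combination (norm := noncomm_ring) -P.Y1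

theorem V3_1 : (j - 1 - Y) + (j - 1 - Y) + 1 = - i + j + i * j := by
  linear_combination (norm := noncomm_ring) -P.Y1



variable [Algebra ℚ A]

theorem V2V2 : (i - 1 - Y) * (i - 1 - Y) = -1 - (i - 1 - Y) := by
  apply sq_of_U
  rw [P.V2_1]
  exact P.sq_U2

theorem V3V3 : (j - 1 - Y) * (j - 1 - Y) = -1 - (j - 1 - Y) := by
  apply sq_of_U
  rw [P.V3_1]
  exact P.sq_U3

theorem Xsum : X = Y + (i - 1 - Y) + (j - 1 - Y) + 1 := by
  have h1 := P.Y1
  have h2 := P.dif
  linear_combination (norm := noncomm_ring) h2 + h1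

theorem Ssum (W : A) : S X W = S Y W + S (i - 1 - Y) W + S (j - 1 - Y) W - 1 := by
  have h := P.Xsum
  have : S X W = S (Y + (i - 1 - Y) + (j - 1 - Y) + 1) W := by rw [← h]
  rw [this]
  unfold S
  noncomm_ring

theorem S3_eq (W : A) (h0 : S X W = 0) : S (j - 1 - Y) W = -(i * W + W * i + i) := by
  have h := P.Ssum W
  rw [h0] at h
  have : S Y W + S (i - 1 - Y) W - 1 = i * W + W * i + i := by
    unfold S; noncomm_ring
  rw [← this]
  linear_combination (norm := noncomm_ring) -h

theorem S2_eq (W : A) (h0 : S X W = 0) : S (i - 1 - Y) W = -(j * W + W * j + j) := by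
  have h := P.Ssum W
  rw [h0] at h
  have : S Y W + S (j - 1 - Y) W - 1 = j * W + W * j + j := by
    unfold S; noncomm_ring
  rw [← this]
  linear_combination (norm := noncomm_ring) -h

theorem S1_eq (W : A) (h0 : S X W = 0) : S Y W = -((i * j) * W + W * (i * j) + i * j) := by
  rw [← P.dif]
  have : S X W - S Y W = (X - Y) * W + W * (X - Y) + (X - Y) := by
    unfold S; noncomm_ring
  rw [← this, h0]
  noncomm_ring

theorem cm3 (W : A) (hW : W * W = -1 - W) (h0 : S X W = 0) : Cm i j (S (j - 1 - Y) W) := by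
  apply cm_of P.toFrame
  · rw [P.S3_eq W h0]
    have := P.hi
    linear_combination (norm := noncomm_ring) this * W - W * this
  · have e : j + i * j = (j - 1 - Y) + (j - 1 - Y) + 1 + i := by
      rw [P.V3_1]; abel
    have h1 := comm_left (Y := W) P.V3V3
    have h2 : S (j - 1 - Y) W * i = i * S (j - 1 - Y) W := by
      rw [P.S3_eq W h0]
      have := P.hi
      linear_combination (norm := noncomm_ring) this * W - W * this
    rw [e]
    generalize S (j - 1 - Y) W = s at *
    generalize (j - 1 - Y) = v at *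
    linear_combination (norm := noncomm_ring) 2 * h1 + h2

theorem cm2 (W : A) (hW : W * W = -1 - W) (h0 : S X W = 0) : Cm i j (S (i - 1 - Y) W) := by
  have h2 : S (i - 1 - Y) W * j = j * S (i - 1 - Y) W := by
    rw [P.S2_eq W h0]
    have := P.hj
    linear_combination (norm := noncomm_ring) this * W - W * this
  apply cm_of2 P.toFrame h2
  have e : i + i * j = (i - 1 - Y) + (i - 1 - Y) + 1 + j := by
    rw [P.V2_1]; noncomm_ring
  have h1 := comm_left (Y := W) P.V2V2
  rw [e]
  generalize S (i - 1 - Y) W = s at *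
  generalize (i - 1 - Y) = v at *
  linear_combination (norm := noncomm_ring) 2 * h1 + h2

theorem cm1 (W : A) (hW : W * W = -1 - W) (h0 : S X W = 0) : Cm i j (S Y W) := by
  have hk : (i * j) * (i * j) = -1 := by
    linear_combination (norm := noncomm_ring) i * P.hji * j - P.hi * j * j + P.hj
  have h2 : S Y W * (i * j) = i * j * S Y W := by
    rw [P.S1_eq W h0]
    linear_combination (norm := noncomm_ring) hk * W - W * hk
  apply cm_of3 P.toFrame h2
  have e : i + j = Y + Y + 1 + i * j := by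
    rw [P.Y1]; noncomm_ring
  have h1 := comm_left (Y := W) P.YY
  rw [e]
  generalize S Y W = s at *
  generalize i * j = v at *
  linear_combination (norm := noncomm_ring) 2 * h1 + h2

theorem form (W : A) (hW : W * W = -1 - W) (h0 : S X W = 0) :
    W + W + 1 = i * S (j - 1 - Y) W + j * S (i - 1 - Y) W + i * (j * S Y W) := by
  have c1 := P.cm1 W hW h0
  have c2 := P.cm2 W hW h0
  have c3 := P.cm3 W hW h0
  have e1 := P.S1_eq W h0
  have e2 := P.S2_eq W h0
  have e3 := P.S3_eq W h0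
  generalize S Y W = s1 at *
  generalize S (i - 1 - Y) W = s2 at *
  generalize S (j - 1 - Y) W = s3 at *
  have hi := P.hi
  have hj := P.hj
  have hji := P.hji
  have hii := assoc_of hi
  have hjj := assoc_of hj
  have hjii := assoc_of hji
  obtain ⟨b, hb⟩ : ∃ b, b = W + W + 1 - (i * s3 + j * s2 + i * (j * s1)) := ⟨_, rfl⟩
  have hbi : i * b + b * i = 0 := by
    have e : i * (i * s3 + j * s2 + i * (j * s1)) + (i * s3 + j * s2 + i * (j * s1)) * i = - (s3 + s3) := by
      simp only [mul_add, add_mul, mul_assoc, c1.ci, c2.ci, c3.ci, hi, hj, hji, hii, hjj, hjii, mul_neg,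
        neg_mul, neg_neg, one_mul, mul_one]
      abel
    rw [hb]
    linear_combination (norm := noncomm_ring) 2 * e3 - e
  have hbj : j * b + b * j = 0 := by
    have e : j * (i * s3 + j * s2 + i * (j * s1)) + (i * s3 + j * s2 + i * (j * s1)) * j = - (s2 + s2) := by
      simp only [mul_add, add_mul, mul_assoc, c1.cj, c2.cj, c3.cj, hi, hj, hji, hii, hjj, hjii, mul_neg,
        neg_mul, neg_neg, one_mul, mul_one]
      abel
    rw [hb]
    linear_combination (norm := noncomm_ring) 2 * e2 - e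
  have hbk : (i * j) * b + b * (i * j) = 0 := by
    have e : (i * j) * (i * s3 + j * s2 + i * (j * s1)) + (i * s3 + j * s2 + i * (j * s1)) * (i * j) = - (s1 + s1) := by
      have a1 := assoc_of c1.ci
      have a2 := assoc_of c2.ci
      have a3 := assoc_of c3.ci
      simp only [mul_add, add_mul, mul_assoc, c1.cj, c2.cj, c3.cj, a1, a2, a3, hi, hj, hji, hii, hjj, hjii, mul_neg,
        neg_mul, neg_neg, one_mul, mul_one]
      abel
    rw [hb]
    linear_combination (norm := noncomm_ring) 2 * e1 - e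
  have h1 : i * (j * b) = 0 := two_tors (by
    linear_combination (norm := noncomm_ring) hbk + i * hbj - hbi * j)
  have := P.toFrame.j_cancel (P.toFrame.i_cancel h1)
  rw [hb] at this
  exact sub_eq_zero.mp this


theorem sumsq (W : A) (hW : W * W = -1 - W) (h0 : S X W = 0) :
    S (j - 1 - Y) W * S (j - 1 - Y) W + S (i - 1 - Y) W * S (i - 1 - Y) W + S Y W * S Y W = 1 + 1 + 1 := by
  have c1 := P.cm1 W hW h0
  have c2 := P.cm2 W hW h0
  have c3 := P.cm3 W hW h0
  have h1 := P.toFrame.sq_form c3 c2 c1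
  rw [← P.form W hW h0] at h1
  have h2 : (W + W + 1) * (W + W + 1) = -(1 + 1 + 1) := by
    linear_combination (norm := noncomm_ring) 4 * hW
  rw [h2] at h1
  have h3 := P.toFrame.indep (a0 := (1 + 1 + 1) - (S (j - 1 - Y) W * S (j - 1 - Y) W + S (i - 1 - Y) W * S (i - 1 - Y) W + S Y W * S Y W))
    ((((Cm.one i j).add (Cm.one i j)).add (Cm.one i j)).sub (((c3.mul c3).add (c2.mul c2)).add (c1.mul c1)))
    ((c2.mul c1).sub (c1.mul c2)) ((c1.mul c3).sub (c3.mul c1)) ((c3.mul c2).sub (c2.mul c3))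
    (by linear_combination (norm := noncomm_ring) -h1)
  exact (sub_eq_zero.mp h3.1).symm

variable [Nontrivial A]

omit P [Nontrivial A] in
theorem cast_ne (n : ℕ) (hn : n ≠ 0) [Nontrivial A] : (n : A) ≠ 0 := fun h =>
  one_ne_zero (α := A) (nat_tors n hn (by rw [h, zero_mul]))

omit P in
theorem count {s1 s2 s3 : A} (hs : s1 + s2 + s3 = 1) (hsq : s3 * s3 + s2 * s2 + s1 * s1 = 1 + 1 + 1)
    (h1 : s1 = 0 ∨ s1 = 1 ∨ s1 * s1 = s1 + 1) (h2 : s2 = 0 ∨ s2 = 1 ∨ s2 * s2 = s2 + 1)
    (h3 : s3 = 0 ∨ s3 = 1 ∨ s3 * s3 = s3 + 1) :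
    (s3 = 0 ∧ s2 = 1 - s1 ∧ s1 * s1 = s1 + 1) ∨ (s2 = 0 ∧ s1 = 1 - s3 ∧ s3 * s3 = s3 + 1) ∨
    (s1 = 0 ∧ s3 = 1 - s2 ∧ s2 * s2 = s2 + 1) := by
  have hq : ∀ s : A, (s = 0 ∨ s = 1 ∨ s * s = s + 1) → ((s = 0 ∨ s = 1) ∧ s * s = s) ∨ s * s = s + 1 := by
    rintro s (h | h | h)
    · left; exact ⟨Or.inl h, by rw [h]; simp⟩
    · left; exact ⟨Or.inr h, by rw [h]; simp⟩
    · right; exact h
  have key : ∀ a b : A, a + b = 0 → a * a = a + 1 → b * b = b + 1 → False := by
    intro a b hab ha hb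
    have hb' : b = - a := by rw [← add_eq_zero_iff_eq_neg']; exact hab
    rw [hb'] at hb
    have h1 : a + a = 0 := by
      linear_combination (norm := noncomm_ring) hb - ha
    rw [two_tors h1] at ha
    simp at ha
  have c1 := cast_ne (A := A) 1 (by norm_num)
  have c2 := cast_ne (A := A) 2 (by norm_num)
  rcases hq s1 h1 with ⟨a1, b1⟩ | b1 <;> rcases hq s2 h2 with ⟨a2, b2⟩ | b2 <;>
    rcases hq s3 h3 with ⟨a3, b3⟩ | b3
  · exact absurd (show ((2 : ℕ) : A) = 0 by
      rw [show ((2 : ℕ) : A) = 1 + 1 by norm_num]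
      linear_combination (norm := noncomm_ring) b1 + b2 + b3 - hsq + hs) c2
  · exact absurd (show ((1 : ℕ) : A) = 0 by push_cast; linear_combination (norm := noncomm_ring) b1 + b2 + b3 - hsq + hs) c1
  · exact absurd (show ((1 : ℕ) : A) = 0 by push_cast; linear_combination (norm := noncomm_ring) b1 + b2 + b3 - hsq + hs) c1
  · right; right
    rcases a1 with a1 | a1
    · rw [a1, zero_add] at hs
      exact ⟨a1, by rw [← hs]; abel, b2⟩
    · exfalso; rw [a1, add_assoc] at hs
      exact key s2 s3 (by simpa using hs) b2 b3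
  · exact absurd (show ((1 : ℕ) : A) = 0 by push_cast; linear_combination (norm := noncomm_ring) b1 + b2 + b3 - hsq + hs) c1
  · right; left
    rcases a2 with a2 | a2
    · rw [a2, add_zero] at hs
      exact ⟨a2, by rw [← hs]; abel, b3⟩
    · exfalso; rw [a2] at hs
      refine key s1 s3 ?_ b1 b3
      linear_combination (norm := noncomm_ring) hs
  · left
    rcases a3 with a3 | a3
    · rw [a3, add_zero] at hs
      exact ⟨a3, by rw [← hs]; abel, b1⟩
    · exfalso; rw [a3] at hs
      refine key s1 s2 ?_ b1 b2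
      linear_combination (norm := noncomm_ring) hs
  · exact absurd (show ((1 : ℕ) : A) = 0 by push_cast; linear_combination (norm := noncomm_ring) -b1 - b2 - b3 + hsq - hs) c1


end PF

section sys

theorem inv_mul {X : A} (hX : X * X = -1 - X) : X * (-1 - X) = 1 := by
  linear_combination (norm := noncomm_ring) -hX
theorem mul_inv' {X : A} (hX : X * X = -1 - X) : (-1 - X) * X = 1 := by
  linear_combination (norm := noncomm_ring) -hX

def V2 (X Y : A) : A := -(X * Y) - 1 - Y
def V3 (X Y : A) : A := -(Y * X) - 1 - Y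

structure Sys (T : Set A) : Prop where
  om : ∀ X ∈ T, X * X = -1 - X
  inv : ∀ X ∈ T, -1 - X ∈ T
  conj : ∀ X ∈ T, ∀ Y ∈ T, X * Y * (-1 - X) ∈ T
  pair : ∀ X ∈ T, ∀ Y ∈ T, Y = X ∨ Y = -1 - X ∨ S X Y = 0 ∨ S X Y = 1 ∨ S X Y * S X Y = S X Y + 1

namespace Pair
variable {X Y : A} (h : Pair X Y)
include h

theorem V2_eq : X * Y * (-1 - X) = V2 X Y := by
  unfold V2; linear_combination (norm := noncomm_ring) -h.xyx

theorem V3_eq : (-1 - X) * Y * X = V3 X Y := by
  unfold V3; linear_combination (norm := noncomm_ring) -h.xyx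

theorem V3_eq' : X * V2 X Y * (-1 - X) = V3 X Y := by
  rw [← h.V2_eq, ← h.V3_eq]
  have h1 := h.hX
  have h2 : (-1 - X) * (-1 - X) = X := by
    linear_combination (norm := noncomm_ring) h1
  calc X * (X * Y * (-1 - X)) * (-1 - X) = (X * X) * Y * ((-1 - X) * (-1 - X)) := by noncomm_ring
    _ = (-1 - X) * Y * X := by rw [h1, h2]

theorem Y_eq' : X * V3 X Y * (-1 - X) = Y := by
  rw [← h.V3_eq]
  have h1 := inv_mul h.hX
  calc X * ((-1 - X) * Y * X) * (-1 - X) = (X * (-1 - X)) * Y * (X * (-1 - X)) := by noncomm_ring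
    _ = Y := by rw [h1, one_mul, mul_one]

end Pair

theorem S_conj {g g' X Y : A} (h : g' * g = 1) (h' : g * g' = 1) :
    S (g * X * g') (g * Y * g') = g * S X Y * g' := by
  unfold S
  have e1 : g * X * g' * (g * Y * g') = g * (X * Y) * g' := by
    calc g * X * g' * (g * Y * g') = g * X * (g' * g) * Y * g' := by noncomm_ring
      _ = _ := by rw [h]; noncomm_ring
  have e2 : g * Y * g' * (g * X * g') = g * (Y * X) * g' := by
    calc g * Y * g' * (g * X * g') = g * Y * (g' * g) * X * g' := by noncomm_ring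
      _ = _ := by rw [h]; noncomm_ring
  rw [e1, e2]
  linear_combination (norm := noncomm_ring) -h'

def Has (T : Set A) (i j a b c : A) : Prop := ∃ V ∈ T, V + V + 1 = i * a + j * b + i * (j * c)

namespace Sys
variable {T : Set A} (hT : Sys T) {X Y : A}

include hT in
theorem memV2 (h : Pair X Y) (hX : X ∈ T) (hY : Y ∈ T) : V2 X Y ∈ T := by
  rw [← h.V2_eq]; exact hT.conj X hX Y hY

include hT in
theorem memV3 (h : Pair X Y) (hX : X ∈ T) (hY : Y ∈ T) : V3 X Y ∈ T := by
  rw [← h.V3_eq']; exact hT.conj X hX _ (hT.memV2 h hX hY)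

include hT in
theorem conj_i (h : Pair X Y) (hX : X ∈ T) (hY : Y ∈ T) {V : A} (hV : V ∈ T) :
    -((-(X * Y)) * V * (-(X * Y))) ∈ T := by
  have h1 := hT.conj X hX _ (hT.conj Y hY V hV)
  have h2 := h.hS
  unfold S at h2
  convert h1 using 1
  linear_combination (norm := noncomm_ring) -X * Y * V * h2

include hT in
theorem conj_j (h : Pair X Y) (hX : X ∈ T) (hY : Y ∈ T) {V : A} (hV : V ∈ T) :
    -((-(Y * X)) * V * (-(Y * X))) ∈ T := by
  have h1 := hT.conj Y hY _ (hT.conj X hX V hV)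
  have h2 := h.hS
  unfold S at h2
  convert h1 using 1
  linear_combination (norm := noncomm_ring) -Y * X * V * h2

end Sys

namespace Frame
variable {i j : A} (F : Frame i j)
include F

theorem conj_i' {V a b c : A} (ha : Cm i j a) (hb : Cm i j b) (hc : Cm i j c)
    (hV : V + V + 1 = i * a + j * b + i * (j * c)) :
    -(i * V * i) + -(i * V * i) + 1 = i * a + j * (-b) + i * (j * (-c)) := by
  have h1 := F.conj_i (Cm.zero i j) ha hb hc
  have hi := F.hi
  rw [zero_add, ← hV] at h1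
  linear_combination (norm := noncomm_ring) -h1 + hi

theorem conj_j' {V a b c : A} (ha : Cm i j a) (hb : Cm i j b) (hc : Cm i j c)
    (hV : V + V + 1 = i * a + j * b + i * (j * c)) :
    -(j * V * j) + -(j * V * j) + 1 = i * (-a) + j * b + i * (j * (-c)) := by
  have h1 := F.conj_j (Cm.zero i j) ha hb hc
  have hj := F.hj
  rw [zero_add, ← hV] at h1
  linear_combination (norm := noncomm_ring) -h1 + hj

end Frame

namespace PF
variable {i j X Y : A} (P : PF i j X Y)
include P

theorem Xi : X * i = i * j * X := by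
  have h1 : X * i = Y - i := by
    have := P.xy
    have h2 : i = - (X * Y) := by rw [this, neg_neg]
    have h3 : X * i = (1 + X) * Y := by
      rw [h2]; linear_combination (norm := noncomm_ring) -P.XX * Y
    rw [h3]; linear_combination (norm := noncomm_ring) this
  have h2 : i * j * X = -1 - X + j := by
    rw [← P.dif]
    linear_combination (norm := noncomm_ring) P.XX - P.yx
  rw [h1, h2]
  linear_combination (norm := noncomm_ring) P.X1 - P.dif

theorem Xj : X * j = i * X := by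
  have h1 : i = - (X * Y) := by rw [P.xy, neg_neg]
  have h2 : j = - (Y * X) := by rw [P.yx, neg_neg]
  rw [h1, h2]; noncomm_ring

theorem Xk : X * (i * j) = j * X := by
  rw [← mul_assoc, P.Xi, mul_assoc, P.Xj]
  linear_combination (norm := noncomm_ring) i * P.hji * X - P.hi * j * X

theorem commX [Algebra ℚ A] {a : A} (ha : Cm i j a) : a * X = X * a := by
  have h1 : a * (X + X + 1) = (X + X + 1) * a := by
    rw [P.X1]
    have e : a * (i * j) = i * j * a := by rw [← mul_assoc, ha.ci, mul_assoc, ha.cj, mul_assoc]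
    linear_combination (norm := noncomm_ring) ha.ci + ha.cj + e
  have h2 : (a * X - X * a) + (a * X - X * a) = 0 := by
    linear_combination (norm := noncomm_ring) h1
  exact sub_eq_zero.mp (two_tors h2)

theorem conj_X' [Algebra ℚ A] {V a b c : A} (ha : Cm i j a) (hb : Cm i j b) (hc : Cm i j c)
    (hV : V + V + 1 = i * a + j * b + i * (j * c)) :
    X * V * (-1 - X) + X * V * (-1 - X) + 1 = i * b + j * c + i * (j * a) := by
  have h0 := inv_mul P.XX
  have e1 : X * (i * a + j * b + i * (j * c)) = (i * b + j * c + i * (j * a)) * X := by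
    have a1 := P.commX ha
    have b1 := P.commX hb
    have c1 := P.commX hc
    have x1 := P.Xi
    have x2 := P.Xj
    have x3 := P.Xk
    calc X * (i * a + j * b + i * (j * c)) = (X * i) * a + (X * j) * b + (X * (i * j)) * c := by noncomm_ring
      _ = i * j * (X * a) + i * (X * b) + j * (X * c) := by rw [x1, x2, x3]; noncomm_ring
      _ = _ := by rw [← a1, ← b1, ← c1]; noncomm_ring
  rw [← hV] at e1
  have e2 : X * (V + V + 1) * (-1 - X) = i * b + j * c + i * (j * a) := by
    rw [e1, mul_assoc, h0, mul_one]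
  rw [← e2]
  linear_combination (norm := noncomm_ring) -h0

end PF


theorem mul_form_sum {i j : A} (F : Frame i j) {a b c a' b' c' : A} (ha : Cm i j a) (hb : Cm i j b) (hc : Cm i j c)
    (ha' : Cm i j a') (hb' : Cm i j b') (hc' : Cm i j c') {V W : A}
    (hV : V + V + 1 = i * a + j * b + i * (j * c)) (hW : W + W + 1 = i * a' + j * b' + i * (j * c')) :
    4 * S V W = 1 + 1 - (a * a' + b * b' + c * c' + a' * a + b' * b + c' * c)
      + i * ((b * c' - c * b') + (b' * c - c' * b))
      + j * ((c * a' - a * c') + (c' * a - a' * c)) + i * (j * ((a * b' - b * a') + (a' * b - b' * a))) := by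
  have h1 := F.mul_form ha hb hc ha' hb' hc'
  have h2 := F.mul_form ha' hb' hc' ha hb hc
  rw [← hV, ← hW] at h1 h2
  unfold S
  linear_combination (norm := noncomm_ring) h1 + h2

/-- The uniqueness of the golden element. -/
structure Adj (T : Set A) (i j φ : A) : Prop where
  cm : Cm i j φ
  gold : φ * φ = φ + 1
  has : Has T i j 0 (φ - 1) φ

/-- bundle: closure of `Has` -/
structure Clo (T : Set A) (i j : A) : Prop where
  inv : ∀ a b c, Has T i j a b c → Has T i j (-a) (-b) (-c)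
  ci : ∀ a b c, Cm i j a → Cm i j b → Cm i j c → Has T i j a b c → Has T i j a (-b) (-c)
  cj : ∀ a b c, Cm i j a → Cm i j b → Cm i j c → Has T i j a b c → Has T i j (-a) b (-c)
  cx : ∀ a b c, Cm i j a → Cm i j b → Cm i j c → Has T i j a b c → Has T i j b c a

theorem Sys.clo [Algebra ℚ A] {T : Set A} (hT : Sys T) {X Y : A} (h : Pair X Y) (hX : X ∈ T) (hY : Y ∈ T) :
    Clo T (-(X * Y)) (-(Y * X)) where
  inv := by
    rintro a b c ⟨V, hV, hV1⟩
    refine ⟨_, hT.inv V hV, ?_⟩
    linear_combination (norm := noncomm_ring) -hV1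
  ci := by
    rintro a b c ha hb hc ⟨V, hV, hV1⟩
    exact ⟨_, hT.conj_i h hX hY hV, h.frame.conj_i' ha hb hc hV1⟩
  cj := by
    rintro a b c ha hb hc ⟨V, hV, hV1⟩
    exact ⟨_, hT.conj_j h hX hY hV, h.frame.conj_j' ha hb hc hV1⟩
  cx := by
    rintro a b c ha hb hc ⟨V, hV, hV1⟩
    exact ⟨_, hT.conj X hX V hV, h.pf.conj_X' ha hb hc hV1⟩

section uniq
variable [Algebra ℚ A] [Nontrivial A] {T : Set A} {i j φ ψ : A}

theorem not_gold_zero : ¬ ((0 : A) * 0 = 0 + 1) := by simp
theorem not_gold_one : ¬ ((1 : A) * 1 = 1 + 1) := by simp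

theorem mul4_cancel {a b : A} (h : 4 * a = 4 * b) : a = b := by
  have h1 : (a - b) + (a - b) = 0 := two_tors (by
    linear_combination (norm := noncomm_ring) h)
  exact sub_eq_zero.mp (two_tors h1)

theorem Adj.uniq (F : Frame i j) (hT : Sys T) (C : Clo T i j) (h1 : Adj T i j φ) (h2 : Adj T i j ψ) : φ = ψ := by
  by_contra hne
  have c1 := h1.cm
  have c2 := h2.cm
  have g1 := h1.gold
  have g2 := h2.gold
  have k1 := c1.sub (Cm.one i j)
  have k2 := c2.sub (Cm.one i j)
  have z := Cm.zero i j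
  obtain ⟨V, hV, V1⟩ := h1.has
  obtain ⟨W, hW, W1⟩ := h2.has
  obtain ⟨W', hW', W1'⟩ := C.inv _ _ _ (C.cj _ _ _ z k2 c2 h2.has)
  rw [neg_zero, neg_zero, neg_neg] at W1'
  obtain ⟨W'', hW'', W1''⟩ := C.cx _ _ _ k2 c2 z (C.cx _ _ _ z k2 c2 h2.has)
  have n2 : (2 : ℕ) ≠ 0 := by norm_num
  have hi := F.hi
  have hj := F.hj
  have hji := F.hji
  have t1 := mul_form_sum F z k1 c1 z k2 c2 V1 W1
  have t2 := mul_form_sum F z k1 c1 z k2.neg c2 V1 W1'
  have t3 := mul_form_sum F z k1 c1 c2 z k2 V1 W1''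
  have p1 := hT.pair V hV W hW
  have p2 := hT.pair V hV W' hW'
  have p3 := hT.pair V hV W'' hW''
  have hii := assoc_of hi
  have hjj := assoc_of hj
  have hjii := assoc_of hji
  have f1 := c1.ci
  have f2 := c1.cj
  have f3 := c2.ci
  have f4 := c2.cj
  have f1' := assoc_of f1
  have f2' := assoc_of f2
  have f3' := assoc_of f3
  have f4' := assoc_of f4
  have g1' := assoc_of g1
  have g2' := assoc_of g2
  obtain ⟨M, hM⟩ : ∃ M, M = φ + ψ - φ * ψ - ψ * φ := ⟨_, rfl⟩
  obtain ⟨N, hN⟩ : ∃ N, N = 1 + 1 - φ - ψ + i * (φ * ψ - ψ * φ) := ⟨_, rfl⟩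
  have m1 : S V W + S V W = M := by
    have : (S V W + S V W - M) + (S V W + S V W - M) = 0 := by
      rw [hM]; linear_combination (norm := noncomm_ring) t1
    exact sub_eq_zero.mp (two_tors this)
  have m2 : S V W' + S V W' = N := by
    have : (S V W' + S V W' - N) + (S V W' + S V W' - N) = 0 := by
      rw [hN]; linear_combination (norm := noncomm_ring) t2
    exact sub_eq_zero.mp (two_tors this)
  have hI : N * N - N - N + M * M - (1+1+1+1+1+1+1+1) = 0 := by
    rw [hM, hN]
    simp only [mul_add, add_mul, mul_sub, sub_mul, mul_assoc, f1, f2, f3, f4, f1', f2', f3', f4', g1, g2, g1', g2', hi, hj, hji,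
      hii, hjj, hjii, mul_neg, neg_mul, neg_neg, one_mul, mul_one]
    abel
  have hI2 : S V W' * S V W' - S V W' + S V W * S V W = 1 + 1 := by
    have : (S V W' * S V W' - S V W' + S V W * S V W - (1 + 1)) + (S V W' * S V W' - S V W' + S V W * S V W - (1 + 1)) = 0 := by
      apply two_tors
      rw [← m1, ← m2] at hI
      linear_combination (norm := noncomm_ring) hI
    exact sub_eq_zero.mp (two_tors this)
  -- W is not V or its inverse
  have q1 : ∀ W0 : A, W0 + W0 + 1 = i * 0 + j * (ψ - 1) + i * (j * ψ) → W0 ≠ V ∧ W0 ≠ -1 - V := by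
    intro W0 hW0
    constructor
    · rintro rfl
      rw [V1] at hW0
      have := F.indep z z (k1.sub k2) (c1.sub c2) (by linear_combination (norm := noncomm_ring) hW0)
      exact hne (sub_eq_zero.mp this.2.2.2)
    · rintro rfl
      have e1 : i * 0 + j * (ψ - 1) + i * (j * ψ) = -(i * 0 + j * (φ - 1) + i * (j * φ)) := by
        rw [← hW0, ← V1]; noncomm_ring
      have := F.indep z z (k1.add k2) (c1.add c2) (by linear_combination (norm := noncomm_ring) e1)
      have e2 : (1 : A) + 1 = 0 := by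
        linear_combination (norm := noncomm_ring) this.2.2.2 - this.2.2.1
      exact one_ne_zero (two_tors e2)
  have q2 : W' ≠ V ∧ W' ≠ -1 - V := by
    constructor
    · rintro rfl
      rw [V1] at W1'
      have := F.indep z z (k1.add k2) (c1.sub c2) (by linear_combination (norm := noncomm_ring) W1')
      exact hne (sub_eq_zero.mp this.2.2.2)
    · rintro rfl
      have e1 : i * 0 + j * (-(ψ - 1)) + i * (j * ψ) = -(i * 0 + j * (φ - 1) + i * (j * φ)) := by
        rw [← W1', ← V1]; noncomm_ring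
      have := F.indep z z (k1.sub k2) (c1.add c2) (by linear_combination (norm := noncomm_ring) e1)
      -- φ = ψ
      have e2 : φ - ψ = 0 := by
        linear_combination (norm := noncomm_ring) this.2.2.1
      exact hne (sub_eq_zero.mp e2)
  have q3 : W'' ≠ V ∧ W'' ≠ -1 - V := by
    have hz : ψ ≠ 0 := by
      rintro rfl
      exact not_gold_zero (A := A) g2
    constructor
    · rintro rfl
      rw [V1] at W1''
      have := F.indep z c2 k1.neg (k2.sub c1) (by linear_combination (norm := noncomm_ring) -W1'')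
      exact hz this.2.1
    · rintro rfl
      have e1 : i * ψ + j * 0 + i * (j * (ψ - 1)) = -(i * 0 + j * (φ - 1) + i * (j * φ)) := by
        rw [← W1'', ← V1]; noncomm_ring
      have := F.indep z c2 k1 (k2.add c1) (by linear_combination (norm := noncomm_ring) e1)
      exact hz this.2.1
  have mm1 : S V W = 1 := by
    have two0 : ¬ ((1 : A) + 1 = 0) := fun h => one_ne_zero (two_tors h)
    rcases p1 with h | h | h | h | h
    · exact absurd h (q1 W W1).1
    · exact absurd h (q1 W W1).2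
    · exfalso
      rw [h] at hI2
      rcases p2 with h' | h' | h' | h' | h'
      · exact q2.1 h'
      · exact q2.2 h'
      · rw [h'] at hI2; apply two0; rw [← hI2]; simp
      · rw [h'] at hI2; apply two0; rw [← hI2]; simp
      · rw [h'] at hI2
        exact one_ne_zero (α := A) (by linear_combination (norm := noncomm_ring) -hI2)
    · exact h
    · exfalso
      rw [h] at hI2
      rcases p2 with h' | h' | h' | h' | h'
      · exact q2.1 h'
      · exact q2.2 h'
      · rw [h'] at hI2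
        have : S V W = 1 := by linear_combination (norm := noncomm_ring) hI2
        rw [this] at h; exact not_gold_one h
      · rw [h'] at hI2
        have : S V W = 1 := by linear_combination (norm := noncomm_ring) hI2
        rw [this] at h; exact not_gold_one h
      · rw [h'] at hI2
        have : S V W = 0 := by linear_combination (norm := noncomm_ring) hI2
        rw [this] at h; exact not_gold_zero h
  rw [mm1] at m1
  have hpq : ψ * φ = φ + ψ - 1 - 1 - φ * ψ := by
    rw [hM] at m1; linear_combination (norm := noncomm_ring) m1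
  obtain ⟨E, hE⟩ : ∃ E, E = φ - ψ + (i + j - i * j) * (φ * ψ - ψ * φ) := ⟨_, rfl⟩
  have t3' : 4 * (S V W'' - 1) = E := by
    rw [hE]
    linear_combination (norm := noncomm_ring) t3 - hpq
  have hpq' := assoc_of hpq
  have hE2 : E * E = (16 : ℕ) • (1 : A) := by
    have : E * E - (16 : ℕ) • (1 : A) = 0 := by
      rw [hE]
      simp only [mul_add, add_mul, mul_sub, sub_mul, mul_assoc, f1, f2, f3, f4, f1', f2', f3', f4', g1, g2, g1', g2', hi, hj, hji,
        hii, hjj, hjii, mul_neg, neg_mul, neg_neg, one_mul, mul_one, hpq, hpq']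
      noncomm_ring
    exact sub_eq_zero.mp this
  have hS2 : S V W'' * S V W'' = S V W'' + S V W'' := by
    rw [← t3'] at hE2
    have : (16 : ℕ) * (S V W'' * S V W'' - (S V W'' + S V W'')) = 0 := by
      push_cast
      linear_combination (norm := noncomm_ring) hE2
    exact sub_eq_zero.mp (nat_tors 16 (by norm_num) this)
  have hs0 : S V W'' = 0 := by
    rcases p3 with h | h | h | h | h
    · exact absurd h q3.1
    · exact absurd h q3.2
    · exact h
    · rw [h] at hS2
      exact absurd hS2 not_gold_one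
    · have : S V W'' = 1 := by linear_combination (norm := noncomm_ring) h - hS2
      rw [this] at h
      exact absurd h not_gold_one
  rw [hs0, hE] at t3'
  have o := Cm.one i j
  have hcomm : Cm i j (φ * ψ - ψ * φ) := (c1.mul c2).sub (c2.mul c1)
  have fin := F.indep ((c1.sub c2).add (((o.add o).add o).add o)) hcomm hcomm hcomm.neg (by
    linear_combination (norm := noncomm_ring) -t3')
  have e1 : φ + ψ - 1 = 0 := by
    have : (4 : ℕ) * (φ + ψ - 1) = 0 := by
      push_cast
      linear_combination (norm := noncomm_ring) fin.1 * (φ + ψ - 1) - g1 + g2 - fin.2.1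
    exact nat_tors 4 (by norm_num) this
  have e2 : ψ = 1 - φ := by
    linear_combination (norm := noncomm_ring) e1
  rw [e2] at hpq
  exact one_ne_zero (α := A) (by linear_combination (norm := noncomm_ring) -hpq - 2 * g1)

end uniq

def SP (a : A) : Prop := a = 1 ∨ a = -1

theorem SP.neg {a : A} (h : SP a) : SP (-a) := by
  rcases h with h | h
  · right; rw [h]
  · left; rw [h, neg_neg]

theorem SP.cm {i j a : A} (h : SP a) : Cm i j a := by
  rcases h with h | h
  · rw [h]; exact Cm.one i j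
  · rw [h]; exact (Cm.one i j).neg

def In8 (i j u : A) : Prop := ∃ a b c, SP a ∧ SP b ∧ SP c ∧ u = i * a + j * b + i * (j * c)

def Pat (φ a b c : A) : Prop :=
  (a = 0 ∧ (b = φ - 1 ∨ b = -(φ - 1)) ∧ (c = φ ∨ c = -φ)) ∨
  (b = 0 ∧ (c = φ - 1 ∨ c = -(φ - 1)) ∧ (a = φ ∨ a = -φ)) ∨
  (c = 0 ∧ (a = φ - 1 ∨ a = -(φ - 1)) ∧ (b = φ ∨ b = -φ))

theorem or_neg {a b : A} (h : a = b ∨ a = -b) : -a = b ∨ -a = -b := by
  rcases h with h | h
  · right; rw [h]
  · left; rw [h, neg_neg]

theorem Pat.ci {φ a b c : A} (h : Pat φ a b c) : Pat φ a (-b) (-c) := by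
  rcases h with ⟨h1, h2, h3⟩ | ⟨h1, h2, h3⟩ | ⟨h1, h2, h3⟩
  · exact Or.inl ⟨h1, or_neg h2, or_neg h3⟩
  · exact Or.inr (Or.inl ⟨by rw [h1, neg_zero], or_neg h2, h3⟩)
  · exact Or.inr (Or.inr ⟨by rw [h1, neg_zero], h2, or_neg h3⟩)

theorem Pat.cj {φ a b c : A} (h : Pat φ a b c) : Pat φ (-a) b (-c) := by
  rcases h with ⟨h1, h2, h3⟩ | ⟨h1, h2, h3⟩ | ⟨h1, h2, h3⟩
  · exact Or.inl ⟨by rw [h1, neg_zero], h2, or_neg h3⟩
  · exact Or.inr (Or.inl ⟨h1, or_neg h2, or_neg h3⟩)
  · exact Or.inr (Or.inr ⟨by rw [h1, neg_zero], or_neg h2, h3⟩)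

theorem Pat.inv {φ a b c : A} (h : Pat φ a b c) : Pat φ (-a) (-b) (-c) := by
  rcases h with ⟨h1, h2, h3⟩ | ⟨h1, h2, h3⟩ | ⟨h1, h2, h3⟩
  · exact Or.inl ⟨by rw [h1, neg_zero], or_neg h2, or_neg h3⟩
  · exact Or.inr (Or.inl ⟨by rw [h1, neg_zero], or_neg h2, or_neg h3⟩)
  · exact Or.inr (Or.inr ⟨by rw [h1, neg_zero], or_neg h2, or_neg h3⟩)

theorem Pat.cx {φ a b c : A} (h : Pat φ a b c) : Pat φ b c a := by
  rcases h with ⟨h1, h2, h3⟩ | ⟨h1, h2, h3⟩ | ⟨h1, h2, h3⟩
  · exact Or.inr (Or.inr ⟨h1, h2, h3⟩)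
  · exact Or.inl ⟨h1, h2, h3⟩
  · exact Or.inr (Or.inl ⟨h1, h2, h3⟩)

theorem Pat.cm {i j φ a b c : A} (hφ : Cm i j φ) (h : Pat φ a b c) : Cm i j a ∧ Cm i j b ∧ Cm i j c := by
  have h0 := Cm.zero i j
  have k := hφ.sub (Cm.one i j)
  rcases h with ⟨h1, h2, h3⟩ | ⟨h1, h2, h3⟩ | ⟨h1, h2, h3⟩
  all_goals
    rcases h2 with h2 | h2 <;> rcases h3 with h3 | h3 <;> subst h1 <;> subst h2 <;> subst h3 <;>
      refine ⟨?_, ?_, ?_⟩ <;> first | exact h0 | exact k | exact k.neg | exact hφ | exact hφ.neg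

def In12 (i j φ u : A) : Prop := ∃ a b c, Pat φ a b c ∧ u = i * a + j * b + i * (j * c)

def R (T : Set A) (i j Z : A) : Prop := ∃ φ, Adj T i j φ ∧ In12 i j φ (Z + Z + 1)

section R
variable [Algebra ℚ A] [Nontrivial A] {T : Set A} {X Y : A}

theorem R.inv {i j Z : A} (h : R T i j (-1 - Z)) : R T i j Z := by
  obtain ⟨φ, h1, a, b, c, h2, h3⟩ := h
  refine ⟨φ, h1, -a, -b, -c, h2.inv, ?_⟩
  linear_combination (norm := noncomm_ring) -h3

theorem neg_conj_conj {i Z : A} (hi : i * i = -1) : -(i * (-(i * Z * i)) * i) = Z := by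
  calc -(i * (-(i * Z * i)) * i) = (i * i) * Z * (i * i) := by noncomm_ring
    _ = Z := by rw [hi]; noncomm_ring

theorem R.conj_i {i j Z : A} (F : Frame i j) (h : R T i j (-(i * Z * i))) : R T i j Z := by
  obtain ⟨φ, h1, a, b, c, h2, h3⟩ := h
  obtain ⟨k1, k2, k3⟩ := h2.cm h1.cm
  refine ⟨φ, h1, a, -b, -c, h2.ci, ?_⟩
  have := F.conj_i' k1 k2 k3 h3
  rwa [neg_conj_conj F.hi] at this

theorem R.conj_j {i j Z : A} (F : Frame i j) (h : R T i j (-(j * Z * j))) : R T i j Z := by
  obtain ⟨φ, h1, a, b, c, h2, h3⟩ := h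
  obtain ⟨k1, k2, k3⟩ := h2.cm h1.cm
  refine ⟨φ, h1, -a, b, -c, h2.cj, ?_⟩
  have := F.conj_j' k1 k2 k3 h3
  rwa [neg_conj_conj F.hj] at this

theorem In8.inv {i j Z : A} (h : In8 i j ((-1 - Z) + (-1 - Z) + 1)) : In8 i j (Z + Z + 1) := by
  obtain ⟨a, b, c, h1, h2, h3, h4⟩ := h
  refine ⟨-a, -b, -c, h1.neg, h2.neg, h3.neg, ?_⟩
  linear_combination (norm := noncomm_ring) -h4

theorem In8.conj_i {i j Z : A} (F : Frame i j) (h : In8 i j (-(i * Z * i) + -(i * Z * i) + 1)) :
    In8 i j (Z + Z + 1) := by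
  obtain ⟨a, b, c, h1, h2, h3, h4⟩ := h
  refine ⟨a, -b, -c, h1, h2.neg, h3.neg, ?_⟩
  have := F.conj_i' h1.cm h2.cm h3.cm h4
  rwa [neg_conj_conj F.hi] at this

theorem In8.conj_j {i j Z : A} (F : Frame i j) (h : In8 i j (-(j * Z * j) + -(j * Z * j) + 1)) :
    In8 i j (Z + Z + 1) := by
  obtain ⟨a, b, c, h1, h2, h3, h4⟩ := h
  refine ⟨-a, b, -c, h1.neg, h2, h3.neg, ?_⟩
  have := F.conj_j' h1.cm h2.cm h3.cm h4
  rwa [neg_conj_conj F.hj] at this

theorem eq_of_U {V W : A} (h : V + V + 1 = W + W + 1) : V = W := by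
  have h1 : (V - W) + (V - W) = 0 := by linear_combination (norm := noncomm_ring) h
  exact sub_eq_zero.mp (two_tors h1)

theorem Pair.UX (h : Pair X Y) : X + X + 1 = (-(X * Y)) * 1 + (-(Y * X)) * 1 + (-(X * Y)) * ((-(Y * X)) * 1) := by
  rw [h.pf.X1]; noncomm_ring
theorem Pair.UY (h : Pair X Y) : Y + Y + 1 = (-(X * Y)) * 1 + (-(Y * X)) * 1 + (-(X * Y)) * ((-(Y * X)) * (-1)) := by
  rw [h.pf.Y1]; noncomm_ring
theorem Pair.UV2 (h : Pair X Y) : V2 X Y + V2 X Y + 1 = (-(X * Y)) * 1 + (-(Y * X)) * (-1) + (-(X * Y)) * ((-(Y * X)) * 1) := by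
  rw [V2, h.pf.V2_1]; noncomm_ring
theorem Pair.UV3 (h : Pair X Y) : V3 X Y + V3 X Y + 1 = (-(X * Y)) * (-1) + (-(Y * X)) * 1 + (-(X * Y)) * ((-(Y * X)) * 1) := by
  rw [V3, h.pf.V3_1]; noncomm_ring

theorem Pair.in8X (h : Pair X Y) : In8 (-(X * Y)) (-(Y * X)) (X + X + 1) :=
  ⟨1, 1, 1, Or.inl rfl, Or.inl rfl, Or.inl rfl, h.UX⟩
theorem Pair.in8Y (h : Pair X Y) : In8 (-(X * Y)) (-(Y * X)) (Y + Y + 1) :=
  ⟨1, 1, -1, Or.inl rfl, Or.inl rfl, Or.inr rfl, h.UY⟩
theorem Pair.in8V2 (h : Pair X Y) : In8 (-(X * Y)) (-(Y * X)) (V2 X Y + V2 X Y + 1) :=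
  ⟨1, -1, 1, Or.inl rfl, Or.inr rfl, Or.inl rfl, h.UV2⟩
theorem Pair.in8V3 (h : Pair X Y) : In8 (-(X * Y)) (-(Y * X)) (V3 X Y + V3 X Y + 1) :=
  ⟨-1, 1, 1, Or.inr rfl, Or.inl rfl, Or.inl rfl, h.UV3⟩

theorem In8.inv' {i j Z : A} (h : In8 i j (Z + Z + 1)) : In8 i j ((-1 - Z) + (-1 - Z) + 1) := by
  apply In8.inv
  have : -1 - (-1 - Z) = Z := by abel
  rw [this]; exact h

/-- membership alternatives for an element outside the eight -/
theorem Sys.alt (hT : Sys T) {i j V Z : A} (hV : V ∈ T) (hZ : Z ∈ T) (h8 : In8 i j (V + V + 1))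
    (hn : ¬ In8 i j (Z + Z + 1)) : S V Z = 0 ∨ S V Z = 1 ∨ S V Z * S V Z = S V Z + 1 := by
  rcases hT.pair V hV Z hZ with h | h | h
  · exact absurd (h ▸ h8) hn
  · exact absurd (h ▸ h8.inv') hn
  · exact h

/-- three forms -/
def Form3 (i j φ u : A) : Prop :=
  u = i * 0 + j * (1 - φ) + i * (j * φ) ∨ u = i * φ + j * 0 + i * (j * (1 - φ)) ∨
  u = i * (1 - φ) + j * φ + i * (j * 0)

theorem Form3.in12 {i j φ u : A} (h : Form3 i j φ u) : In12 i j φ u := by
  rcases h with h | h | h
  · exact ⟨_, _, _, Or.inl ⟨rfl, Or.inr (by abel), Or.inl rfl⟩, h⟩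
  · exact ⟨_, _, _, Or.inr (Or.inl ⟨rfl, Or.inr (by abel), Or.inl rfl⟩), h⟩
  · exact ⟨_, _, _, Or.inr (Or.inr ⟨rfl, Or.inr (by abel), Or.inl rfl⟩), h⟩

theorem adj0 (hT : Sys T) (h : Pair X Y) (hX : X ∈ T) (hY : Y ∈ T) {W : A} (hW : W ∈ T)
    (h0 : S X W = 0) (hn : ¬ In8 (-(X * Y)) (-(Y * X)) (W + W + 1)) :
    ∃ φ, Adj T (-(X * Y)) (-(Y * X)) φ ∧ Form3 (-(X * Y)) (-(Y * X)) φ (W + W + 1) := by
  have C := hT.clo h hX hY
  have P := h.pf
  have hWW := hT.om W hW
  have f := P.form W hWW h0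
  have c1 := P.cm1 W hWW h0
  have c2 := P.cm2 W hWW h0
  have c3 := P.cm3 W hWW h0
  have e1 := P.sumsq W hWW h0
  have e0 := P.Ssum W
  rw [h0] at e0
  have a1 := hT.alt hY hW h.in8Y hn
  have a2 := hT.alt (hT.memV2 h hX hY) hW h.in8V2 hn
  have a3 := hT.alt (hT.memV3 h hX hY) hW h.in8V3 hn
  unfold V2 at a2
  unfold V3 at a3
  have hs : S Y W + S (-(X * Y) - 1 - Y) W + S (-(Y * X) - 1 - Y) W = 1 := by
    linear_combination (norm := noncomm_ring) -e0
  have key : ∀ φ, Cm (-(X * Y)) (-(Y * X)) φ → Has T (-(X * Y)) (-(Y * X)) 0 (1 - φ) φ →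
      Has T (-(X * Y)) (-(Y * X)) 0 (φ - 1) φ := by
    intro φ hφ h1
    have := C.inv _ _ _ (C.cj _ _ _ (Cm.zero _ _) ((Cm.one _ _).sub hφ) hφ h1)
    simpa using this
  rcases PF.count hs e1 a1 a2 a3 with ⟨r1, r2, r3⟩ | ⟨r1, r2, r3⟩ | ⟨r1, r2, r3⟩
  · refine ⟨_, ⟨c1, r3, key _ c1 ⟨W, hW, ?_⟩⟩, Or.inl ?_⟩
    · rw [← r2, ← r1]; exact f
    · rw [← r2, ← r1]; exact f
  · have f2 : Has T (-(X * Y)) (-(Y * X)) (S (-(Y * X) - 1 - Y) W) 0 (1 - S (-(Y * X) - 1 - Y) W) :=
      ⟨W, hW, by rw [← r2, ← r1]; exact f⟩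
    refine ⟨_, ⟨c3, r3, key _ c3 ?_⟩, Or.inr (Or.inl ?_)⟩
    · exact C.cx _ _ _ c3 (Cm.zero _ _) ((Cm.one _ _).sub c3) f2
    · rw [← r2, ← r1]; exact f
  · have f2 : Has T (-(X * Y)) (-(Y * X)) (1 - S (-(X * Y) - 1 - Y) W) (S (-(X * Y) - 1 - Y) W) 0 :=
      ⟨W, hW, by rw [← r2, ← r1]; exact f⟩
    refine ⟨_, ⟨c2, r3, key _ c2 ?_⟩, Or.inr (Or.inr ?_)⟩
    · exact C.cx _ _ _ c2 (Cm.zero _ _) ((Cm.one _ _).sub c2)
        (C.cx _ _ _ ((Cm.one _ _).sub c2) c2 (Cm.zero _ _) f2)
    · rw [← r2, ← r1]; exact f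

end R

end sys

end H74.Ico
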