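import Cfsg.Agent.Lib.H74.Ico
set_option autoImplicit false
set_option linter.unusedSimpArgs false
set_option linter.unusedVariables false
set_option linter.unusedSectionVars false

namespace H74.Ico
variable {A : Type*} [Ring A] [Algebra ℚ A] [Nontrivial A] {T : Set A} {X Y : A}

theorem adjX (hT : Sys T) (h : Pair X Y) (hX : X ∈ T) (hY : Y ∈ T) {Z : A} (hZ : Z ∈ T)
    (h0 : S X Z = 0 ∨ S X Z = 1) (hn : ¬ In8 (-(X * Y)) (-(Y * X)) (Z + Z + 1)) :
    R T (-(X * Y)) (-(Y * X)) Z := by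
  rcases h0 with h0 | h0
  · obtain ⟨φ, h1, h2⟩ := adj0 hT h hX hY hZ h0 hn
    exact ⟨φ, h1, h2.in12⟩
  · apply R.inv
    have h0' : S X (-1 - Z) = 0 := by rw [S_inv_right, h0, sub_self]
    obtain ⟨φ, h1, h2⟩ := adj0 hT h hX hY (hT.inv Z hZ) h0' (fun h => hn h.inv)
    exact ⟨φ, h1, h2.in12⟩

theorem S_conj_neg {i X Y : A} (hi : i * i = -1) :
    S (-(i * X * i)) (-(i * Y * i)) = -(i * S X Y * i) := by
  have := S_conj (g := i) (g' := -i) (X := X) (Y := Y) (by rw [neg_mul, hi, neg_neg]) (by rw [mul_neg, hi, neg_neg])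
  simpa only [mul_neg] using this

theorem S01_conj {i X Y : A} (hi : i * i = -1) (h : S X Y = 0 ∨ S X Y = 1) :
    S (-(i * X * i)) (-(i * Y * i)) = 0 ∨ S (-(i * X * i)) (-(i * Y * i)) = 1 := by
  rw [S_conj_neg hi]
  rcases h with h | h
  · left; rw [h]; simp
  · right; rw [h, mul_one, hi, neg_neg]

theorem Pair.conj_iX (h : Pair X Y) : -((-(X * Y)) * X * (-(X * Y))) = -1 - V3 X Y := by
  apply eq_of_U
  rw [h.frame.conj_i' (Cm.one _ _) (Cm.one _ _) (Cm.one _ _) h.UX]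
  have := h.UV3
  linear_combination (norm := noncomm_ring) this

theorem Pair.conj_jX (h : Pair X Y) : -((-(Y * X)) * X * (-(Y * X))) = -1 - V2 X Y := by
  apply eq_of_U
  rw [h.frame.conj_j' (Cm.one _ _) (Cm.one _ _) (Cm.one _ _) h.UX]
  have := h.UV2
  linear_combination (norm := noncomm_ring) this

theorem Pair.conj_iV2 (h : Pair X Y) : -((-(X * Y)) * V2 X Y * (-(X * Y))) = Y := by
  apply eq_of_U
  rw [h.frame.conj_i' (Cm.one _ _) (Cm.one _ _).neg (Cm.one _ _) h.UV2]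
  have := h.UY
  linear_combination (norm := noncomm_ring) -this

theorem S01_inv {V Z : A} (h : S V Z = 0 ∨ S V Z = 1) : S (-1 - V) Z = 0 ∨ S (-1 - V) Z = 1 := by
  rw [S_inv_left]
  rcases h with h | h
  · right; rw [h, sub_zero]
  · left; rw [h, sub_self]

theorem adjV3 (hT : Sys T) (h : Pair X Y) (hX : X ∈ T) (hY : Y ∈ T) {Z : A} (hZ : Z ∈ T)
    (h0 : S (V3 X Y) Z = 0 ∨ S (V3 X Y) Z = 1) (hn : ¬ In8 (-(X * Y)) (-(Y * X)) (Z + Z + 1)) :
    R T (-(X * Y)) (-(Y * X)) Z := by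
  apply R.conj_i h.frame
  have h1 := S01_conj h.ii (S01_inv h0)
  rw [← h.conj_iX, neg_conj_conj h.ii] at h1
  exact adjX hT h hX hY (hT.conj_i h hX hY hZ) h1 (fun h' => hn (h'.conj_i h.frame))

theorem adjV2 (hT : Sys T) (h : Pair X Y) (hX : X ∈ T) (hY : Y ∈ T) {Z : A} (hZ : Z ∈ T)
    (h0 : S (V2 X Y) Z = 0 ∨ S (V2 X Y) Z = 1) (hn : ¬ In8 (-(X * Y)) (-(Y * X)) (Z + Z + 1)) :
    R T (-(X * Y)) (-(Y * X)) Z := by
  apply R.conj_j h.frame
  have h1 := S01_conj h.jj (S01_inv h0)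
  rw [← h.conj_jX, neg_conj_conj h.jj] at h1
  exact adjX hT h hX hY (hT.conj_j h hX hY hZ) h1 (fun h' => hn (h'.conj_j h.frame))

theorem adjY (hT : Sys T) (h : Pair X Y) (hX : X ∈ T) (hY : Y ∈ T) {Z : A} (hZ : Z ∈ T)
    (h0 : S Y Z = 0 ∨ S Y Z = 1) (hn : ¬ In8 (-(X * Y)) (-(Y * X)) (Z + Z + 1)) :
    R T (-(X * Y)) (-(Y * X)) Z := by
  apply R.conj_i h.frame
  have h1 := S01_conj h.ii h0
  have e : -((-(X * Y)) * Y * (-(X * Y))) = V2 X Y := by
    nth_rewrite 2 [← h.conj_iV2]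
    rw [neg_conj_conj h.ii]
  rw [e] at h1
  exact adjV2 hT h hX hY (hT.conj_i h hX hY hZ) h1 (fun h' => hn (h'.conj_i h.frame))

theorem dichot (hT : Sys T) (h : Pair X Y) (hX : X ∈ T) (hY : Y ∈ T) {Z : A} (hZ : Z ∈ T) :
    In8 (-(X * Y)) (-(Y * X)) (Z + Z + 1) ∨ R T (-(X * Y)) (-(Y * X)) Z ∨
    (S X Z * S X Z = S X Z + 1 ∧ S Y Z * S Y Z = S Y Z + 1 ∧ S (V2 X Y) Z * S (V2 X Y) Z = S (V2 X Y) Z + 1 ∧
      S (V3 X Y) Z * S (V3 X Y) Z = S (V3 X Y) Z + 1) := by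
  by_cases hn : In8 (-(X * Y)) (-(Y * X)) (Z + Z + 1)
  · exact Or.inl hn
  right
  have a0 := hT.alt hX hZ h.in8X hn
  have a1 := hT.alt hY hZ h.in8Y hn
  have a2 := hT.alt (hT.memV2 h hX hY) hZ h.in8V2 hn
  have a3 := hT.alt (hT.memV3 h hX hY) hZ h.in8V3 hn
  by_cases hR : R T (-(X * Y)) (-(Y * X)) Z
  · exact Or.inl hR
  right
  refine ⟨?_, ?_, ?_, ?_⟩
  · rcases a0 with a | a | a
    · exact absurd (adjX hT h hX hY hZ (Or.inl a) hn) hR
    · exact absurd (adjX hT h hX hY hZ (Or.inr a) hn) hR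
    · exact a
  · rcases a1 with a | a | a
    · exact absurd (adjY hT h hX hY hZ (Or.inl a) hn) hR
    · exact absurd (adjY hT h hX hY hZ (Or.inr a) hn) hR
    · exact a
  · rcases a2 with a | a | a
    · exact absurd (adjV2 hT h hX hY hZ (Or.inl a) hn) hR
    · exact absurd (adjV2 hT h hX hY hZ (Or.inr a) hn) hR
    · exact a
  · rcases a3 with a | a | a
    · exact absurd (adjV3 hT h hX hY hZ (Or.inl a) hn) hR
    · exact absurd (adjV3 hT h hX hY hZ (Or.inr a) hn) hR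
    · exact a


theorem type5_a {X Y : A} (hX : X * X = -1 - X) (hY : Y * Y = -1 - Y) (hs : S X Y * S X Y = S X Y + 1) :
    S X (Y * X * (-1 - Y)) = 0 := by
  obtain ⟨s, hsd⟩ : ∃ s, s = S X Y := ⟨_, rfl⟩
  have hXs : X * s = s * X := by
    rw [hsd]; unfold S; linear_combination (norm := noncomm_ring) hX * Y - Y * hX
  have hYs : Y * s = s * Y := by
    rw [hsd]; unfold S; linear_combination (norm := noncomm_ring) hY * X - X * hY
  rw [← hsd] at hs
  have hYX : Y * X = s - 1 - X - Y - X * Y := by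
    rw [hsd]; unfold S; noncomm_ring
  have hX' : ∀ b, X * (X * b) = -b - X * b := fun b => by rw [← mul_assoc, hX]; noncomm_ring
  have hY' : ∀ b, Y * (Y * b) = -b - Y * b := fun b => by rw [← mul_assoc, hY]; noncomm_ring
  have hYX' : ∀ b, Y * (X * b) = s * b - b - X * b - Y * b - X * (Y * b) := fun b => by
    rw [← mul_assoc, hYX]; noncomm_ring
  have hXs' : ∀ b, X * (s * b) = s * (X * b) := fun b => by rw [← mul_assoc, hXs, mul_assoc]
  have hYs' : ∀ b, Y * (s * b) = s * (Y * b) := fun b => by rw [← mul_assoc, hYs, mul_assoc]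
  have hs' : ∀ b, s * (s * b) = s * b + b := fun b => by rw [← mul_assoc, hs]; noncomm_ring
  unfold S
  simp only [mul_add, add_mul, mul_sub, sub_mul, mul_neg, neg_mul, mul_one, one_mul, mul_assoc,
    hX, hY, hYX, hX', hY', hYX', hXs, hYs, hXs', hYs', hs, hs']
  abel

theorem type5_b {X Y : A} (hX : X * X = -1 - X) (hY : Y * Y = -1 - Y) (hs : S X Y * S X Y = S X Y + 1) :
    S Y (X * (Y * X * (-1 - Y)) * (-1 - X)) = 0 := by
  obtain ⟨s, hsd⟩ : ∃ s, s = S X Y := ⟨_, rfl⟩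
  have hXs : X * s = s * X := by
    rw [hsd]; unfold S; linear_combination (norm := noncomm_ring) hX * Y - Y * hX
  have hYs : Y * s = s * Y := by
    rw [hsd]; unfold S; linear_combination (norm := noncomm_ring) hY * X - X * hY
  rw [← hsd] at hs
  have hYX : Y * X = s - 1 - X - Y - X * Y := by
    rw [hsd]; unfold S; noncomm_ring
  have hX' : ∀ b, X * (X * b) = -b - X * b := fun b => by rw [← mul_assoc, hX]; noncomm_ring
  have hY' : ∀ b, Y * (Y * b) = -b - Y * b := fun b => by rw [← mul_assoc, hY]; noncomm_ring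
  have hYX' : ∀ b, Y * (X * b) = s * b - b - X * b - Y * b - X * (Y * b) := fun b => by
    rw [← mul_assoc, hYX]; noncomm_ring
  have hXs' : ∀ b, X * (s * b) = s * (X * b) := fun b => by rw [← mul_assoc, hXs, mul_assoc]
  have hYs' : ∀ b, Y * (s * b) = s * (Y * b) := fun b => by rw [← mul_assoc, hYs, mul_assoc]
  have hs' : ∀ b, s * (s * b) = s * b + b := fun b => by rw [← mul_assoc, hs]; noncomm_ring
  unfold S
  simp only [mul_add, add_mul, mul_sub, sub_mul, mul_neg, neg_mul, mul_one, one_mul, mul_assoc,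
    hX, hY, hYX, hX', hY', hYX', hXs, hYs, hXs', hYs', hs, hs']
  abel

theorem gold_ne {s : A} (h : s * s = s + 1) : s ≠ 0 ∧ s ≠ 1 ∧ s ≠ -1 ∧ s ≠ 1 + 1 := by
  refine ⟨?_, ?_, ?_, ?_⟩
  · rintro rfl; exact not_gold_zero h
  · rintro rfl; exact not_gold_one h
  · rintro rfl; apply one_ne_zero (α := A); linear_combination (norm := noncomm_ring) h
  · rintro rfl; apply one_ne_zero (α := A); linear_combination (norm := noncomm_ring) h

/-- the elements of the tetrahedral configuration and their traces with `X` -/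
theorem Pair.of_in8 (h : Pair X Y) {Z : A} (h8 : In8 (-(X * Y)) (-(Y * X)) (Z + Z + 1)) :
    (S X Z = 0 ∧ (Z = Y ∨ Z = V2 X Y ∨ Z = V3 X Y)) ∨ S X Z = 1 ∨ S X Z = -1 ∨ S X Z = 1 + 1 := by
  obtain ⟨a, b, c, ha, hb, hc, hu⟩ := h8
  have o := Cm.one (-(X * Y)) (-(Y * X))
  have f := mul_form_sum h.frame o o o ha.cm hb.cm hc.cm h.UX hu
  rcases ha with rfl | rfl <;> rcases hb with rfl | rfl <;> rcases hc with rfl | rfl
  · right; right; left
    apply mul4_cancel; rw [f]; noncomm_ring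
  · left
    refine ⟨by apply mul4_cancel; rw [f]; noncomm_ring, Or.inl ?_⟩
    apply eq_of_U; rw [hu, h.UY]
  · left
    refine ⟨by apply mul4_cancel; rw [f]; noncomm_ring, Or.inr (Or.inl ?_)⟩
    apply eq_of_U; rw [hu, h.UV2]
  · right; left
    apply mul4_cancel; rw [f]; noncomm_ring
  · left
    refine ⟨by apply mul4_cancel; rw [f]; noncomm_ring, Or.inr (Or.inr ?_)⟩
    apply eq_of_U; rw [hu, h.UV3]
  · right; left
    apply mul4_cancel; rw [f]; noncomm_ring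
  · right; left
    apply mul4_cancel; rw [f]; noncomm_ring
  · right; right; right
    apply mul4_cancel; rw [f]; noncomm_ring


theorem dotA {i j φ V Z b' c' : A} (F : Frame i j) (hφ : Cm i j φ) (g : φ * φ = φ + 1)
    (hb : b' = φ - 1 ∨ b' = -(φ - 1)) (hc : c' = φ ∨ c' = -φ)
    (hV : V + V + 1 = i * φ + j * 0 + i * (j * (1 - φ))) (hZ : Z + Z + 1 = i * 0 + j * b' + i * (j * c')) :
    S V Z = 0 ∨ S V Z = 1 := by
  have z := Cm.zero i j
  have k := (Cm.one i j).sub hφ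
  have k' := hφ.sub (Cm.one i j)
  rcases hc with rfl | rfl
  · right
    rcases hb with rfl | rfl
    · have f := mul_form_sum F hφ z k z k' hφ hV hZ
      apply mul4_cancel; rw [f]
      linear_combination (norm := noncomm_ring) 2 * g
    · have f := mul_form_sum F hφ z k z k'.neg hφ hV hZ
      apply mul4_cancel; rw [f]
      linear_combination (norm := noncomm_ring) 2 * g
  · left
    rcases hb with rfl | rfl
    · have f := mul_form_sum F hφ z k z k' hφ.neg hV hZ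
      apply mul4_cancel; rw [f]
      linear_combination (norm := noncomm_ring) -(2 * g)
    · have f := mul_form_sum F hφ z k z k'.neg hφ.neg hV hZ
      apply mul4_cancel; rw [f]
      linear_combination (norm := noncomm_ring) -(2 * g)

theorem dotB {i j φ V Z b' c' : A} (F : Frame i j) (hφ : Cm i j φ) (g : φ * φ = φ + 1)
    (hb : b' = φ - 1 ∨ b' = -(φ - 1)) (hc : c' = φ ∨ c' = -φ)
    (hV : V + V + 1 = i * (1 - φ) + j * φ + i * (j * 0)) (hZ : Z + Z + 1 = i * c' + j * 0 + i * (j * b')) :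
    S V Z = 0 ∨ S V Z = 1 := by
  have z := Cm.zero i j
  have k := (Cm.one i j).sub hφ
  have k' := hφ.sub (Cm.one i j)
  rcases hc with rfl | rfl
  · right
    rcases hb with rfl | rfl
    · have f := mul_form_sum F k hφ z hφ z k' hV hZ
      apply mul4_cancel; rw [f]
      linear_combination (norm := noncomm_ring) 2 * g
    · have f := mul_form_sum F k hφ z hφ z k'.neg hV hZ
      apply mul4_cancel; rw [f]
      linear_combination (norm := noncomm_ring) 2 * g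
  · left
    rcases hb with rfl | rfl
    · have f := mul_form_sum F k hφ z hφ.neg z k' hV hZ
      apply mul4_cancel; rw [f]
      linear_combination (norm := noncomm_ring) -(2 * g)
    · have f := mul_form_sum F k hφ z hφ.neg z k'.neg hV hZ
      apply mul4_cancel; rw [f]
      linear_combination (norm := noncomm_ring) -(2 * g)

theorem dotC {i j φ V Z b' c' : A} (F : Frame i j) (hφ : Cm i j φ) (g : φ * φ = φ + 1)
    (hb : b' = φ - 1 ∨ b' = -(φ - 1)) (hc : c' = φ ∨ c' = -φ)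
    (hV : V + V + 1 = i * 0 + j * (1 - φ) + i * (j * φ)) (hZ : Z + Z + 1 = i * b' + j * c' + i * (j * 0)) :
    S V Z = 0 ∨ S V Z = 1 := by
  have z := Cm.zero i j
  have k := (Cm.one i j).sub hφ
  have k' := hφ.sub (Cm.one i j)
  rcases hc with rfl | rfl
  · right
    rcases hb with rfl | rfl
    · have f := mul_form_sum F z k hφ k' hφ z hV hZ
      apply mul4_cancel; rw [f]
      linear_combination (norm := noncomm_ring) 2 * g
    · have f := mul_form_sum F z k hφ k'.neg hφ z hV hZ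
      apply mul4_cancel; rw [f]
      linear_combination (norm := noncomm_ring) 2 * g
  · left
    rcases hb with rfl | rfl
    · have f := mul_form_sum F z k hφ k' hφ.neg z hV hZ
      apply mul4_cancel; rw [f]
      linear_combination (norm := noncomm_ring) -(2 * g)
    · have f := mul_form_sum F z k hφ k'.neg hφ.neg z hV hZ
      apply mul4_cancel; rw [f]
      linear_combination (norm := noncomm_ring) -(2 * g)

theorem no_third (hT : Sys T) (h : Pair X Y) (hX : X ∈ T) (hY : Y ∈ T) {Z : A} (hZ : Z ∈ T)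
    (g0 : S X Z * S X Z = S X Z + 1) (g1 : S Y Z * S Y Z = S Y Z + 1)
    (g2 : S (V2 X Y) Z * S (V2 X Y) Z = S (V2 X Y) Z + 1)
    (g3 : S (V3 X Y) Z * S (V3 X Y) Z = S (V3 X Y) Z + 1) : False := by
  have oX := hT.om X hX
  have oZ := hT.om Z hZ
  obtain ⟨X', hX'⟩ : ∃ X', X' = Z * X * (-1 - Z) := ⟨_, rfl⟩
  have mX' : X' ∈ T := by rw [hX']; exact hT.conj Z hZ X hX
  have s1 : S X X' = 0 := by rw [hX']; exact type5_a oX oZ g0
  have h' : Pair X X' := ⟨oX, hT.om X' mX', s1⟩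
  have s2 : S Z (V2 X X') = 0 := by rw [← h'.V2_eq, hX']; exact type5_b oX oZ g0
  rw [S_comm] at s2
  have hn1 : ¬ (X' = Y ∨ X' = V2 X Y ∨ X' = V3 X Y) := by
    rintro (e | e | e)
    · rw [e] at s2; exact (gold_ne g2).1 s2
    · have : V2 X X' = V3 X Y := by rw [← h'.V2_eq, e, h.V3_eq']
      rw [this] at s2; exact (gold_ne g3).1 s2
    · have : V2 X X' = Y := by rw [← h'.V2_eq, e, h.Y_eq']
      rw [this] at s2; exact (gold_ne g1).1 s2
  have hn2 : ¬ In8 (-(X * X')) (-(X' * X)) (Y + Y + 1) := by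
    intro h8
    have hS := h.hS
    rcases h'.of_in8 h8 with ⟨_, e | e | e⟩ | e | e | e
    · exact hn1 (Or.inl e.symm)
    · apply hn1; right; right
      rw [← h.V3_eq', ← h.V2_eq, e, h'.V3_eq', h'.Y_eq']
    · apply hn1; right; left
      rw [← h.V2_eq, e, h'.Y_eq']
    · rw [hS] at e; exact one_ne_zero e.symm
    · rw [hS] at e; exact one_ne_zero (α := A) (by linear_combination (norm := noncomm_ring) e)
    · rw [hS] at e; exact one_ne_zero (α := A) (two_tors e.symm)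
  have hn3 : ¬ In8 (-(X * X')) (-(X' * X)) (Z + Z + 1) := by
    intro h8
    rcases h'.of_in8 h8 with ⟨e, _⟩ | e | e | e
    · exact (gold_ne g0).1 e
    · exact (gold_ne g0).2.1 e
    · exact (gold_ne g0).2.2.1 e
    · exact (gold_ne g0).2.2.2 e
  obtain ⟨ψ, hψ, hZ12⟩ : R T (-(X * X')) (-(X' * X)) Z := by
    rcases dichot hT h' hX mX' hZ with e | e | e
    · exact absurd e hn3
    · exact e
    · exact absurd s2 (gold_ne e.2.2.1).1
  obtain ⟨φ, hφ, hY3⟩ := adj0 hT h' hX mX' hY h.hS hn2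
  have hu := Adj.uniq h'.frame hT (hT.clo h' hX mX') hφ hψ
  subst hu
  have cφ := hφ.cm
  have gφ := hφ.gold
  have z := Cm.zero (-(X * X')) (-(X' * X))
  have k := (Cm.one (-(X * X')) (-(X' * X))).sub cφ
  -- three elements of T8(X,Y) in the three forms
  have all3 : (∃ V, S V Z * S V Z = S V Z + 1 ∧ V + V + 1 = (-(X * X')) * 0 + (-(X' * X)) * (1 - φ) + (-(X * X')) * ((-(X' * X)) * φ)) ∧
      (∃ V, S V Z * S V Z = S V Z + 1 ∧ V + V + 1 = (-(X * X')) * φ + (-(X' * X)) * 0 + (-(X * X')) * ((-(X' * X)) * (1 - φ))) ∧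
      (∃ V, S V Z * S V Z = S V Z + 1 ∧ V + V + 1 = (-(X * X')) * (1 - φ) + (-(X' * X)) * φ + (-(X * X')) * ((-(X' * X)) * 0)) := by
    have P := h'.pf
    rcases hY3 with e | e | e
    · have e2 := P.conj_X' z k cφ e
      rw [h.V2_eq] at e2
      have e3 := P.conj_X' k cφ z e2
      rw [h.V3_eq'] at e3
      exact ⟨⟨Y, g1, e⟩, ⟨_, g3, e3⟩, ⟨_, g2, e2⟩⟩
    · have e2 := P.conj_X' cφ z k e
      rw [h.V2_eq] at e2
      have e3 := P.conj_X' z k cφ e2
      rw [h.V3_eq'] at e3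
      exact ⟨⟨_, g2, e2⟩, ⟨Y, g1, e⟩, ⟨_, g3, e3⟩⟩
    · have e2 := P.conj_X' k cφ z e
      rw [h.V2_eq] at e2
      have e3 := P.conj_X' cφ z k e2
      rw [h.V3_eq'] at e3
      exact ⟨⟨_, g3, e3⟩, ⟨_, g2, e2⟩, ⟨Y, g1, e⟩⟩
  obtain ⟨⟨W1, w1, W1'⟩, ⟨W2, w2, W2'⟩, ⟨W3, w3, W3'⟩⟩ := all3
  obtain ⟨a, b, c, hp, hz⟩ := hZ12
  rcases hp with ⟨rfl, p2, p3⟩ | ⟨rfl, p2, p3⟩ | ⟨rfl, p2, p3⟩
  · rcases dotA h'.frame cφ gφ p2 p3 W2' hz with e | e
    · exact (gold_ne w2).1 e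
    · exact (gold_ne w2).2.1 e
  · rcases dotB h'.frame cφ gφ p2 p3 W3' hz with e | e
    · exact (gold_ne w3).1 e
    · exact (gold_ne w3).2.1 e
  · rcases dotC h'.frame cφ gφ p2 p3 W1' hz with e | e
    · exact (gold_ne w1).1 e
    · exact (gold_ne w1).2.1 e

theorem dichot' (hT : Sys T) (h : Pair X Y) (hX : X ∈ T) (hY : Y ∈ T) {Z : A} (hZ : Z ∈ T) :
    In8 (-(X * Y)) (-(Y * X)) (Z + Z + 1) ∨ R T (-(X * Y)) (-(Y * X)) Z := by
  rcases dichot hT h hX hY hZ with e | e | ⟨g0, g1, g2, g3⟩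
  · exact Or.inl e
  · exact Or.inr e
  · exact (no_third hT h hX hY hZ g0 g1 g2 g3).elim


theorem Sys.mem_of_in8 (hT : Sys T) (h : Pair X Y) (hX : X ∈ T) (hY : Y ∈ T) {Z : A}
    (h8 : In8 (-(X * Y)) (-(Y * X)) (Z + Z + 1)) : Z ∈ T := by
  have key : ∀ V, V ∈ T → ∀ Z, (Z + Z + 1 = V + V + 1 ∨ Z + Z + 1 = -(V + V + 1)) → Z ∈ T := by
    rintro V hV Z (e | e)
    · rwa [eq_of_U e]
    · have : Z = -1 - V := eq_of_U (by rw [e]; noncomm_ring)
      rw [this]; exact hT.inv V hV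
  obtain ⟨a, b, c, ha, hb, hc, hu⟩ := h8
  rcases ha with rfl | rfl <;> rcases hb with rfl | rfl <;> rcases hc with rfl | rfl
  · exact key X hX Z (Or.inl (by rw [hu, h.UX]))
  · exact key Y hY Z (Or.inl (by rw [hu, h.UY]))
  · exact key _ (hT.memV2 h hX hY) Z (Or.inl (by rw [hu, h.UV2]))
  · exact key _ (hT.memV3 h hX hY) Z (Or.inr (by rw [hu, h.UV3]; noncomm_ring))
  · exact key _ (hT.memV3 h hX hY) Z (Or.inl (by rw [hu, h.UV3]))
  · exact key _ (hT.memV2 h hX hY) Z (Or.inr (by rw [hu, h.UV2]; noncomm_ring))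
  · exact key Y hY Z (Or.inr (by rw [hu, h.UY]; noncomm_ring))
  · exact key X hX Z (Or.inr (by rw [hu, h.UX]; noncomm_ring))

theorem Adj.mem_of_in12 {i j φ : A} (C : Clo T i j) (h : Adj T i j φ) {Z : A}
    (h12 : In12 i j φ (Z + Z + 1)) : Z ∈ T := by
  have z := Cm.zero i j
  have cφ := h.cm
  have k := cφ.sub (Cm.one i j)
  have all0 : ∀ b c, (b = φ - 1 ∨ b = -(φ - 1)) → (c = φ ∨ c = -φ) → Has T i j 0 b c ∧ Cm i j b ∧ Cm i j c := by
    rintro b c (rfl | rfl) (rfl | rfl)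
    · exact ⟨h.has, k, cφ⟩
    · have := C.cj _ _ _ z k cφ h.has
      rw [neg_zero] at this
      exact ⟨this, k, cφ.neg⟩
    · have := C.inv _ _ _ (C.cj _ _ _ z k cφ h.has)
      rw [neg_zero, neg_zero, neg_neg] at this
      exact ⟨this, k.neg, cφ⟩
    · exact ⟨C.ci _ _ _ z k cφ h.has, k.neg, cφ.neg⟩
  have fin : ∀ a b c, Pat φ a b c → Has T i j a b c := by
    rintro a b c (⟨rfl, p2, p3⟩ | ⟨rfl, p2, p3⟩ | ⟨rfl, p2, p3⟩)
    · exact (all0 _ _ p2 p3).1
    · obtain ⟨q1, q2, q3⟩ := all0 _ _ p2 p3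
      exact C.cx _ _ _ q2 q3 z (C.cx _ _ _ z q2 q3 q1)
    · obtain ⟨q1, q2, q3⟩ := all0 _ _ p2 p3
      exact C.cx _ _ _ z q2 q3 q1
  obtain ⟨a, b, c, hp, hu⟩ := h12
  obtain ⟨V, hV, hVu⟩ := fin a b c hp
  rwa [eq_of_U (hu.trans hVu.symm)]

/-- The classification of systems of elements of order three. -/
theorem main (hT : Sys T) :
    (∃ X, T ⊆ {X, -1 - X}) ∨
    (∃ X Y, X ∈ T ∧ Y ∈ T ∧ Pair X Y ∧ ∀ Z ∈ T, In8 (-(X * Y)) (-(Y * X)) (Z + Z + 1)) ∨
    (∃ X Y φ, X ∈ T ∧ Y ∈ T ∧ Pair X Y ∧ Cm (-(X * Y)) (-(Y * X)) φ ∧ φ * φ = φ + 1 ∧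
      ∀ Z, Z ∈ T ↔ (In8 (-(X * Y)) (-(Y * X)) (Z + Z + 1) ∨ In12 (-(X * Y)) (-(Y * X)) φ (Z + Z + 1))) := by
  by_cases hne : ∃ X, X ∈ T
  swap
  · left
    exact ⟨0, fun Z hZ => (hne ⟨Z, hZ⟩).elim⟩
  obtain ⟨X, hX⟩ := hne
  by_cases hall : T ⊆ {X, -1 - X}
  · exact Or.inl ⟨X, hall⟩
  right
  have hpair : ∃ Y ∈ T, Pair X Y := by
    obtain ⟨Z, hZ, hZ2⟩ := Set.not_subset.mp hall
    have n1 : Z ≠ X := fun h => hZ2 (by rw [h]; exact Set.mem_insert _ _)
    have n2 : Z ≠ -1 - X := fun h => hZ2 (by rw [h]; exact Set.mem_insert_of_mem _ rfl)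
    rcases hT.pair X hX Z hZ with e | e | e | e | e
    · exact absurd e n1
    · exact absurd e n2
    · exact ⟨Z, hZ, hT.om X hX, hT.om Z hZ, e⟩
    · refine ⟨-1 - Z, hT.inv Z hZ, hT.om X hX, hT.om _ (hT.inv Z hZ), ?_⟩
      rw [S_inv_right, e, sub_self]
    · exact ⟨Z * X * (-1 - Z), hT.conj Z hZ X hX, hT.om X hX, hT.om _ (hT.conj Z hZ X hX),
        type5_a (hT.om X hX) (hT.om Z hZ) e⟩
  obtain ⟨Y, hY, h⟩ := hpair
  by_cases h8 : ∀ Z ∈ T, In8 (-(X * Y)) (-(Y * X)) (Z + Z + 1)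
  · exact Or.inl ⟨X, Y, hX, hY, h, h8⟩
  right
  push Not at h8
  obtain ⟨W, hW, hW8⟩ := h8
  obtain ⟨φ, hφ, -⟩ := (dichot' hT h hX hY hW).resolve_left hW8
  refine ⟨X, Y, φ, hX, hY, h, hφ.cm, hφ.gold, fun Z => ⟨fun hZ => ?_, ?_⟩⟩
  · rcases dichot' hT h hX hY hZ with e | ⟨ψ, h1, h2⟩
    · exact Or.inl e
    · right
      rwa [Adj.uniq h.frame hT (hT.clo h hX hY) hφ h1]
  · rintro (e | e)
    · exact hT.mem_of_in8 h hX hY e
    · exact hφ.mem_of_in12 (hT.clo h hX hY) e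

end H74.Ico
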