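import Cfsg.Agent.Lib.H74.Ico2
set_option autoImplicit false
set_option linter.unusedSimpArgs false
set_option linter.unusedVariables false
set_option linter.unusedSectionVars false

open Quaternion

namespace H74.Ico

instance factGold : Fact (∀ r : ℚ, r ^ 2 ≠ 1 + 1 * r) := ⟨fun r hr => by
  have h1 : (2 * r - 1) ^ 2 = 5 := by linear_combination 4 * hr
  have h5 : Irrational (Real.sqrt 5) := by
    have := Nat.Prime.irrational_sqrt (show Nat.Prime 5 by norm_num)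
    exact_mod_cast this
  apply h5
  refine ⟨|2 * r - 1|, ?_⟩
  have h2 : ((2 * r - 1 : ℚ) : ℝ) ^ 2 = 5 := by exact_mod_cast h1
  rw [Rat.cast_abs, ← Real.sqrt_sq_eq_abs, h2]⟩

abbrev K5 := QuadraticAlgebra ℚ 1 1

noncomputable section

variable {A : Type*} [Ring A] [Algebra ℚ A]

def th (φ : A) (h : φ * φ = φ + 1) : K5 →ₐ[ℚ] A :=
  QuadraticAlgebra.lift ⟨φ, by rw [one_smul, one_smul, h, add_comm]⟩

theorem th_apply (φ : A) (h : φ * φ = φ + 1) (z : K5) : th φ h z = z.re • 1 + z.im • φ := rfl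

theorem th_omega (φ : A) (h : φ * φ = φ + 1) : th φ h QuadraticAlgebra.omega = φ := by
  rw [th_apply]; simp

theorem th_cm {i j φ : A} (hφ : Cm i j φ) (h : φ * φ = φ + 1) (z : K5) : Cm i j (th φ h z) := by
  rw [th_apply]
  constructor
  · simp only [add_mul, mul_add, smul_mul_assoc, mul_smul_comm, hφ.ci, one_mul, mul_one]
  · simp only [add_mul, mul_add, smul_mul_assoc, mul_smul_comm, hφ.cj, one_mul, mul_one]

def Psi {i j φ : A} (F : Frame i j) (hφ : Cm i j φ) (h : φ * φ = φ + 1) : ℍ[K5] →+* A where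
  toFun q := th φ h q.re + i * th φ h q.imI + j * th φ h q.imJ + i * (j * th φ h q.imK)
  map_one' := by simp
  map_zero' := by simp
  map_add' := by
    intro a b
    simp only [Quaternion.re_add, Quaternion.imI_add, Quaternion.imJ_add, Quaternion.imK_add, map_add, mul_add]
    abel
  map_mul' := by
    intro a b
    have hi := F.hi
    have hj := F.hj
    have hji := F.hji
    have hii := assoc_of hi
    have hjj := assoc_of hj
    have hjii := assoc_of hji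
    have c : ∀ z, th φ h z * i = i * th φ h z := fun z => (th_cm hφ h z).ci
    have d : ∀ z, th φ h z * j = j * th φ h z := fun z => (th_cm hφ h z).cj
    have c' : ∀ z x, th φ h z * (i * x) = i * (th φ h z * x) := fun z x => by rw [← mul_assoc, c, mul_assoc]
    have d' : ∀ z x, th φ h z * (j * x) = j * (th φ h z * x) := fun z x => by rw [← mul_assoc, d, mul_assoc]
    simp only [Quaternion.re_mul, Quaternion.imI_mul, Quaternion.imJ_mul, Quaternion.imK_mul, map_add, map_sub, map_mul,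
      mul_add, add_mul, mul_sub, sub_mul, mul_assoc, c, d, c', d', hi, hj, hji, hii, hjj, hjii, mul_neg, neg_mul,
      neg_neg, one_mul, mul_one]
    abel

theorem Psi_apply {i j φ : A} (F : Frame i j) (hφ : Cm i j φ) (h : φ * φ = φ + 1) (q : ℍ[K5]) :
    Psi F hφ h q = th φ h q.re + i * th φ h q.imI + j * th φ h q.imJ + i * (j * th φ h q.imK) := rfl

theorem Psi_injective [Nontrivial A] {i j φ : A} (F : Frame i j) (hφ : Cm i j φ) (h : φ * φ = φ + 1) :
    Function.Injective (Psi F hφ h) := by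
  rw [injective_iff_map_eq_zero]
  intro q hq
  rw [Psi_apply] at hq
  obtain ⟨h0, h1, h2, h3⟩ := F.indep (th_cm hφ h _) (th_cm hφ h _) (th_cm hφ h _) (th_cm hφ h _) hq
  have inj : Function.Injective (th φ h) := (th φ h).toRingHom.injective
  ext1
  · exact inj (by rw [h0]; simp)
  · exact inj (by rw [h1]; simp)
  · exact inj (by rw [h2]; simp)
  · exact inj (by rw [h3]; simp)

/-- the model of the configuration with twenty elements -/
def qi : ℍ[K5] := ⟨0, 1, 0, 0⟩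
def qj : ℍ[K5] := ⟨0, 0, 1, 0⟩
def qf : ℍ[K5] := ⟨QuadraticAlgebra.omega, 0, 0, 0⟩

@[simp] theorem qi_re : qi.re = 0 := rfl
@[simp] theorem qi_i : qi.imI = 1 := rfl
@[simp] theorem qi_j : qi.imJ = 0 := rfl
@[simp] theorem qi_k : qi.imK = 0 := rfl
@[simp] theorem qj_re : qj.re = 0 := rfl
@[simp] theorem qj_i : qj.imI = 0 := rfl
@[simp] theorem qj_j : qj.imJ = 1 := rfl
@[simp] theorem qj_k : qj.imK = 0 := rfl
@[simp] theorem qf_re : qf.re = QuadraticAlgebra.omega := rfl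
@[simp] theorem qf_i : qf.imI = 0 := rfl
@[simp] theorem qf_j : qf.imJ = 0 := rfl
@[simp] theorem qf_k : qf.imK = 0 := rfl

theorem qframe : Frame qi qj := by
  constructor <;> apply Quaternion.ext <;> simp

theorem qf_cm : Cm qi qj qf := by
  constructor <;> apply Quaternion.ext <;> simp

theorem om_om : (QuadraticAlgebra.omega : K5) * QuadraticAlgebra.omega = QuadraticAlgebra.omega + 1 := by
  rw [QuadraticAlgebra.omega_mul_omega_eq_add, one_smul, one_smul, add_comm]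

theorem qf_gold : qf * qf = qf + 1 := by
  apply Quaternion.ext
  · simp [om_om]
  · simp
  · simp
  · simp

variable [Nontrivial A] {i j φ : A} (F : Frame i j) (hφ : Cm i j φ) (h : φ * φ = φ + 1)

theorem Psi_qi : Psi F hφ h qi = i := by rw [Psi_apply]; simp [qi]
theorem Psi_qj : Psi F hφ h qj = j := by rw [Psi_apply]; simp [qj]
theorem Psi_qf : Psi F hφ h qf = φ := by rw [Psi_apply]; simp [qf, th_omega]


def T0 : Set (ℍ[K5]) := {Z | In8 qi qj (Z + Z + 1) ∨ In12 qi qj qf (Z + Z + 1)}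

theorem map_SP {B : Type*} [Ring B] (f : B →+* A) {a : B} (h : SP a) : SP (f a) := by
  rcases h with h | h
  · left; rw [h, map_one]
  · right; rw [h, map_neg, map_one]

theorem map_Pat {B : Type*} [Ring B] (f : B →+* A) {φ a b c : B} (h : Pat φ a b c) :
    Pat (f φ) (f a) (f b) (f c) := by
  have key : ∀ x y : B, (x = y ∨ x = -y) → (f x = f y ∨ f x = -(f y)) := by
    rintro x y (h | h)
    · left; rw [h]
    · right; rw [h, map_neg]
  have key2 : ∀ x : B, (x = φ - 1 ∨ x = -(φ - 1)) → (f x = f φ - 1 ∨ f x = -(f φ - 1)) := by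
    intro x hx
    have := key x _ hx
    rwa [map_sub, map_one] at this
  rcases h with ⟨h1, h2, h3⟩ | ⟨h1, h2, h3⟩ | ⟨h1, h2, h3⟩
  · exact Or.inl ⟨by rw [h1, map_zero], key2 _ h2, key _ _ h3⟩
  · exact Or.inr (Or.inl ⟨by rw [h1, map_zero], key2 _ h2, key _ _ h3⟩)
  · exact Or.inr (Or.inr ⟨by rw [h1, map_zero], key2 _ h2, key _ _ h3⟩)

theorem Psi_T0 {Z : ℍ[K5]} (hZ : Z ∈ T0) :
    In8 i j (Psi F hφ h Z + Psi F hφ h Z + 1) ∨ In12 i j φ (Psi F hφ h Z + Psi F hφ h Z + 1) := by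
  have e : Psi F hφ h Z + Psi F hφ h Z + 1 = Psi F hφ h (Z + Z + 1) := by simp
  rw [e]
  rcases hZ with ⟨a, b, c, ha, hb, hc, hu⟩ | ⟨a, b, c, hp, hu⟩
  · left
    refine ⟨_, _, _, map_SP (Psi F hφ h) ha, map_SP (Psi F hφ h) hb, map_SP (Psi F hφ h) hc, ?_⟩
    rw [hu]; simp only [map_add, map_mul, Psi_qi, Psi_qj]
  · right
    have := map_Pat (Psi F hφ h) hp
    rw [Psi_qf] at this
    refine ⟨_, _, _, this, ?_⟩
    rw [hu]; simp only [map_add, map_mul, Psi_qi, Psi_qj]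

theorem lift_SP {a : A} (ha : SP a) : ∃ a0 : ℍ[K5], SP a0 ∧ Psi F hφ h a0 = a := by
  rcases ha with rfl | rfl
  · exact ⟨1, Or.inl rfl, map_one _⟩
  · exact ⟨-1, Or.inr rfl, by rw [map_neg, map_one]⟩

theorem lift_Pat {a b c : A} (hp : Pat φ a b c) : ∃ a0 b0 c0 : ℍ[K5], Pat qf a0 b0 c0 ∧
    Psi F hφ h a0 = a ∧ Psi F hφ h b0 = b ∧ Psi F hφ h c0 = c := by
  have key1 : ∀ x : A, (x = φ ∨ x = -φ) → ∃ x0 : ℍ[K5], (x0 = qf ∨ x0 = -qf) ∧ Psi F hφ h x0 = x := by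
    rintro x (rfl | rfl)
    · exact ⟨qf, Or.inl rfl, Psi_qf F hφ h⟩
    · exact ⟨-qf, Or.inr rfl, by rw [map_neg, Psi_qf]⟩
  have key2 : ∀ x : A, (x = φ - 1 ∨ x = -(φ - 1)) →
      ∃ x0 : ℍ[K5], (x0 = qf - 1 ∨ x0 = -(qf - 1)) ∧ Psi F hφ h x0 = x := by
    rintro x (rfl | rfl)
    · exact ⟨qf - 1, Or.inl rfl, by rw [map_sub, map_one, Psi_qf]⟩
    · exact ⟨-(qf - 1), Or.inr rfl, by rw [map_neg, map_sub, map_one, Psi_qf]⟩
  rcases hp with ⟨h1, h2, h3⟩ | ⟨h1, h2, h3⟩ | ⟨h1, h2, h3⟩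
  · obtain ⟨y, y1, y2⟩ := key2 _ h2
    obtain ⟨z, z1, z2⟩ := key1 _ h3
    exact ⟨0, y, z, Or.inl ⟨rfl, y1, z1⟩, by rw [h1, map_zero], y2, z2⟩
  · obtain ⟨y, y1, y2⟩ := key2 _ h2
    obtain ⟨z, z1, z2⟩ := key1 _ h3
    exact ⟨z, 0, y, Or.inr (Or.inl ⟨rfl, y1, z1⟩), z2, by rw [h1, map_zero], y2⟩
  · obtain ⟨y, y1, y2⟩ := key2 _ h2
    obtain ⟨z, z1, z2⟩ := key1 _ h3
    exact ⟨y, z, 0, Or.inr (Or.inr ⟨rfl, y1, z1⟩), y2, z2, by rw [h1, map_zero]⟩

def half : ℍ[K5] := ((⟨1 / 2, 0⟩ : K5) : ℍ[K5])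

theorem half_add : half + half = 1 := by
  unfold half
  rw [← Quaternion.coe_add]
  have : (⟨1 / 2, 0⟩ : K5) + ⟨1 / 2, 0⟩ = 1 := by
    apply QuadraticAlgebra.ext
    · change (1 / 2 : ℚ) + 1 / 2 = 1; norm_num
    · change (0 : ℚ) + 0 = 0; norm_num
  rw [this, Quaternion.coe_one]

theorem lift_T0 {Z : A} (hZ : In8 i j (Z + Z + 1) ∨ In12 i j φ (Z + Z + 1)) :
    ∃ Z0 ∈ T0, Psi F hφ h Z0 = Z := by
  have key : ∀ u0 : ℍ[K5], Psi F hφ h u0 = Z + Z + 1 → ∃ Z0 : ℍ[K5], Z0 + Z0 + 1 = u0 ∧ Psi F hφ h Z0 = Z := by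
    intro u0 hu
    have e : half * (u0 - 1) + half * (u0 - 1) + 1 = u0 := by
      rw [← add_mul, half_add, one_mul, sub_add_cancel]
    refine ⟨half * (u0 - 1), e, ?_⟩
    apply eq_of_U
    rw [← hu]
    nth_rewrite 3 [← e]
    simp
  rcases hZ with ⟨a, b, c, ha, hb, hc, hu⟩ | ⟨a, b, c, hp, hu⟩
  · obtain ⟨a0, a1, a2⟩ := lift_SP F hφ h ha
    obtain ⟨b0, b1, b2⟩ := lift_SP F hφ h hb
    obtain ⟨c0, c1, c2⟩ := lift_SP F hφ h hc
    obtain ⟨Z0, z1, z2⟩ := key (qi * a0 + qj * b0 + qi * (qj * c0)) (by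
      rw [hu]; simp only [map_add, map_mul, Psi_qi, Psi_qj, a2, b2, c2])
    exact ⟨Z0, Or.inl ⟨a0, b0, c0, a1, b1, c1, z1⟩, z2⟩
  · obtain ⟨a0, b0, c0, hp0, a2, b2, c2⟩ := lift_Pat F hφ h hp
    obtain ⟨Z0, z1, z2⟩ := key (qi * a0 + qj * b0 + qi * (qj * c0)) (by
      rw [hu]; simp only [map_add, map_mul, Psi_qi, Psi_qj, a2, b2, c2])
    exact ⟨Z0, Or.inr ⟨a0, b0, c0, hp0, z1⟩, z2⟩

/-- the binary icosahedral group as a subgroup of the units of the quaternions over `ℚ(√5)` -/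
def H0 : Subgroup (ℍ[K5])ˣ := Subgroup.closure {v | (v : ℍ[K5]) ∈ T0}

include F hφ h in
theorem iso_H0 {G : Type*} [Group G] (ρ : G →* A) (hρ : Function.Injective ρ) (D : Set G)
    (hom : ∀ x ∈ D, ρ x * ρ x = -1 - ρ x)
    (hD : ∀ Z : A, Z ∈ ρ '' D ↔ (In8 i j (Z + Z + 1) ∨ In12 i j φ (Z + Z + 1))) :
    Nonempty (Subgroup.closure D ≃* H0) := by
  let Ψ := Psi F hφ h
  have hΨ : Function.Injective Ψ := Psi_injective F hφ h
  let ρu : G →* Aˣ := ρ.toHomUnits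
  have hρu : Function.Injective ρu := by
    intro a b hab
    apply hρ
    have := congrArg (fun u : Aˣ => (u : A)) hab
    simpa [ρu] using this
  let Ψu : (ℍ[K5])ˣ →* Aˣ := Units.map (Ψ : ℍ[K5] →* A)
  have hΨu : Function.Injective Ψu := Units.map_injective hΨ
  have himg : ρu '' D = Ψu '' {v | (v : ℍ[K5]) ∈ T0} := by
    ext u
    constructor
    · rintro ⟨x, hx, rfl⟩
      obtain ⟨Z0, hZ0, hZ1⟩ := lift_T0 F hφ h ((hD (ρ x)).mp ⟨x, hx, rfl⟩)
      have h1 : Z0 * (-1 - Z0) = 1 := by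
        apply hΨ
        change Psi F hφ h _ = Psi F hφ h _
        rw [map_mul, map_sub, map_neg, map_one, hZ1]
        exact inv_mul (hom x hx)
      have h2 : (-1 - Z0) * Z0 = 1 := by
        apply hΨ
        change Psi F hφ h _ = Psi F hφ h _
        rw [map_mul, map_sub, map_neg, map_one, hZ1]
        exact mul_inv' (hom x hx)
      refine ⟨⟨Z0, -1 - Z0, h1, h2⟩, hZ0, ?_⟩
      apply Units.ext
      exact hZ1
    · rintro ⟨v, hv, rfl⟩
      obtain ⟨x, hx, hx'⟩ := (hD (Ψ v)).mpr (Psi_T0 F hφ h hv)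
      refine ⟨x, hx, ?_⟩
      apply Units.ext
      exact hx'
  have e1 : (Subgroup.closure D).map ρu = H0.map Ψu := by
    rw [H0, MonoidHom.map_closure, MonoidHom.map_closure, himg]
  exact ⟨((Subgroup.closure D).equivMapOfInjective ρu hρu).trans
    ((MulEquiv.subgroupCongr e1).trans (H0.equivMapOfInjective Ψu hΨu).symm)⟩

end

end H74.Ico
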