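import Mathlib
import Cfsg.Agent.Lib.H18.CharPerm
import Cfsg.Agent.Lib.H18.CharCentral

/-!
An abelian subgroup `B` containing the centralisers of its nontrivial elements, and an element `x`
with `|G| = |B| |C(x)|`, no conjugate of `x` being in `B`: either all conjugates of `x` commute
with `x`, or none but `x` itself.
-/
set_option autoImplicit false
set_option linter.unusedSectionVars false

namespace H74.Ito1

open Cfsg H18.CharBasic H18.CharOrtho H18.CharInd H18.CharPerm H18.CharCentral
open scoped ComplexConjugate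

universe u

variable {G : Type u} [Group G] [Fintype G]

/-- the hypotheses on `B` -/
structure Ab (B : Subgroup G) : Prop where
  comm : ∀ a ∈ B, ∀ b ∈ B, a * b = b * a
  cent : ∀ b ∈ B, b ≠ 1 → ∀ y : G, y * b = b * y → y ∈ B

variable {B : Subgroup G}

theorem Ab.norm (h : Ab B) {g u : G} (hu : u ∈ B) (hu1 : u ≠ 1) (hg : g⁻¹ * u * g ∈ B) :
    g ∈ Subgroup.normalizer (B : Set G) := by
  have h1 : ∀ b ∈ B, g * b * g⁻¹ ∈ B := by
    intro b hb
    apply h.cent u hu hu1
    have h2 := h.comm _ hg _ hb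
    calc g * b * g⁻¹ * u = g * (b * (g⁻¹ * u * g)) * g⁻¹ := by group
      _ = g * ((g⁻¹ * u * g) * b) * g⁻¹ := by rw [h2]
      _ = u * (g * b * g⁻¹) := by group
  have h2 : B.map (MulAut.conj g).toMonoidHom = B := by
    apply Subgroup.eq_of_le_of_card_ge
    · rintro _ ⟨b, hb, rfl⟩
      exact h1 b hb
    · rw [Subgroup.card_map_of_injective (MulEquiv.injective _)]
  rw [Subgroup.mem_normalizer_iff]
  intro b
  constructor
  · exact h1 b
  · intro hb
    have h3 : g * b * g⁻¹ ∈ (B : Set G) := hb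
    rw [← h2] at h3
    obtain ⟨c, hc, hce⟩ := h3
    have h4 : g * c * g⁻¹ = g * b * g⁻¹ := hce
    have h5 : c = b := by
      have := mul_right_cancel h4
      exact mul_left_cancel this
    rwa [← h5]

theorem Ab.comm' (h : Ab B) (a b : B) : a * b = b * a := Subtype.ext (h.comm a a.2 b b.2)

/-- conjugation action on functions -/
noncomputable def tw (θ : B → ℂ) (g : G) : B → ℂ := fun b => extendByZero B θ (g⁻¹ * b * g)

theorem tw_apply (θ : B → ℂ) {g : G} (hg : g ∈ Subgroup.normalizer (B : Set G)) (b : B) :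
    tw θ g b = θ ⟨g⁻¹ * b * g, by
      have := (Subgroup.mem_normalizer_iff.mp
        ((Subgroup.normalizer (B : Set G)).inv_mem hg) b).mp b.2
      simpa using this⟩ := ext_mem _ _ _

theorem tw_irr {θ : B → ℂ} (hθ : IsIrrCharacter B θ) {g : G}
    (hg : g ∈ Subgroup.normalizer (B : Set G)) : IsIrrCharacter B (tw θ g) := by
  let f : B →* B :=
    { toFun := fun b => ⟨g⁻¹ * b * g, by
        have := (Subgroup.mem_normalizer_iff.mp
          ((Subgroup.normalizer (B : Set G)).inv_mem hg) b).mp b.2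
        simpa using this⟩
      map_one' := by ext; simp
      map_mul' := by intro a b; ext; simp [mul_assoc] }
  have hf : Function.Surjective f := by
    apply Finite.surjective_of_injective
    intro a b hab
    have h1 : g⁻¹ * (a : G) * g = g⁻¹ * b * g := congrArg Subtype.val hab
    exact Subtype.ext (mul_left_cancel (mul_right_cancel h1))
  have h1 := isIrrCharacter_comp f hf hθ
  have h2 : tw θ g = fun b => θ (f b) := by
    funext b
    exact tw_apply θ hg b
  rw [h2]
  exact h1

theorem tw_sub (θ η : B → ℂ) (g : G) : tw (θ - η) g = tw θ g - tw η g := by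
  funext b
  simp only [tw, Pi.sub_apply]
  by_cases h : g⁻¹ * (b : G) * g ∈ B
  · simp [ext_mem _ _ h]
  · simp [ext_notMem _ _ h]

theorem tw_of_mem (h : Ab B) (θ : B → ℂ) {g : G} (hg : g ∈ B) : tw θ g = θ := by
  funext b
  have h1 : g⁻¹ * (b : G) * g = b := by
    rw [mul_assoc, h.comm b b.2 g hg, inv_mul_cancel_left]
  simp only [tw]
  rw [h1, ext_coe]

/-- outside `B` the conjugation moves every nonprincipal linear character -/
theorem tw_ne (h : Ab B) {θ : B → ℂ} (hθ : IsIrrCharacter B θ) (h1 : θ ≠ fun _ => 1) {g : G}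
    (hg : g ∈ Subgroup.normalizer (B : Set G)) (hgB : g ∉ B) : θ ≠ tw θ g := by
  intro heq
  obtain ⟨f, rfl⟩ := exists_hom_of_isIrr_of_comm h.comm' hθ
  apply h1
  have hg' : ∀ b : B, g⁻¹ * (b : G) * g ∈ B := fun b => by
    have := (Subgroup.mem_normalizer_iff.mp
      ((Subgroup.normalizer (B : Set G)).inv_mem hg) b).mp b.2
    simpa using this
  let F : B → B := fun b => b⁻¹ * ⟨g⁻¹ * b * g, hg' b⟩
  have hF : Function.Injective F := by
    intro a b hab
    have h2 : (a : G)⁻¹ * (g⁻¹ * a * g) = (b : G)⁻¹ * (g⁻¹ * b * g) := congrArg Subtype.val hab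
    by_contra hne
    apply hgB
    have hne' : (b : G) * (a : G)⁻¹ ≠ 1 := by
      intro h3
      exact hne (Subtype.ext (mul_inv_eq_one.mp h3).symm)
    have h4 : g⁻¹ ∈ B := by
      apply h.cent ((b : G) * (a : G)⁻¹) (B.mul_mem b.2 (B.inv_mem a.2)) hne'
      have h5 : g⁻¹ * (a : G) * g = (a : G) * (b : G)⁻¹ * (g⁻¹ * b * g) := by
        rw [mul_assoc (a : G), ← h2, mul_inv_cancel_left]
      have h6 : (b : G) * (a : G)⁻¹ * (g⁻¹ * a * g) = g⁻¹ * b * g := by
        rw [h5]; group
      calc g⁻¹ * ((b : G) * (a : G)⁻¹) = (g⁻¹ * b * g) * (g⁻¹ * (a : G)⁻¹ * g) * g⁻¹ := by group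
        _ = (b : G) * (a : G)⁻¹ * (g⁻¹ * a * g) * (g⁻¹ * (a : G)⁻¹ * g) * g⁻¹ := by rw [h6]
        _ = (b : G) * (a : G)⁻¹ * g⁻¹ := by group
    simpa using B.inv_mem h4
  have hFs : Function.Surjective F := Finite.surjective_of_injective hF
  funext c
  obtain ⟨b, rfl⟩ := hFs c
  have h2 := congrFun heq b
  rw [tw_apply _ hg] at h2
  simp only [F, map_mul, map_inv]
  rw [Units.val_mul, ← h2, ← Units.val_mul, inv_mul_cancel, Units.val_one]

theorem inner_re_nonneg {X : Type u} [Group X] [Fintype X] {χ ψ : X → ℂ} (h : IsIrrCharacter X χ)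
    (h' : IsIrrCharacter X ψ) : 0 ≤ (classInner χ ψ).re := by
  classical
  rw [inner_irr h h']
  split_ifs <;> simp

/-- the norm of the induced difference -/
theorem norm_le [Fintype B] (h : Ab B) {θ η : B → ℂ} (hθ : IsIrrCharacter B θ)
    (hη : IsIrrCharacter B η) (h1 : θ ≠ fun _ => 1) (h2 : η ≠ fun _ => 1) :
    (classInner (indFun B (θ - η)) (indFun B (θ - η))).re ≤ 2 := by
  classical
  obtain ⟨fθ, hfθ⟩ := exists_hom_of_isIrr_of_comm h.comm' hθ
  obtain ⟨fη, hfη⟩ := exists_hom_of_isIrr_of_comm h.comm' hη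
  have hone : extendByZero B (θ - η) 1 = 0 := by
    have := ext_coe B (θ - η) 1
    rw [Subgroup.coe_one] at this
    rw [this, hfθ, hfη]; simp
  -- the restriction of the induced function
  have hres : (fun b : B => indFun B (θ - η) b) = (Nat.card B : ℂ)⁻¹ •
      ∑ g : G, if g ∈ Subgroup.normalizer (B : Set G) then tw (θ - η) g else 0 := by
    funext b
    rw [indFun_apply, Pi.smul_apply, smul_eq_mul, Finset.sum_apply]
    congr 1
    refine Finset.sum_congr rfl fun g _ => ?_
    split_ifs with hg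
    · rfl
    · rw [Pi.zero_apply]
      by_cases hb1 : (b : G) = 1
      · rw [hb1]; simp only [mul_one, inv_mul_cancel]; exact hone
      · apply ext_notMem
        intro hmem
        exact hg (h.norm b.2 hb1 hmem)
  rw [frobenius B _ (isClassFunction_indFun _ _), hres, H18.CharOrtho.inner_smul_right,
    inner_sum_right]
  have hB : (Nat.card B : ℝ) ≠ 0 := by exact_mod_cast (Nat.card_pos (α := B)).ne'
  have hconj : conj ((Nat.card B : ℂ)⁻¹) = (((Nat.card B : ℝ)⁻¹ : ℝ) : ℂ) := by
    rw [map_inv₀, Complex.conj_natCast]; push_cast; rfl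
  rw [hconj, Complex.re_ofReal_mul, Complex.re_sum]
  have hterm : ∀ g : G, (classInner (θ - η)
      (if g ∈ Subgroup.normalizer (B : Set G) then tw (θ - η) g else 0)).re ≤
      if g ∈ B then 2 else 0 := by
    intro g
    by_cases hgB : g ∈ B
    · have hgN : g ∈ Subgroup.normalizer (B : Set G) := Subgroup.le_normalizer hgB
      rw [if_pos hgB, if_pos hgN, tw_of_mem h _ hgB, H18.CharOrtho.inner_sub_left,
        H18.CharOrtho.inner_sub_right, H18.CharOrtho.inner_sub_right, inner_irr_self hθ, inner_irr_self hη]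
      have h3 := inner_re_nonneg hθ hη
      have h4 := inner_re_nonneg hη hθ
      simp only [Complex.sub_re, Complex.one_re]
      linarith
    · rw [if_neg hgB]
      by_cases hgN : g ∈ Subgroup.normalizer (B : Set G)
      · rw [if_pos hgN, tw_sub, H18.CharOrtho.inner_sub_left, H18.CharOrtho.inner_sub_right,
          H18.CharOrtho.inner_sub_right,
          inner_irr_ne hθ (tw_irr hθ hgN) (tw_ne h hθ h1 hgN hgB),
          inner_irr_ne hη (tw_irr hη hgN) (tw_ne h hη h2 hgN hgB)]
        have h3 := inner_re_nonneg hθ (tw_irr hη hgN)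
        have h4 := inner_re_nonneg hη (tw_irr hθ hgN)
        simp only [Complex.sub_re, Complex.zero_re]
        linarith
      · rw [if_neg hgN]
        have : classInner (θ - η) (0 : B → ℂ) = 0 := by simp [classInner]
        rw [this]; simp
  have hsum : (∑ g : G, (classInner (θ - η)
      (if g ∈ Subgroup.normalizer (B : Set G) then tw (θ - η) g else 0)).re) ≤
      2 * (Nat.card B : ℝ) := by
    refine (Finset.sum_le_sum fun g _ => hterm g).trans (le_of_eq ?_)
    rw [← Finset.sum_filter, Finset.sum_const, nsmul_eq_mul, mul_comm]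
    congr 1
    rw [Nat.card_eq_fintype_card, Fintype.card_subtype]
  calc (Nat.card B : ℝ)⁻¹ * _ ≤ (Nat.card B : ℝ)⁻¹ * (2 * (Nat.card B : ℝ)) :=
        mul_le_mul_of_nonneg_left hsum (by positivity)
    _ = 2 := by field_simp

end H74.Ito1
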