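import Mathlib
import Cfsg.Agent.Lib.H74.Ito1

/-!
The isolation theorem: `G = B C(x)` with `B` abelian, containing the centralisers of its nontrivial
elements.
-/
set_option autoImplicit false
set_option linter.unusedSectionVars false
set_option linter.style.haveILetI false

namespace H74.Ito1

open Cfsg H18.CharBasic H18.CharOrtho H18.CharInd H18.CharPerm H18.CharCentral
open scoped ComplexConjugate

universe u

variable {G : Type u} [Group G] [Fintype G] {B : Subgroup G} {x : G}

theorem Ab.cent_conj (h : Ab B) (hx : ∀ g : G, g * x * g⁻¹ ∉ B) {b g : G} (hb : b ∈ B)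
    (hc : g⁻¹ * b * g * x = x * (g⁻¹ * b * g)) : b = 1 := by
  by_contra hne
  apply hx g
  apply h.cent b hb hne
  calc g * x * g⁻¹ * b = g * (x * (g⁻¹ * b * g)) * g⁻¹ := by group
    _ = g * (g⁻¹ * b * g * x) * g⁻¹ := by rw [hc]
    _ = b * (g * x * g⁻¹) := by group

theorem Ab.factor (h : Ab B) (hx : ∀ g : G, g * x * g⁻¹ ∉ B)
    (hcard : Nat.card G = Nat.card B * Nat.card (Subgroup.centralizer ({x} : Set G))) (g : G) :
    ∃ c b : G, c * x = x * c ∧ b ∈ B ∧ g = c * b := by
  have hdisj : Disjoint (Subgroup.centralizer ({x} : Set G)) B := by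
    rw [Subgroup.disjoint_def]
    intro b hb hbB
    rw [Subgroup.mem_centralizer_singleton_iff] at hb
    apply h.cent_conj hx (g := 1) hbB
    simpa using hb
  have hinj := Subgroup.mul_injective_of_disjoint hdisj
  have hbij : Function.Bijective (fun p : Subgroup.centralizer ({x} : Set G) × B =>
      (p.1 : G) * (p.2 : G)) := by
    rw [Nat.bijective_iff_injective_and_card]
    exact ⟨hinj, by rw [Nat.card_prod, hcard, mul_comm]⟩
  obtain ⟨⟨c, b⟩, hcb⟩ := hbij.2 g
  exact ⟨c, b, Subgroup.mem_centralizer_singleton_iff.mp c.2, b.2, hcb.symm⟩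

/-- the class equation -/
theorem shift (h : Ab B) (hx : ∀ g : G, g * x * g⁻¹ ∉ B)
    (hcard : Nat.card G = Nat.card B * Nat.card (Subgroup.centralizer ({x} : Set G)))
    {χ : G → ℂ} (hχ : IsIrrCharacter G χ) {b : G} (hb : b ∈ B) :
    χ (x * b) = χ x / χ 1 * χ b := by
  classical
  have hcf := isClassFunction_of_isIrr hχ
  have h1 := sum_mul_shift hχ (isClassFunction_classInd b) x
  have h2 : ∀ g : G, classInd b g * χ (g * x) = classInd b g * χ (x * b) := by
    intro g
    by_cases hc : IsConj b g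
    · obtain ⟨k, hk⟩ := isConj_iff.1 hc
      obtain ⟨c, b', hcx, hb', rfl⟩ := h.factor hx hcard k
      congr 1
      have h3 : g * x = c * (b * x) * c⁻¹ := by
        rw [← hk]
        have h4 : b' * b * b'⁻¹ = b := by rw [h.comm b' hb' b hb, mul_inv_cancel_right]
        have h5 : x * c⁻¹ = c⁻¹ * x := by
          calc x * c⁻¹ = c⁻¹ * (c * x) * c⁻¹ := by group
            _ = c⁻¹ * (x * c) * c⁻¹ := by rw [hcx]
            _ = c⁻¹ * x := by group
        calc c * b' * b * (c * b')⁻¹ * x = c * (b' * b * b'⁻¹) * (c⁻¹ * x) := by group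
          _ = c * b * (x * c⁻¹) := by rw [h4, h5]
          _ = c * (b * x) * c⁻¹ := by group
      rw [h3, hcf, classFunction_mul_comm hcf]
    · rw [classInd_of_not_isConj hc, zero_mul, zero_mul]
  have h3 : ∀ g : G, classInd b g * χ g = classInd b g * χ b := by
    intro g
    by_cases hc : IsConj b g
    · rw [classFunction_isConj hcf hc]
    · rw [classInd_of_not_isConj hc, zero_mul, zero_mul]
  rw [Finset.sum_congr rfl fun g _ => h2 g, Finset.sum_congr rfl fun g _ => h3 g,
    ← Finset.sum_mul, ← Finset.sum_mul] at h1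
  have h4 : (∑ g : G, classInd b g) ≠ 0 := by
    intro h5
    have h7 := inner_classInd b (isClassFunction_const (G := G) 1)
    simp only [classInner, map_one, mul_one] at h7
    rw [h5, mul_zero] at h7
    exact inv_ne_zero (card_centralizer_ne_zero b) h7.symm
  have h6 := irr_one_ne_zero hχ
  apply mul_left_cancel₀ h4
  rw [h1]
  field_simp

theorem nat_sel {ι : Type*} [Fintype ι] (f : ι → ℕ) (hf : ∑ i, f i = 1) :
    ∃ i, f i = 1 ∧ ∀ j, j ≠ i → f j = 0 := by
  classical
  obtain ⟨i, hi⟩ : ∃ i, f i ≠ 0 := by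
    by_contra hcon
    push Not at hcon
    rw [Finset.sum_eq_zero fun i _ => hcon i] at hf
    omega
  have h1 := Finset.add_sum_erase Finset.univ f (Finset.mem_univ i)
  rw [hf] at h1
  refine ⟨i, by omega, ?_⟩
  intro j hj
  have h2 : f j ≤ ∑ k ∈ Finset.univ.erase i, f k :=
    Finset.single_le_sum (f := f) (fun _ _ => Nat.zero_le _) (Finset.mem_erase.mpr ⟨hj, Finset.mem_univ j⟩)
  omega

/-- a class function of norm at most `2` with inner products `1` and `-1` -/
theorem eq_sub_of_norm {Φ χ ψ : G → ℂ} (hχ : IsIrrCharacter G χ)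
    (hψ : IsIrrCharacter G ψ) (hne : χ ≠ ψ) (hn : (classInner Φ Φ).re ≤ 2)
    (h1 : classInner Φ χ = 1) (h2 : classInner Φ ψ = -1) : Φ = χ - ψ := by
  have h3 : classInner (Φ - (χ - ψ)) (Φ - (χ - ψ)) = classInner Φ Φ - 2 := by
    have e1 : classInner χ Φ = 1 := by rw [← H18.CharOrtho.inner_conj_symm, h1, map_one]
    have e2 : classInner ψ Φ = -1 := by rw [← H18.CharOrtho.inner_conj_symm, h2, map_neg, map_one]
    rw [H18.CharOrtho.inner_sub_left, H18.CharOrtho.inner_sub_left,
      H18.CharOrtho.inner_sub_right, H18.CharOrtho.inner_sub_right, H18.CharOrtho.inner_sub_right,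
      H18.CharOrtho.inner_sub_right, H18.CharOrtho.inner_sub_right, H18.CharOrtho.inner_sub_right,
      h1, h2, e1, e2, inner_irr_self hχ, inner_irr_self hψ, inner_irr_ne hχ hψ hne,
      inner_irr_ne hψ hχ hne.symm]
    ring
  have h4 := inner_self_re_nonneg (Φ - (χ - ψ))
  have h5 : classInner (Φ - (χ - ψ)) (Φ - (χ - ψ)) = 0 := by
    apply Complex.ext
    · have h6 := congrArg Complex.re h3
      rw [Complex.sub_re] at h6
      have h7 : (2 : ℂ).re = 2 := rfl
      rw [h7] at h6
      simp only [Complex.zero_re]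
      linarith
    · rw [H18.CharOrtho.inner_self_im, Complex.zero_im]
  have h6 := (H18.CharOrtho.inner_self_eq_zero).mp h5
  exact sub_eq_zero.mp h6


/-- main computation: the permutation character on the conjugates of `x` -/
theorem perm_eq [Fintype B] (h : Ab B) (hx : ∀ g : G, g * x * g⁻¹ ∉ B)
    (hcard : Nat.card G = Nat.card B * Nat.card (Subgroup.centralizer ({x} : Set G))) :
    ∃ r : ℂ, ∀ b ∈ B, permChar (G := G) (G ⧸ Subgroup.centralizer ({x} : Set G)) (x * b) =
      r * permChar (G := G) (G ⧸ Subgroup.centralizer ({x} : Set G)) b + (1 - r) := by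
  classical
  letI := Fintype.ofFinite (IrrCharacter G)
  letI := Fintype.ofFinite (IrrCharacter B)
  letI := Fintype.ofFinite (Subgroup.centralizer ({x} : Set G))
  obtain ⟨C, hC⟩ : ∃ C : Subgroup G, C = Subgroup.centralizer ({x} : Set G) := ⟨_, rfl⟩
  rw [← hC]
  letI : Fintype C := Fintype.ofFinite C
  obtain ⟨π, hπ⟩ : ∃ π : G → ℂ, π = permChar (G := G) (G ⧸ C) := ⟨_, rfl⟩
  rw [← hπ]
  have hπind : π = indFun C (fun _ => 1) := by rw [hπ, permChar_quotient]
  have hπch : IsCharacter G π := by rw [hπind]; exact isCharacter_ind C isCharacter_one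
  have hπcf := isClassFunction_of_isCharacter hπch
  -- values of `π` on `B`
  have hπ1 : π 1 = (Nat.card B : ℂ) := by
    rw [hπind, indFun_one, mul_one]
    have h1 : C.index * Nat.card C = Nat.card B * Nat.card C := by
      rw [mul_comm, Subgroup.card_mul_index, hcard, hC]
    have h2 := Nat.eq_of_mul_eq_mul_right Nat.card_pos h1
    rw [h2]
  have hπb : ∀ b ∈ B, b ≠ 1 → π b = 0 := by
    intro b hb hb1
    rw [hπ]
    have : IsEmpty {q : G ⧸ C // b • q = q} := by
      refine ⟨?_⟩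
      rintro ⟨q, hq⟩
      induction q using QuotientGroup.induction_on with
      | H g =>
      have h1 : (QuotientGroup.mk (b * g) : G ⧸ C) = QuotientGroup.mk g := hq
      rw [eq_comm, QuotientGroup.eq, hC, Subgroup.mem_centralizer_singleton_iff] at h1
      apply hb1
      apply h.cent_conj hx (g := g) hb
      simpa [mul_assoc] using h1
    simp [permChar]
  -- multiplicities
  have hm : ∀ χ : IrrCharacter G, ∃ n : ℕ, classInner π (χ : G → ℂ) = n := fun χ =>
    inner_char_natCast hπch (isCharacter_of_isIrr χ.2)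
  choose m hm using hm
  have ha : ∀ (χ : IrrCharacter G) (l : IrrCharacter B), ∃ n : ℕ,
      classInner (fun b : B => (χ : G → ℂ) b) (l : B → ℂ) = n := fun χ l =>
    inner_char_natCast (isCharacter_restrict B (isCharacter_of_isIrr χ.2)) (isCharacter_of_isIrr l.2)
  choose a ha using ha
  have hπexp : ∀ g : G, π g = ∑ χ : IrrCharacter G, (m χ : ℂ) * (χ : G → ℂ) g := by
    intro g
    have h1 := congrFun (mem_classFun_expand hπcf) g
    rw [Finset.sum_apply] at h1
    rw [h1]
    exact Finset.sum_congr rfl fun χ _ => by rw [Pi.smul_apply, smul_eq_mul, hm]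
  have hχexp : ∀ (χ : IrrCharacter G) (b : B), (χ : G → ℂ) b =
      ∑ l : IrrCharacter B, (a χ l : ℂ) * (l : B → ℂ) b := by
    intro χ b
    have h1 := congrFun (mem_classFun_expand (isClassFunction_restrict B
      (isClassFunction_of_isIrr χ.2))) b
    rw [Finset.sum_apply] at h1
    refine h1.trans ?_
    exact Finset.sum_congr rfl fun l _ => by rw [Pi.smul_apply, smul_eq_mul, ha]
  have hl1 : ∀ l : IrrCharacter B, (l : B → ℂ) 1 = 1 := by
    intro l
    obtain ⟨f, hf⟩ := exists_hom_of_isIrr_of_comm h.comm' l.2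
    rw [hf]; simp
  have hsum : ∀ l : IrrCharacter B, ∑ χ : IrrCharacter G, m χ * a χ l = 1 := by
    intro l
    have h1 : classInner (fun b : B => π b) (l : B → ℂ) = 1 := by
      unfold classInner
      rw [Finset.sum_eq_single (1 : B)]
      · rw [hl1, map_one, mul_one]
        simp only [Subgroup.coe_one]
        rw [hπ1]
        have : (Nat.card B : ℂ) ≠ 0 := by exact_mod_cast (Nat.card_pos (α := B)).ne'
        exact inv_mul_cancel₀ this
      · intro b _ hb
        simp only
        rw [hπb b b.2 (fun h2 => hb (Subtype.ext h2)), zero_mul]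
      · intro h2; exact absurd (Finset.mem_univ _) h2
    have h2 : (fun b : B => π b) = ∑ χ : IrrCharacter G, (m χ : ℂ) • (fun b : B => (χ : G → ℂ) b) := by
      funext b
      rw [hπexp, Finset.sum_apply]
      rfl
    rw [h2, inner_sum_left] at h1
    have h3 : ∑ χ : IrrCharacter G, ((m χ : ℂ) * (a χ l : ℂ)) = 1 := by
      rw [← h1]
      refine Finset.sum_congr rfl fun χ _ => ?_
      rw [H18.CharOrtho.inner_smul_left, ha]
    exact_mod_cast h3
  have hsel : ∀ l : IrrCharacter B, ∃ χ : IrrCharacter G, m χ * a χ l = 1 ∧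
      ∀ χ', χ' ≠ χ → m χ' * a χ' l = 0 := fun l => nat_sel _ (hsum l)
  choose s hs1 hs2 using hsel
  obtain ⟨ρ, hρ⟩ : ∃ ρ : IrrCharacter G → ℂ, ∀ χ, ρ χ = (χ : G → ℂ) x / (χ : G → ℂ) 1 :=
    ⟨fun χ => (χ : G → ℂ) x / (χ : G → ℂ) 1, fun _ => rfl⟩
  have hms : ∀ l, m (s l) = 1 := fun l => Nat.eq_one_of_mul_eq_one_right (hs1 l)
  have has : ∀ l, a (s l) l = 1 := fun l => Nat.eq_one_of_mul_eq_one_left (hs1 l)
  -- constancy
  have hconst : ∀ l l' : IrrCharacter B, (l : B → ℂ) ≠ (fun _ => 1) → (l' : B → ℂ) ≠ (fun _ => 1) →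
      ρ (s l) = ρ (s l') := by
    intro l l' hl hl'
    by_cases hss : s l = s l'
    · rw [hss]
    · have h1 : a (s l) l' = 0 := by
        have h2 := hs2 l' (s l) hss
        rw [hms, one_mul] at h2
        exact h2
      have h1' : a (s l') l = 0 := by
        have h2 := hs2 l (s l') (Ne.symm hss)
        rw [hms, one_mul] at h2
        exact h2
      have hcf1 := isClassFunction_of_isIrr (s l).2
      have hcf2 := isClassFunction_of_isIrr (s l').2
      have h2 : classInner (indFun B ((l : B → ℂ) - (l' : B → ℂ))) (s l : G → ℂ) = 1 := by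
        rw [frobenius B _ hcf1, H18.CharOrtho.inner_sub_left, ← H18.CharOrtho.inner_conj_symm,
          ← H18.CharOrtho.inner_conj_symm (fun b : B => (s l : G → ℂ) b) (l' : B → ℂ), ha, ha, has,
          h1]
        simp
      have h3 : classInner (indFun B ((l : B → ℂ) - (l' : B → ℂ))) (s l' : G → ℂ) = -1 := by
        rw [frobenius B _ hcf2, H18.CharOrtho.inner_sub_left, ← H18.CharOrtho.inner_conj_symm,
          ← H18.CharOrtho.inner_conj_symm (fun b : B => (s l' : G → ℂ) b) (l' : B → ℂ), ha, ha, has,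
          h1']
        simp
      have h4 := eq_sub_of_norm (s l).2 (s l').2 (fun h5 => hss (Subtype.ext h5))
        (norm_le h l.2 l'.2 hl hl') h2 h3
      have h5 : indFun B ((l : B → ℂ) - (l' : B → ℂ)) 1 = 0 := by
        rw [indFun_one, Pi.sub_apply, hl1, hl1, sub_self, mul_zero]
      have h6 : indFun B ((l : B → ℂ) - (l' : B → ℂ)) x = 0 := by
        rw [indFun_apply', Finset.sum_eq_zero, mul_zero]
        intro g _
        exact ext_notMem _ _ (hx g)
      rw [h4, Pi.sub_apply, sub_eq_zero] at h5 h6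
      rw [hρ, hρ, h5, h6]
  -- the principal character
  have h1B : IsIrrCharacter B (fun _ => (1 : ℂ)) := isIrrCharacter_one
  have h1G : IsIrrCharacter G (fun _ => (1 : ℂ)) := isIrrCharacter_one
  obtain ⟨l1, hl1'⟩ : ∃ l1 : IrrCharacter B, (l1 : B → ℂ) = fun _ => 1 := ⟨⟨_, h1B⟩, rfl⟩
  obtain ⟨g1, hg1⟩ : ∃ g1 : IrrCharacter G, (g1 : G → ℂ) = fun _ => 1 := ⟨⟨_, h1G⟩, rfl⟩
  have hs1' : s l1 = g1 := by
    by_contra hne
    have h2 := hs2 l1 g1 (Ne.symm hne)
    have h3 : (m g1 : ℂ) = 1 := by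
      rw [← hm, hπind, frobenius C _ (isClassFunction_of_isIrr g1.2), hg1]
      exact inner_irr_self isIrrCharacter_one
    have h4 : (a g1 l1 : ℂ) = 1 := by
      rw [← ha, hl1', hg1]
      exact inner_irr_self isIrrCharacter_one
    have h5 : m g1 = 1 := by exact_mod_cast h3
    have h6 : a g1 l1 = 1 := by exact_mod_cast h4
    rw [h5, h6] at h2
    omega
  have hρ1 : ρ (s l1) = 1 := by rw [hs1', hρ, hg1, div_one]
  obtain ⟨r, hr⟩ : ∃ r : ℂ, ∀ l : IrrCharacter B, l ≠ l1 → ρ (s l) = r := by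
    by_cases hex : ∃ l : IrrCharacter B, l ≠ l1
    · obtain ⟨l0, hl0⟩ := hex
      refine ⟨ρ (s l0), fun l hl => ?_⟩
      have hne : ∀ l : IrrCharacter B, l ≠ l1 → (l : B → ℂ) ≠ fun _ => 1 := by
        intro l hl h2
        apply hl
        apply Subtype.ext
        rw [h2, hl1']
      exact hconst l l0 (hne l hl) (hne l0 hl0)
    · push Not at hex
      exact ⟨0, fun l hl => absurd (hex l) hl⟩
  refine ⟨r, fun b hb => ?_⟩
  -- the two expansions
  have hcol : ∀ (F : IrrCharacter G → ℂ) (l : IrrCharacter B),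
      ∑ χ : IrrCharacter G, ((m χ : ℂ) * (a χ l : ℂ)) * F χ = F (s l) := by
    intro F l
    rw [Finset.sum_eq_single (s l)]
    · rw [hms, has]; simp
    · intro χ _ hχ
      have h2 := hs2 l χ hχ
      have h3 : (m χ : ℂ) * (a χ l : ℂ) = 0 := by exact_mod_cast h2
      rw [h3, zero_mul]
    · intro h2; exact absurd (Finset.mem_univ _) h2
  have hexp : ∀ F : IrrCharacter G → ℂ, ∑ χ : IrrCharacter G, (m χ : ℂ) * (F χ * (χ : G → ℂ) b) =
      ∑ l : IrrCharacter B, F (s l) * (l : B → ℂ) ⟨b, hb⟩ := by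
    intro F
    have h2 : ∀ χ : IrrCharacter G, (m χ : ℂ) * (F χ * (χ : G → ℂ) b) =
        ∑ l : IrrCharacter B, ((m χ : ℂ) * (a χ l : ℂ)) * F χ * (l : B → ℂ) ⟨b, hb⟩ := by
      intro χ
      have h3 := hχexp χ ⟨b, hb⟩
      simp only at h3
      rw [h3, Finset.mul_sum, Finset.mul_sum]
      exact Finset.sum_congr rfl fun l _ => by ring
    rw [Finset.sum_congr rfl fun χ _ => h2 χ, Finset.sum_comm]
    refine Finset.sum_congr rfl fun l _ => ?_
    rw [← Finset.sum_mul, hcol]
  have e1 : π (x * b) = ∑ l : IrrCharacter B, ρ (s l) * (l : B → ℂ) ⟨b, hb⟩ := by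
    rw [hπexp, ← hexp]
    refine Finset.sum_congr rfl fun χ _ => ?_
    rw [shift h hx hcard χ.2 hb, hρ]
  have e2 : π b = ∑ l : IrrCharacter B, (l : B → ℂ) ⟨b, hb⟩ := by
    rw [hπexp]
    have h2 := hexp (fun _ => 1)
    simp only [one_mul] at h2
    exact h2
  rw [e1, e2, ← Finset.add_sum_erase _ _ (Finset.mem_univ l1),
    ← Finset.add_sum_erase _ (fun l : IrrCharacter B => (l : B → ℂ) ⟨b, hb⟩) (Finset.mem_univ l1),
    hρ1, hl1', mul_add, Finset.mul_sum]
  have h2 : ∀ l ∈ Finset.univ.erase l1, ρ (s l) * (l : B → ℂ) ⟨b, hb⟩ =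
      r * (l : B → ℂ) ⟨b, hb⟩ := fun l hl => by rw [hr l (Finset.ne_of_mem_erase hl)]
  rw [Finset.sum_congr rfl h2]
  ring

/-- the isolation theorem -/
theorem iso (h : Ab B) (hne : ∃ b ∈ B, b ≠ 1) (hx : ∀ g : G, g * x * g⁻¹ ∉ B)
    (hcard : Nat.card G = Nat.card B * Nat.card (Subgroup.centralizer ({x} : Set G))) :
    (∀ g : G, x * (g * x * g⁻¹) = (g * x * g⁻¹) * x) ∨
    (∀ g : G, x * (g * x * g⁻¹) = (g * x * g⁻¹) * x → g * x * g⁻¹ = x) := by
  classical
  letI := Fintype.ofFinite B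
  obtain ⟨r, hr⟩ := perm_eq h hx hcard
  obtain ⟨b0, hb0, hb01⟩ := hne
  obtain ⟨C, hC⟩ : ∃ C : Subgroup G, C = Subgroup.centralizer ({x} : Set G) := ⟨_, rfl⟩
  rw [← hC] at hr
  have hcC : Nat.card (G ⧸ C) = Nat.card B := by
    have h1 : C.index * Nat.card C = Nat.card B * Nat.card C := by
      rw [mul_comm, Subgroup.card_mul_index, hcard, hC]
    exact Nat.eq_of_mul_eq_mul_right Nat.card_pos h1
  have hπ1 : permChar (G := G) (G ⧸ C) 1 = (Nat.card B : ℂ) := by
    unfold permChar
    rw [← hcC]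
    congr 1
    exact Nat.card_congr (Equiv.subtypeUnivEquiv (fun q => one_smul G q))
  have hπb : permChar (G := G) (G ⧸ C) b0 = 0 := by
    have : IsEmpty {q : G ⧸ C // b0 • q = q} := by
      refine ⟨?_⟩
      rintro ⟨q, hq⟩
      induction q using QuotientGroup.induction_on with
      | H g =>
      have h1 : (QuotientGroup.mk (b0 * g) : G ⧸ C) = QuotientGroup.mk g := hq
      rw [eq_comm, QuotientGroup.eq, hC, Subgroup.mem_centralizer_singleton_iff] at h1
      apply hb01
      apply h.cent_conj hx (g := g) hb0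
      simpa [mul_assoc] using h1
    simp [permChar]
  have h1 := hr b0 hb0
  have h2 := hr 1 B.one_mem
  rw [hπb, mul_zero, zero_add] at h1
  rw [mul_one, hπ1] at h2
  obtain ⟨k, hk⟩ : ∃ k : ℕ, k = Nat.card {q : G ⧸ C // (x * b0) • q = q} := ⟨_, rfl⟩
  obtain ⟨l, hl⟩ : ∃ l : ℕ, l = Nat.card {q : G ⧸ C // x • q = q} := ⟨_, rfl⟩
  have h1' : (k : ℂ) = 1 - r := by rw [hk]; exact h1
  have h2' : (l : ℂ) = r * (Nat.card B : ℂ) + (1 - r) := by rw [hl]; exact h2
  have h3 : (l : ℤ) = (1 - k) * (Nat.card B : ℤ) + k := by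
    have hr' : r = 1 - k := by rw [h1']; ring
    rw [hr'] at h2'
    have : (l : ℂ) = (1 - k) * (Nat.card B : ℂ) + k := by rw [h2']; ring
    exact_mod_cast this
  have hB2 : 2 ≤ Nat.card B := by
    have : Nontrivial B := ⟨⟨⟨b0, hb0⟩, 1, fun h4 => hb01 (congrArg Subtype.val h4)⟩⟩
    exact Finite.one_lt_card
  have hfix1 : x • (QuotientGroup.mk 1 : G ⧸ C) = QuotientGroup.mk 1 := by
    change (QuotientGroup.mk (x * 1) : G ⧸ C) = QuotientGroup.mk 1
    rw [eq_comm, QuotientGroup.eq, hC, Subgroup.mem_centralizer_singleton_iff]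
    simp
  have hl1 : 1 ≤ l := by
    rw [hl]
    have : Nonempty {q : G ⧸ C // x • q = q} := ⟨⟨_, hfix1⟩⟩
    exact Nat.card_pos
  have hk1 : k ≤ 1 := by
    by_contra hcon
    push Not at hcon
    have h4 : (1 : ℤ) ≤ l := by exact_mod_cast hl1
    have h5 : (2 : ℤ) ≤ k := by exact_mod_cast hcon
    have h6 : (2 : ℤ) ≤ (Nat.card B : ℤ) := by exact_mod_cast hB2
    nlinarith
  have hfix : ∀ g : G, x • (QuotientGroup.mk g : G ⧸ C) = QuotientGroup.mk g ↔
      x * (g⁻¹ * x * g) = (g⁻¹ * x * g) * x := by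
    intro g
    change (QuotientGroup.mk (x * g) : G ⧸ C) = QuotientGroup.mk g ↔ _
    rw [eq_comm, QuotientGroup.eq, hC, Subgroup.mem_centralizer_singleton_iff]
    constructor
    · intro h4; simpa [mul_assoc] using h4.symm
    · intro h4; simpa [mul_assoc] using h4.symm
  interval_cases k
  · left
    have h4 : l = Nat.card B := by
      have : (l : ℤ) = Nat.card B := by rw [h3]; push_cast; ring
      exact_mod_cast this
    have h5 : Nat.card {q : G ⧸ C // x • q = q} = Nat.card (G ⧸ C) := by rw [← hl, h4, hcC]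
    have h6 : Function.Bijective (Subtype.val : {q : G ⧸ C // x • q = q} → G ⧸ C) := by
      rw [Nat.bijective_iff_injective_and_card]
      exact ⟨Subtype.val_injective, h5⟩
    intro g
    obtain ⟨⟨q, hq⟩, hqe⟩ := h6.2 (QuotientGroup.mk g⁻¹)
    simp only at hqe
    rw [hqe] at hq
    have := (hfix g⁻¹).mp hq
    simpa using this
  · right
    have h4 : l = 1 := by
      have : (l : ℤ) = 1 := by rw [h3]; push_cast; ring
      exact_mod_cast this
    intro g hg
    have h5 : x • (QuotientGroup.mk g⁻¹ : G ⧸ C) = QuotientGroup.mk g⁻¹ :=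
      (hfix g⁻¹).mpr (by simpa using hg)
    have h6 : Nat.card {q : G ⧸ C // x • q = q} = 1 := by rw [← hl, h4]
    obtain ⟨h7, _⟩ := Nat.card_eq_one_iff_unique.mp h6
    have h8 := h7.elim ⟨_, h5⟩ ⟨_, hfix1⟩
    have h9 : (QuotientGroup.mk g⁻¹ : G ⧸ C) = QuotientGroup.mk 1 := congrArg Subtype.val h8
    rw [QuotientGroup.eq, hC, Subgroup.mem_centralizer_singleton_iff] at h9
    simp only [inv_inv, mul_one] at h9
    rw [h9, mul_inv_cancel_right]

end H74.Ito1
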