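import Mathlib
import Cfsg.Agent.Lib.H72.TwoLargest
import Cfsg.Agent.S0143

/-!
Finite simple groups and coprime class sizes: preliminaries for Ito's theorem on simple groups of
conjugate type rank three.
-/
set_option autoImplicit false
set_option linter.unusedSectionVars false

namespace H74.Ito3

open Subgroup H72.TwoLargest

variable {G : Type*} [Group G] [Finite G]

/-- the centraliser of an element -/
abbrev C (x : G) : Subgroup G := centralizer ({x} : Set G)

theorem memC {x h : G} : h ∈ C x ↔ h * x = x * h := mem_centralizer_singleton_iff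

theorem self_memC (x : G) : x ∈ C x := memC.mpr rfl

theorem memC_comm {x y : G} : x ∈ C y ↔ y ∈ C x := by
  rw [memC, memC]; exact eq_comm

theorem card_C (x : G) : Nat.card (C x) * cs x = Nat.card G := Subgroup.card_mul_index _

theorem cs_one : cs (1 : G) = 1 := (cs_eq_one 1).mpr (one_mem _)

theorem C_pow (x : G) (k : ℕ) : C x ≤ C (x ^ k) := by
  intro g hg
  rw [memC] at hg ⊢
  exact ((show Commute g x from hg).pow_right k).eq

theorem C_mul {x y : G} (hc : x * y = y * x) (hxy : (orderOf x).Coprime (orderOf y)) :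
    C (x * y) = C x ⊓ C y := cent_mul hc hxy

theorem card_C_dvd {x y : G} (h : C x ≤ C y) : Nat.card (C x) ∣ Nat.card (C y) :=
  Subgroup.card_dvd_of_le h

theorem card_C_eq {x y : G} (h : cs x = cs y) : Nat.card (C x) = Nat.card (C y) := by
  have h1 := card_C x
  have h2 := card_C y
  rw [← h2, h] at h1
  exact Nat.eq_of_mul_eq_mul_right (cs_pos y) h1

theorem C_le_of {x y : G} (h : C x ≤ C y) (hc : cs x = cs y) : C y ≤ C x :=
  cent_eq_of_le h hc.le

/-- an element of order `p` in the centraliser -/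
theorem exists_order {p : ℕ} (hp : p.Prime) {H : Subgroup G} (h : p ∣ Nat.card H) :
    ∃ y ∈ H, orderOf y = p := by
  have : Fact p.Prime := ⟨hp⟩
  obtain ⟨y, hy⟩ := exists_prime_orderOf_dvd_card' (G := H) p h
  rw [← Subgroup.orderOf_coe] at hy
  exact ⟨y, y.2, hy⟩

theorem dvd_card_C {p : ℕ} {x y : G} (hy : orderOf y = p) (h : y ∈ C x) : p ∣ Nat.card (C x) := by
  rw [← hy]; exact Subgroup.orderOf_dvd_natCard _ h

/-- a power of prime order -/
theorem exists_pow_prime {w : G} (hw : w ≠ 1) : ∃ k r : ℕ, r.Prime ∧ orderOf (w ^ k) = r := by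
  have h1 : orderOf w ≠ 1 := fun h => hw (orderOf_eq_one_iff.mp h)
  obtain ⟨r, hr, hd⟩ := Nat.exists_prime_and_dvd h1
  refine ⟨orderOf w / r, r, hr, ?_⟩
  have h2 : orderOf w ≠ 0 := (orderOf_pos w).ne'
  rw [orderOf_pow' _ (by
    intro h
    have := Nat.div_mul_cancel hd
    rw [h, zero_mul] at this
    omega)]
  rw [Nat.gcd_eq_right (Nat.div_dvd_of_dvd hd)]
  exact Nat.div_div_self hd h2

theorem ne_one_of_prime {p : ℕ} (hp : p.Prime) {x : G} (hx : orderOf x = p) : x ≠ 1 := by
  rintro rfl
  rw [orderOf_one] at hx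
  exact hp.one_lt.ne hx

/-- an element of class size prime to `p`, commuting with a given element of order `p` -/
theorem exists_syl {p : ℕ} (hp : p.Prime) {y : G} (hy : orderOf y = p) :
    ∃ z : G, z ≠ 1 ∧ z ∈ C y ∧ ¬ p ∣ cs z := by
  have : Fact p.Prime := ⟨hp⟩
  have h1 : IsPGroup p (zpowers y) := by
    apply IsPGroup.of_card (n := 1)
    rw [Nat.card_zpowers, hy, pow_one]
  obtain ⟨P, hP⟩ := h1.exists_le_sylow
  have hyP : y ∈ (P : Subgroup G) := hP (mem_zpowers y)
  have hnt : Nontrivial P := ⟨⟨⟨y, hyP⟩, 1, fun h => ne_one_of_prime hp hy (congrArg Subtype.val h)⟩⟩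
  have := IsPGroup.center_nontrivial P.2
  obtain ⟨z, hz⟩ := (Subgroup.nontrivial_iff_exists_ne_one _).mp this
  refine ⟨z, fun h => hz.2 (Subtype.ext h), ?_, ?_⟩
  · rw [memC]
    have := Subgroup.mem_center_iff.mp hz.1 ⟨y, hyP⟩
    exact (congrArg Subtype.val this).symm
  · intro hd
    apply P.not_dvd_index
    refine hd.trans ?_
    apply Subgroup.index_dvd_of_le
    intro g hg
    rw [mem_centralizer_singleton_iff]
    have := Subgroup.mem_center_iff.mp hz.1 ⟨g, hg⟩
    exact congrArg Subtype.val this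

section simple

variable [IsSimpleGroup G] (hna : ∃ a b : G, a * b ≠ b * a)
include hna

theorem eq_one_of_central {x : G} (hx : ∀ g, g * x = x * g) : x = 1 := by
  rcases IsSimpleGroup.eq_bot_or_eq_top_of_normal (center G) inferInstance with h | h
  · have : x ∈ center G := Subgroup.mem_center_iff.mpr hx
    rw [h, Subgroup.mem_bot] at this
    exact this
  · exfalso
    obtain ⟨a, b, hab⟩ := hna
    apply hab
    have : b ∈ center G := by rw [h]; trivial
    exact Subgroup.mem_center_iff.mp this a

theorem eq_one_of_comm {x y : G} (hy : y ≠ 1)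
    (h : ∀ g, x * (g * y * g⁻¹) = (g * y * g⁻¹) * x) : x = 1 := by
  apply eq_one_of_central hna
  have h1 : normalClosure ({y} : Set G) = ⊤ := by
    rcases IsSimpleGroup.eq_bot_or_eq_top_of_normal (normalClosure ({y} : Set G)) inferInstance
      with h1 | h1
    · exfalso
      have h2 : y ∈ normalClosure ({y} : Set G) := subset_normalClosure rfl
      rw [h1, Subgroup.mem_bot] at h2
      exact hy h2
    · exact h1
  have h2 : normalClosure ({y} : Set G) ≤ C x := by
    rw [normalClosure, closure_le]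
    intro z hz
    rw [Group.mem_conjugatesOfSet_iff] at hz
    obtain ⟨a, ha, hc⟩ := hz
    rw [Set.mem_singleton_iff] at ha
    rw [ha] at hc
    obtain ⟨g, rfl⟩ := isConj_iff.mp hc
    exact memC.mpr (h g).symm
  intro g
  have : g ∈ C x := h2 (by rw [h1]; trivial)
  exact memC.mp this

theorem cs_ne_one {x : G} (hx : x ≠ 1) : cs x ≠ 1 := by
  intro h
  rw [cs_eq_one] at h
  exact hx (eq_one_of_central hna (Subgroup.mem_center_iff.mp h))

theorem not_comm {x y : G} (hx : x ≠ 1) (hy : y ≠ 1) (hc : (cs x).Coprime (cs y)) :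
    x * y ≠ y * x := by
  intro hxy
  apply hx
  apply eq_one_of_comm hna hy
  intro g
  obtain ⟨b, hb, a, ha, hg⟩ := H72.CoprimeIndex.exists_mul_of_coprime_index
    (centralizer ({y} : Set G)) (centralizer ({x} : Set G)) hc.symm g
  rw [mem_centralizer_singleton_iff] at hb ha
  have h1 : g * y * g⁻¹ = b * y * b⁻¹ := by
    rw [hg]
    calc b * a * y * (b * a)⁻¹ = b * (a * y) * a⁻¹ * b⁻¹ := by group
      _ = b * (y * a) * a⁻¹ * b⁻¹ := by rw [ha]
      _ = _ := by group
  rw [h1]
  have hb' : Commute b x := hb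
  have h2 : Commute x (b * y * b⁻¹) :=
    (hb'.symm.mul_right (show Commute x y from hxy)).mul_right hb'.symm.inv_right
  exact h2.eq

theorem cs_lt_right {x y : G} (hx : x ≠ 1) (hy : y ≠ 1) (hc : (cs x).Coprime (cs y)) :
    cs y < cs (x * y) := by
  by_contra hcon
  push Not at hcon
  have h1 := comm_mem_L hc hcon
  rcases IsSimpleGroup.eq_bot_or_eq_top_of_normal (L y) inferInstance with h | h
  · apply hx
    apply eq_one_of_central hna
    intro g
    have h2 := h1 g
    rw [h, Subgroup.mem_bot, inv_mul_eq_one] at h2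
    calc g * x = (g * x * g⁻¹) * g := by group
      _ = x * g := by rw [← h2]
  · have h2 := card_L_dvd y
    rw [h, Subgroup.card_top, ← card_C y] at h2
    have h3 : Nat.card (C y) = 1 := by
      have h4 : Nat.card (C y) * cs y ∣ 1 * cs y := by rw [one_mul]; exact h2
      exact Nat.dvd_one.mp (Nat.dvd_of_mul_dvd_mul_right (cs_pos y) h4)
    have h4 : y ∈ (⊥ : Subgroup G) := by
      rw [← Subgroup.eq_bot_of_card_eq _ h3]
      exact self_memC y
    exact hy (Subgroup.mem_bot.mp h4)

theorem cs_lt_left {x y : G} (hx : x ≠ 1) (hy : y ≠ 1) (hc : (cs x).Coprime (cs y)) :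
    cs x < cs (x * y) := by
  have h1 := cs_lt_right hna hy hx hc.symm
  have h2 : cs (x * y) = cs (y * x) := by
    rw [← cs_conj (x * y) y]
    congr 1
    group
  rwa [h2]

end simple

end H74.Ito3
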