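import Mathlib
import Cfsg.Agent.Lib.H74.ZDat2
import Cfsg.Agent.Lib.H15.ZassAb
import Cfsg.Agent.Lib.H8.SuzGroup
import Cfsg.Agent.Lib.H18.TIFN

/-!
The abelian case: `PSL₂(2 ^ n)`.
-/
set_option autoImplicit false
set_option linter.style.haveILetI false

namespace H74.ZDat

open Subgroup H28.Cj H28.RelSyl H25.Isolated H25.StrEmb

universe u

variable {L : Type u} [Group L] [Finite L] {P M : Subgroup L} {m : ℕ}

theorem stab_x0 : MulAction.stabilizer L (x0 M) = M := by
  ext g
  rw [MulAction.mem_stabilizer_iff, smul_x0]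

theorem Dat.card_comm (hd : Dat P M m) (hP : ∀ a ∈ P, ∀ b ∈ P, a * b = b * a) :
    m + 1 = Nat.card P := by
  classical
  letI : Fintype (L ⧸ M) := Fintype.ofFinite _
  obtain ⟨y, hy⟩ := hd.exists_ne
  have hZ := zassenhaus hd
  have hpts := card_points hd
  rw [Nat.card_eq_fintype_card] at hpts
  obtain ⟨K0, hK0⟩ := H8.Zass.exists_isKer hZ hy.symm
  have hcK := hK0.card hZ hy.symm
  have hPK : P ≤ K0 := by
    intro g hg
    rw [hK0 g]
    refine ⟨smul_x0.mpr (hd.le hg), ?_⟩
    by_cases h1 : g = 1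
    · exact Or.inl h1
    · right
      intro c hc hgc
      exact h1 (K_disj hd hc hg (mem_K.mpr ⟨hd.le hg, hgc⟩))
  have hPK' : P = K0 := Subgroup.eq_of_le_of_card_ge hPK (by omega)
  subst hPK'
  haveI : IsMulCommutative P := ⟨⟨fun a b => Subtype.ext (hP a a.2 b b.2)⟩⟩
  have hE : Nat.card (H8.Zass.E2 L (x0 M) y) = m := by
    rw [← card_K hd hy, H8.Zass.E2, stab_x0]; rfl
  have h1 := H15.ZassAb.main hZ hy.symm hK0 inferInstance
  rw [hE] at h1
  have h3 := hd.three_le
  rcases h1 with h1 | ⟨-, h1, -⟩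
  · omega
  · obtain ⟨k, hk⟩ := hd.even
    omega

theorem main_comm (hd : Dat P M m) (hP : ∀ a ∈ P, ∀ b ∈ P, a * b = b * a) :
    ∃ (F : Type) (_ : Field F) (_ : Fintype F) (n : ℕ), 2 ≤ n ∧ Fintype.card F = 2 ^ n ∧
      Nat.card P = Fintype.card F ∧ Nonempty (L ≃* Matrix.ProjectiveSpecialLinearGroup (Fin 2) F) := by
  rcases main hd with h | ⟨-, F, _, _, k, hk, hF, hPF, ⟨e⟩⟩
  · exact h
  · exfalso
    have h1 := hd.card_comm hP
    have h2 : Nat.card L = Nat.card P * m * (1 + Nat.card P) := by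
      have h3 : Nat.card (L ⧸ M) * Nat.card M = Nat.card L := by
        rw [mul_comm]; exact M.card_mul_index
      rw [← h3, card_points hd, hd.cardM]; ring
    have h4 := Nat.card_congr e.toEquiv
    rw [H8.SuzGroup.card_Sz hk hF, ← hF, h2, hPF] at h4
    have hq : 8 ≤ Fintype.card F := by
      rw [hF]
      calc 8 = 2 ^ 3 := by norm_num
        _ ≤ 2 ^ (2 * k + 1) := Nat.pow_le_pow_right (by norm_num) (by omega)
    obtain ⟨q, hq'⟩ : ∃ q, q = Fintype.card F := ⟨_, rfl⟩
    rw [← hq'] at h4 hq hPF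
    rw [hPF] at h1
    have h5 : q ^ 2 * (q ^ 2 + 1) * m = q ^ 2 * (q ^ 2 + 1) * (q - 1) := by
      calc q ^ 2 * (q ^ 2 + 1) * m = q ^ 2 * m * (1 + q ^ 2) := by ring
        _ = _ := h4
    have h6 := Nat.eq_of_mul_eq_mul_left (by positivity) h5
    have h7 : q ^ 2 = q := by omega
    nlinarith

/-- a simple group with an abelian subgroup of even order containing the centralisers of its
nontrivial elements -/
theorem simple_comm [IsSimpleGroup L] (hna : ∃ a b : L, a * b ≠ b * a) {A : Subgroup L}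
    (hA : ∀ a ∈ A, ∀ b ∈ A, a * b = b * a) (hC : ∀ a ∈ A, a ≠ 1 → ∀ x : L, x * a = a * x → x ∈ A)
    (h2 : 2 ∣ Nat.card A) :
    ∃ (F : Type) (_ : Field F) (_ : Fintype F) (n : ℕ), 2 ≤ n ∧ Fintype.card F = 2 ^ n ∧
      Nonempty (L ≃* Matrix.ProjectiveSpecialLinearGroup (Fin 2) F) := by
  haveI : Fact (Nat.Prime 2) := ⟨Nat.prime_two⟩
  obtain ⟨a0, b0, hab0⟩ := hna
  have hbot : A ≠ ⊥ := by
    rintro rfl
    rw [Subgroup.card_bot] at h2
    omega
  have htop : A ≠ ⊤ := by
    rintro rfl
    exact hab0 (hA a0 trivial b0 trivial)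
  -- the subgroup is a TI subgroup
  have hnorm : ∀ g : L, ∀ u ∈ A, u ≠ 1 → g⁻¹ * u * g ∈ A →
      g ∈ normalizer (A : Set L) := by
    intro g u hu hu1 hg
    have h1 : ∀ b ∈ A, g * b * g⁻¹ ∈ A := by
      intro b hb
      apply hC u hu hu1
      have h2 := hA _ hg _ hb
      calc g * b * g⁻¹ * u = g * (b * (g⁻¹ * u * g)) * g⁻¹ := by group
        _ = g * ((g⁻¹ * u * g) * b) * g⁻¹ := by rw [h2]
        _ = u * (g * b * g⁻¹) := by group
    have h2 : A.map (MulAut.conj g).toMonoidHom = A := by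
      apply Subgroup.eq_of_le_of_card_ge
      · rintro _ ⟨b, hb, rfl⟩
        exact h1 b hb
      · rw [Subgroup.card_map_of_injective (MulEquiv.injective _)]
    rw [Subgroup.mem_normalizer_iff]
    intro b
    constructor
    · exact h1 b
    · intro hb
      have h3 : g * b * g⁻¹ ∈ (A : Set L) := hb
      rw [← h2] at h3
      obtain ⟨c, hc, hce⟩ := h3
      have h4 : g * c * g⁻¹ = g * b * g⁻¹ := hce
      have h5 : c = b := mul_left_cancel (mul_right_cancel h4)
      rwa [← h5]
  have hcop : (Nat.card A).Coprime A.index := by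
    apply H18.TIFN.coprime_card_index A
    intro k hk hk1 x hx
    rw [Subgroup.mem_centralizer_singleton_iff] at hx
    exact hC k hk hk1 x hx
  have hNtop : normalizer (A : Set L) ≠ ⊤ := by
    intro h
    haveI : A.Normal := Subgroup.normalizer_eq_top_iff.mp h
    rcases IsSimpleGroup.eq_bot_or_eq_top_of_normal A inferInstance with h1 | h1
    · exact hbot h1
    · exact htop h1
  have hAN : A ≤ normalizer (A : Set L) := Subgroup.le_normalizer
  obtain ⟨m, hm⟩ : ∃ m, Nat.card (normalizer (A : Set L)) = Nat.card A * m :=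
    Subgroup.card_dvd_of_le hAN
  have hmcop : (Nat.card A).Coprime m := by
    apply Nat.Coprime.coprime_dvd_right _ hcop
    have h3 := relIndex_mul_card hAN
    rw [hm, mul_comm] at h3
    have h4 := Nat.eq_of_mul_eq_mul_left Nat.card_pos h3
    rw [← h4]
    exact Subgroup.relIndex_dvd_index_of_le hAN
  have hm0 : m ≠ 0 := by
    rintro rfl
    rw [mul_zero] at hm
    exact (Nat.card_pos (α := normalizer (A : Set L))).ne' hm
  have hm1 : m ≠ 1 := by
    rintro rfl
    rw [mul_one] at hm
    have hNA : A = normalizer (A : Set L) := Subgroup.eq_of_le_of_card_ge hAN hm.le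
    have hTI : H1.Frob.IsTIself A := by
      intro g hg
      rw [eq_bot_iff]
      intro x hx
      obtain ⟨hx1, hx2⟩ := Subgroup.mem_inf.mp hx
      rw [H8.Zass.mem_conj_iff] at hx2
      rw [Subgroup.mem_bot]
      by_contra hne
      apply hg
      rw [hNA]
      exact hnorm g x hx1 hne hx2
    obtain ⟨N, -, hN, hc⟩ := H1.FrobThm.frobenius_kernel hTI
    rcases IsSimpleGroup.eq_bot_or_eq_top_of_normal N hN with h1 | h1
    · rw [h1, Subgroup.isComplement'_bot_left] at hc
      exact htop hc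
    · rw [h1, Subgroup.isComplement'_top_left] at hc
      exact hbot hc
  have hmodd : Odd m := by
    rw [← Nat.not_even_iff_odd, even_iff_two_dvd]
    intro h
    have h1 := Nat.dvd_gcd h2 h
    rw [hmcop] at h1
    omega
  have hidx : (A.subgroupOf (normalizer (A : Set L))).index = m := by
    have h1 := relIndex_mul_card hAN
    rw [hm, mul_comm] at h1
    exact Nat.eq_of_mul_eq_mul_left Nat.card_pos h1
  have hpow : ∀ g ∈ normalizer (A : Set L), g ^ m ∈ A := by
    intro g hg
    haveI hN : (A.subgroupOf (normalizer (A : Set L))).Normal :=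
      (Subgroup.normal_subgroupOf_iff_le_normalizer hAN).mpr le_rfl
    have := Subgroup.pow_index_mem (H := A.subgroupOf (normalizer (A : Set L))) ⟨g, hg⟩
    rw [hidx] at this
    exact this
  have hinv : ∀ t ∈ normalizer (A : Set L), t * t = 1 → t ∈ A := by
    intro t ht htt
    have h1 := hpow t ht
    obtain ⟨r, hr⟩ := hmodd
    have h2 : t ^ m = t := by
      rw [hr, pow_succ, pow_mul, pow_two, htt, one_pow, one_mul]
    rwa [h2] at h1
  have hemb : Cfsg.IsStronglyEmbedded (normalizer (A : Set L)) := by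
    refine ⟨hNtop, ?_, ?_⟩
    · rw [even_iff_two_dvd, hm]
      exact Dvd.dvd.mul_right h2 m
    · intro g hg
      rw [← Nat.not_even_iff_odd, even_iff_two_dvd]
      intro h
      obtain ⟨t, ht⟩ := exists_prime_orderOf_dvd_card' 2 h
      rw [← Subgroup.orderOf_coe] at ht
      have htt := self_mul_self ht
      obtain ⟨ht1, ht2⟩ := Subgroup.mem_inf.mp t.2
      rw [mem_map_conj] at ht2
      apply hg
      apply hnorm g t (hinv _ ht1 htt) _ (hinv _ ht2 _)
      · intro h1; rw [h1, orderOf_one] at ht; omega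
      · calc g⁻¹ * (t : L) * g * (g⁻¹ * t * g) = g⁻¹ * (t * t) * g := by group
          _ = 1 := by rw [htt]; group
  have hd : Dat A (normalizer (A : Set L)) m :=
    { emb := hemb
      even := h2
      le := hAN
      nor := le_rfl
      cardM := hm
      cop := hmcop
      one := by omega
      cent := hC
      ti := hnorm }
  obtain ⟨F, i1, i2, n, hn, hF, -, he⟩ := main_comm hd hA
  exact ⟨F, i1, i2, n, hn, hF, he⟩

end H74.ZDat
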