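import Mathlib
import Cfsg.Agent.Lib.H74.Ito3
import Cfsg.Agent.Lib.H74.Ito2
import Cfsg.Agent.Lib.H74.ZDat3

/-!
Ito's theorem on simple groups of conjugate type rank three: the case analysis.
-/
set_option autoImplicit false
set_option linter.unusedSectionVars false

namespace H74.Ito3

open Subgroup H72.TwoLargest H74.Ito1

universe u

variable {G : Type u} [Group G] [Fintype G]

/-- Case A: no proper inclusions between centralisers -/
theorem caseA (hF : ∀ w z : G, w ≠ 1 → z ≠ 1 → C w ≤ C z → C z ≤ C w) {t : G}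
    (ht : orderOf t = 2) : Ab (C t) := by
  have ht1 : t ≠ 1 := by rintro rfl; rw [orderOf_one] at ht; omega
  have htt : t * t = 1 := by rw [← pow_two, ← ht, pow_orderOf_eq_one]
  have key : ∀ v ∈ C t, v * v ≠ 1 → C t ≤ C v := by
    intro v hv hvv
    rw [memC] at hv
    have hv1 : v ≠ 1 := by rintro rfl; simp at hvv
    have h1 : C (v * v) ≤ C v := hF v _ hv1 hvv (by rw [← pow_two]; exact C_pow v 2)
    have hw : (t * v) * (t * v) = v * v := by
      calc (t * v) * (t * v) = t * (v * t) * v := by group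
        _ = t * (t * v) * v := by rw [hv]
        _ = (t * t) * (v * v) := by group
        _ = v * v := by rw [htt, one_mul]
    have hw1 : t * v ≠ 1 := by
      intro h; rw [h, one_mul] at hw; exact hvv hw.symm
    have h2 : C v ≤ C (t * v) := by
      have h3 : C (v * v) ≤ C (t * v) := by
        rw [← hw]
        rw [← hw] at hvv
        exact hF (t * v) _ hw1 hvv (by rw [← pow_two]; exact C_pow _ 2)
      exact (show C v ≤ C (v * v) by rw [← pow_two]; exact C_pow v 2).trans h3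
    have h4 : C v ≤ C t := by
      intro g hg
      have h5 : Commute g (t * v) := memC.mp (h2 hg)
      have h6 : Commute g v := memC.mp hg
      have h7 := h5.mul_right h6.inv_right
      rw [mul_inv_cancel_right] at h7
      exact memC.mpr h7.eq
    exact hF v t hv1 ht1 h4
  have hcomm : ∀ a ∈ C t, ∀ b ∈ C t, a * b = b * a := by
    intro a ha b hb
    by_contra hab
    have hna : ∀ v ∈ C t, (∃ c ∈ C t, c * v ≠ v * c) → v * v = 1 := by
      intro v hv ⟨c, hc, hcv⟩
      by_contra hvv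
      exact hcv (memC.mp (key v hv hvv hc))
    have h1 := hna b hb ⟨a, ha, hab⟩
    have h2 := hna a ha ⟨b, hb, fun h => hab h.symm⟩
    have h3 : a * b * (a * b) = 1 := by
      apply hna (a * b) (mul_mem ha hb) ⟨a, ha, ?_⟩
      intro h
      apply hab
      have : a * (a * b) = a * (b * a) := by rw [h]; group
      exact mul_left_cancel this
    apply hab
    have h4 : a⁻¹ = a := inv_eq_of_mul_eq_one_left h2
    have h5 : b⁻¹ = b := inv_eq_of_mul_eq_one_left h1
    calc a * b = (a * b)⁻¹ := (inv_eq_of_mul_eq_one_left h3).symm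
      _ = b * a := by rw [mul_inv_rev, h4, h5]
  refine ⟨hcomm, ?_⟩
  intro b hb hb1 y hy
  have h1 : C t ≤ C b := fun g hg => memC.mpr (hcomm g hg b hb)
  exact hF t b ht1 hb1 h1 (memC.mpr hy)

/-- Case B -/
structure Hyp (G : Type u) [Group G] [Fintype G] (n1 n2 n3 p q : ℕ) : Prop where
  hp : p.Prime
  hq : q.Prime
  typ : ∀ x : G, x ≠ 1 → cs x = n1 ∨ cs x = n2 ∨ cs x = n3
  ex1 : ∃ x : G, x ≠ 1 ∧ cs x = n1
  ex2 : ∃ x : G, x ≠ 1 ∧ cs x = n2
  ex3 : ∃ x : G, x ≠ 1 ∧ cs x = n3
  cop : n1.Coprime n2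
  lt1 : n1 < n3
  lt2 : n2 < n3
  p1 : p ∣ n1
  p3 : p ∣ n3
  q2 : q ∣ n2
  q3 : q ∣ n3

variable {n1 n2 n3 p q : ℕ}

theorem Hyp.symm (h : Hyp G n1 n2 n3 p q) : Hyp G n2 n1 n3 q p :=
  { hp := h.hq, hq := h.hp
    typ := fun x hx => by rcases h.typ x hx with h1 | h1 | h1 <;> simp [h1]
    ex1 := h.ex2, ex2 := h.ex1, ex3 := h.ex3, cop := h.cop.symm, lt1 := h.lt2, lt2 := h.lt1
    p1 := h.q2, p3 := h.q3, q2 := h.p1, q3 := h.p3 }

namespace Hyp

variable (H : Hyp G n1 n2 n3 p q)
include H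

theorem np2 : ¬ p ∣ n2 := fun h => by
  have := Nat.dvd_gcd H.p1 h
  rw [H.cop] at this
  exact H.hp.one_lt.ne' (Nat.dvd_one.mp this)

theorem nq1 : ¬ q ∣ n1 := H.symm.np2

theorem pos1 : 1 < n1 := by
  obtain ⟨x, -, h⟩ := H.ex1
  have h0 : 0 < n1 := by rw [← h]; exact cs_pos x
  have := Nat.le_of_dvd h0 H.p1
  have := H.hp.one_lt
  omega

theorem pos2 : 1 < n2 := H.symm.pos1

theorem ne_one1 {x : G} (h : cs x = n1) : x ≠ 1 := by
  rintro rfl
  rw [cs_one] at h
  have := H.pos1
  omega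

theorem ne_one2 {x : G} (h : cs x = n2) : x ≠ 1 := H.symm.ne_one1 h

theorem ne_one3 {x : G} (h : cs x = n3) : x ≠ 1 := by
  rintro rfl
  rw [cs_one] at h
  have := H.pos1
  have := H.lt1
  omega

theorem le3 (x : G) : cs x ≤ n3 := by
  have := H.lt1
  have := H.lt2
  have := H.pos1
  by_cases hx : x = 1
  · rw [hx, cs_one]; omega
  · rcases H.typ x hx with h | h | h <;> omega

/-- type 1 has no proper overgroups -/
theorem pr1 {x y : G} (hx : cs x = n1) (hy : y ≠ 1) (h : C x ≤ C y) : cs y = n1 := by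
  have h1 : cs y ∣ n1 := by rw [← hx]; exact cs_dvd_of_le h
  have h3 := H.lt1
  have h4 := H.pos1
  rcases H.typ y hy with h2 | h2 | h2
  · exact h2
  · exfalso
    rw [h2] at h1
    exact H.np2.elim (by
      have h5 := H.cop.symm.eq_one_of_dvd h1
      have := H.pos2
      omega)
  · exfalso
    rw [h2] at h1
    have := Nat.le_of_dvd (by omega) h1
    omega

theorem pr2 {x y : G} (hx : cs x = n2) (hy : y ≠ 1) (h : C x ≤ C y) : cs y = n2 :=
  H.symm.pr1 hx hy h

theorem type2_of_np {z : G} (hz : z ≠ 1) (h : ¬ p ∣ cs z) : cs z = n2 := by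
  rcases H.typ z hz with h1 | h1 | h1
  · exact absurd (h1 ▸ H.p1) h
  · exact h1
  · exact absurd (h1 ▸ H.p3) h

theorem type1_of_nq {z : G} (hz : z ≠ 1) (h : ¬ q ∣ cs z) : cs z = n1 := H.symm.type2_of_np hz h

theorem M3 {v w : G} (hvw : v * w = w * v) (ho : (orderOf v).Coprime (orderOf w))
    (hw : cs w = n3) : C w ≤ C v := by
  have h1 := C_mul hvw ho
  have h2 : C (v * w) ≤ C w := by rw [h1]; exact inf_le_right
  have h3 : cs w ∣ cs (v * w) := cs_dvd_of_le h2
  have h4 : cs (v * w) ≤ cs w := by rw [hw]; exact H.le3 _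
  have h5 := cent_eq_of_le h2 h4
  refine h5.trans ?_
  change C (v * w) ≤ C v
  rw [h1]; exact inf_le_left

/-- every element of order `q` commutes with an element of type 1 -/
theorem syl1 {y : G} (hy : orderOf y = q) : ∃ x : G, cs x = n1 ∧ x ∈ C y := by
  obtain ⟨x, hx, hxy, hn⟩ := exists_syl H.hq hy
  exact ⟨x, H.type1_of_nq hx hn, hxy⟩

section simple

variable [IsSimpleGroup G] (hna : ∃ a b : G, a * b ≠ b * a)
include hna

theorem nc {x y : G} (hx : cs x = n1) (hy : cs y = n2) (h : x ∈ C y) : False :=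
  not_comm hna (H.ne_one1 hx) (H.ne_one2 hy) (by rw [hx, hy]; exact H.cop) (memC.mp h)

theorem B1 {z : G} (hz : cs z = n2) : ¬ q ∣ Nat.card (C z) := by
  intro hd
  obtain ⟨y, hyz, hy⟩ := exists_order H.hq hd
  have hy1 := ne_one_of_prime H.hq hy
  obtain ⟨x, hx, hxy⟩ := H.syl1 hy
  rcases H.typ y hy1 with h | h | h
  · exact H.nc hna h hz hyz
  · exact H.nc hna hx h hxy
  · obtain ⟨k, r, hr, hk⟩ := exists_pow_prime (H.ne_one2 hz)
    have hz' := H.pr2 hz (ne_one_of_prime hr hk) (C_pow z k)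
    by_cases hrq : r = q
    · subst hrq
      obtain ⟨x', hx', hxz⟩ := H.syl1 hk
      exact H.nc hna hx' hz' hxz
    · have h1 : C y ≤ C (z ^ k) := by
        apply H.M3 _ _ h
        · exact (memC.mp (C_pow z k hyz)).symm
        · rw [hk, hy]
          exact (Nat.coprime_primes hr H.hq).mpr hrq
      exact H.nc hna hx hz' (h1 hxy)

theorem B2 {x : G} (hx : cs x = n1) : ¬ p ∣ Nat.card (C x) := H.symm.B1 hna hx

theorem B3a {y : G} (hy : orderOf y = q) : ¬ p ∣ Nat.card (C y) := by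
  intro hd
  have hy1 := ne_one_of_prime H.hq hy
  obtain ⟨x, hx, hxy⟩ := H.syl1 hy
  rcases H.typ y hy1 with h | h | h
  · exact H.B2 hna h hd
  · exact H.B1 hna h (dvd_card_C hy (self_memC y))
  · obtain ⟨u, huy, hu⟩ := exists_order H.hp hd
    have hpq : p ≠ q := by rintro rfl; exact H.np2 H.q2
    have h1 : C y ≤ C u := by
      apply H.M3 (memC.mp huy) _ h
      rw [hu, hy]
      exact (Nat.coprime_primes H.hp H.hq).mpr hpq
    exact H.B2 hna hx (dvd_card_C hu (memC_comm.mp (h1 hxy)))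

theorem B3 {w : G} (hw : cs w = n3) (hp : p ∣ Nat.card (C w)) (hq : q ∣ Nat.card (C w)) :
    False := by
  obtain ⟨k, r, hr, hk⟩ := exists_pow_prime (H.ne_one3 hw)
  have hle := C_pow w k
  have hp' := hp.trans (card_C_dvd hle)
  have hq' := hq.trans (card_C_dvd hle)
  by_cases hrq : r = q
  · subst hrq
    exact H.B3a hna hk hp'
  · have hw' : cs (w ^ k) = n3 := by
      rcases H.typ _ (ne_one_of_prime hr hk) with h | h | h
      · exact (H.B2 hna h hp').elim
      · exact (H.B1 hna h hq').elim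
      · exact h
    obtain ⟨y, hyw, hy⟩ := exists_order H.hq hq'
    have h1 : C (w ^ k) ≤ C y := by
      apply H.M3 (memC.mp hyw) _ hw'
      rw [hy, hk]
      exact (Nat.coprime_primes H.hq hr).mpr (Ne.symm hrq)
    exact H.B3a hna hy (hp'.trans (card_C_dvd h1))

theorem alt : (∀ w : G, cs w = n3 → ¬ p ∣ Nat.card (C w)) ∨
    (∀ w : G, cs w = n3 → ¬ q ∣ Nat.card (C w)) := by
  obtain ⟨w0, -, hw0⟩ := H.ex3
  by_cases h : p ∣ Nat.card (C w0)
  · right
    intro w hw hq
    rw [card_C_eq (hw.trans hw0.symm)] at hq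
    exact H.B3 hna hw0 h hq
  · left
    intro w hw hp
    rw [card_C_eq (hw.trans hw0.symm)] at hp
    exact h hp

theorem card_eq {x u : G} (hx : cs x = n1) (hu : cs u = n2)
    (hB : ∀ v ∈ C u, v ≠ 1 → cs v = n2) : Nat.card G = n1 * n2 ∧ Nat.card (C u) = n1 ∧
      Nat.card (C x) = n2 := by
  have h1 : C x ⊓ C u = ⊥ := by
    rw [eq_bot_iff]
    intro v hv
    obtain ⟨hv1, hv2⟩ := Subgroup.mem_inf.mp hv
    rw [Subgroup.mem_bot]
    by_contra hne
    exact H.nc hna hx (hB v hv2 hne) (memC_comm.mp hv1)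
  have h2 : (C x ⊓ C u).index = n1 * n2 := by
    rw [H72.CoprimeIndex.index_inf_of_coprime]
    · change cs x * cs u = _
      rw [hx, hu]
    · change (cs x).Coprime (cs u)
      rw [hx, hu]; exact H.cop
  rw [h1, Subgroup.index_bot] at h2
  have h3 := card_C u
  have h4 := card_C x
  rw [hu, h2] at h3
  rw [hx, h2, mul_comm n1] at h4
  have p1 := H.pos1
  have p2 := H.pos2
  exact ⟨h2, Nat.eq_of_mul_eq_mul_right (by omega) h3, Nat.eq_of_mul_eq_mul_right (by omega) h4⟩

/-- the main structure lemma -/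
theorem lemS (h3 : ∀ w : G, cs w = n3 → ¬ p ∣ Nat.card (C w)) :
    ∃ u : G, cs u = n2 ∧ Ab (C u) ∧ (∀ v ∈ C u, v ≠ 1 → cs v = n2) := by
  have hpG : p ∣ Nat.card (⊤ : Subgroup G) := by
    obtain ⟨x, -, hx⟩ := H.ex1
    rw [Subgroup.card_top, ← card_C x, hx]
    exact Dvd.dvd.mul_left H.p1 _
  obtain ⟨u, -, hu⟩ := exists_order H.hp hpG
  have hT : ∀ v : G, v ≠ 1 → p ∣ Nat.card (C v) → cs v = n2 := by
    intro v hv hd
    rcases H.typ v hv with h | h | h
    · exact (H.B2 hna h hd).elim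
    · exact h
    · exact (h3 v h hd).elim
  have hu1 := ne_one_of_prime H.hp hu
  have hB : ∀ v ∈ C u, v ≠ 1 → cs v = n2 := by
    intro v hv hv1
    exact hT v hv1 (dvd_card_C hu (memC_comm.mp hv))
  have hu2 := hB u (self_memC u) hu1
  obtain ⟨x, -, hx⟩ := H.ex1
  obtain ⟨hG, hcu, -⟩ := H.card_eq hna hx hu2 hB
  -- a prime different from `p`
  obtain ⟨r, hr, hrp, hrd⟩ : ∃ r : ℕ, r.Prime ∧ r ≠ p ∧ r ∣ Nat.card (C u) := by
    by_contra hcon
    push Not at hcon
    have h4 : n1 = p ^ (n1.primeFactorsList.length) := by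
      apply Nat.eq_prime_pow_of_unique_prime_dvd (by have := H.pos1; omega)
      intro d hd hdd
      by_contra hne
      exact hcon d hd hne (by rw [hcu]; exact hdd)
    have h5 := Cfsg.Agent.S0143.result p _ H.hp x (H.ne_one1 hx) (hx.trans h4)
    have : Fact (Nat.card G).Prime := ⟨h5⟩
    have := isCyclic_of_prime_card (α := G) rfl
    obtain ⟨a, b, hab⟩ := hna
    exact hab ((IsCyclic.isMulCommutative : IsMulCommutative G).is_comm.comm a b)
  obtain ⟨v, hvu, hv⟩ := exists_order hr hrd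
  have hv1 := ne_one_of_prime hr hv
  -- products of commuting elements of coprime orders
  have hprod : ∀ a b : G, a ∈ C u → b ∈ C u → a * b = b * a → a ≠ 1 → b ≠ 1 →
      (orderOf a).Coprime (orderOf b) → C a ≤ C b := by
    intro a b ha hb hab ha1 hb1 ho
    have h4 := C_mul hab ho
    have h5 : a * b ≠ 1 := by
      intro h6
      have h7 : a = b⁻¹ := eq_inv_of_mul_eq_one_left h6
      rw [h7, orderOf_inv, Nat.coprime_self] at ho
      exact hb1 (orderOf_eq_one_iff.mp ho)
    have h6 := hB (a * b) (mul_mem ha hb) h5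
    have h7 : C (a * b) ≤ C a := by rw [h4]; exact inf_le_left
    have h8 := C_le_of h7 (h6.trans (hB a ha ha1).symm)
    refine h8.trans ?_
    rw [h4]; exact inf_le_right
  have huv : C u ≤ C v := by
    apply hprod u v (self_memC u) hvu (memC.mp (memC_comm.mp hvu)) hu1 hv1
    rw [hu, hv]
    exact (Nat.coprime_primes H.hp hr).mpr (Ne.symm hrp)
  -- all elements of `C u` are central in it
  have hcen : ∀ b ∈ C u, C u ≤ C b := by
    intro b hb
    have h4 : ∀ c : G, c ∈ C u → (∃ s k : ℕ, s.Prime ∧ orderOf c = s ^ k) → C u ≤ C c := by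
      rintro c hc ⟨s, k, hs, hk⟩
      by_cases hc1 : c = 1
      · rw [hc1]; intro g _; rw [memC]; simp
      by_cases hsp : s = p
      · -- coprime to `r`
        have h5 : C v ≤ C c := by
          apply hprod v c hvu hc (memC.mp (memC_comm.mp (huv hc))) hv1 hc1
          rw [hv, hk, hsp]
          exact Nat.Coprime.pow_right k ((Nat.coprime_primes hr H.hp).mpr hrp)
        exact huv.trans h5
      · apply hprod u c (self_memC u) hc (memC.mp (memC_comm.mp hc)) hu1 hc1
        rw [hu, hk]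
        exact Nat.Coprime.pow_right k ((Nat.coprime_primes H.hp hs).mpr (Ne.symm hsp))
    intro g hg
    by_contra hgb
    have h5 : b ∉ C g := fun h => hgb (memC_comm.mp h)
    obtain ⟨j, s, k, hs, hk, hj⟩ := exists_primary_pow h5
    exact hj (memC_comm.mp (h4 (b ^ j) ((C u).pow_mem hb j) ⟨s, k, hs, hk⟩ hg))
  refine ⟨u, hu2, ⟨?_, ?_⟩, hB⟩
  · intro a ha b hb
    exact memC.mp (hcen b hb ha)
  · intro b hb hb1 y hy
    exact C_le_of (hcen b hb) (hu2.trans (hB b hb hb1).symm) (memC.mpr hy)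

end simple

end Hyp

end H74.Ito3
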