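import Mathlib
import Cfsg.Agent.Lib.H74.Ito4
import Cfsg.Agent.Lib.H26.IsoInv
import Cfsg.Agent.S0215
import Cfsg.Agent.S0205

/-!
Ito's theorem on simple groups of conjugate type rank three: conclusion.
-/
set_option autoImplicit false
set_option linter.unusedSectionVars false
set_option linter.style.haveILetI false

namespace H74.Ito3

open Subgroup H72.TwoLargest H74.Ito1 H25.StrEmb H25.Isolated H28.Cj H28.RelSyl

universe u

variable {G : Type u} [Group G] [Fintype G]

theorem even_simple [IsSimpleGroup G] (hna : ∃ a b : G, a * b ≠ b * a) : 2 ∣ Nat.card G := by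
  by_contra h
  have h1 : Odd (Nat.card G) := Nat.not_even_iff_odd.mp (fun h2 => h (even_iff_two_dvd.mp h2))
  have h2 : Group.IsSolvable G := Cfsg.Agent.S0205.result h1
  obtain ⟨a, b, hab⟩ := hna
  exact hab (IsSimpleGroup.comm_iff_isSolvable.mpr h2 a b)

theorem no_isolated [IsSimpleGroup G] (hna : ∃ a b : G, a * b ≠ b * a) (t : G) :
    ¬ Cfsg.IsIsolatedInvolution t := by
  intro ht
  haveI : Fact (Nat.Prime 2) := ⟨Nat.prime_two⟩
  have h1 : IsPGroup 2 (zpowers t) := by
    apply IsPGroup.of_card (n := 1)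
    rw [Nat.card_zpowers, ht.1, pow_one]
  obtain ⟨P, hP⟩ := h1.exists_le_sylow
  have htP : t ∈ P := hP (mem_zpowers t)
  obtain ⟨N, hN, hNo, hNt⟩ := Cfsg.Agent.S0215.result P t ht.1 htP
    (H26.IsoInv.isolated_sylow ht P htP)
  rcases IsSimpleGroup.eq_bot_or_eq_top_of_normal N hN with h | h
  · apply ne_one_of_prime Nat.prime_two ht.1
    apply eq_one_of_central hna
    intro g
    have h2 := hNt g
    rw [h, Subgroup.mem_bot] at h2
    calc g * t = (t * g * t⁻¹ * g⁻¹) * g * t := by rw [h2, one_mul]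
      _ = t * g := by group
  · rw [h, Subgroup.card_top] at hNo
    exact (Nat.not_even_iff_odd.mpr hNo) (even_iff_two_dvd.mpr (even_simple hna))

namespace Hyp

variable {n1 n2 n3 p q : ℕ} (H : Hyp G n1 n2 n3 p q)
include H

section simple

variable [IsSimpleGroup G] (hna : ∃ a b : G, a * b ≠ b * a)
include hna

theorem ne12 : n1 ≠ n2 := by
  intro h
  have h1 := H.cop
  rw [h, Nat.coprime_self] at h1
  have := H.pos2
  omega

theorem iso' {u : G} (hu : cs u = n2) (hA : Ab (C u)) (hB : ∀ v ∈ C u, v ≠ 1 → cs v = n2)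
    {x : G} (hx : cs x = n1) (g : G) (hg : x * (g * x * g⁻¹) = (g * x * g⁻¹) * x) :
    g * x * g⁻¹ = x := by
  obtain ⟨hG, hcu, hcx⟩ := H.card_eq hna hx hu hB
  have h1 : ∀ g : G, g * x * g⁻¹ ∉ C u := by
    intro g hmem
    have h2 : cs (g * x * g⁻¹) = n1 := by rw [cs_conj, hx]
    have h3 := hB _ hmem (H.ne_one1 h2)
    exact H.ne12 hna (h2.symm.trans h3)
  have h2 : Nat.card G = Nat.card (C u) * Nat.card (C x) := by rw [hG, hcu, hcx]
  rcases iso hA ⟨u, self_memC u, H.ne_one2 hu⟩ h1 h2 with h | h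
  · exact absurd (eq_one_of_comm hna (H.ne_one1 hx) h) (H.ne_one1 hx)
  · exact h g hg

theorem odd_false {u : G} (hu : cs u = n2) (hA : Ab (C u))
    (hB : ∀ v ∈ C u, v ≠ 1 → cs v = n2) (hodd : ¬ 2 ∣ n1) : False := by
  obtain ⟨x, hx1, hx⟩ := H.ex1
  obtain ⟨hG, hcu, hcx⟩ := H.card_eq hna hx hu hB
  have hiso : ∀ x : G, cs x = n1 → ∀ g : G, x * (g * x * g⁻¹) = (g * x * g⁻¹) * x →
      g * x * g⁻¹ = x := fun x hx g hg => H.iso' hna hu hA hB hx g hg
  have hno : ∀ t : G, orderOf t = 2 → cs t ≠ n1 := by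
    intro t ht h
    exact no_isolated hna t ⟨ht, fun g hg => hiso t h g hg.eq⟩
  have hinv : ∀ t : G, orderOf t = 2 → cs t = n3 := by
    intro t ht
    rcases H.typ t (ne_one_of_prime Nat.prime_two ht) with h | h | h
    · exact (hno t ht h).elim
    · exfalso
      apply hodd
      rw [← hcu, card_C_eq (hu.trans h.symm)]
      exact dvd_card_C ht (self_memC t)
    · exact h
  have hGe := even_simple hna
  have hn2 : 2 ∣ n2 := by
    rw [hG] at hGe
    exact (Nat.prime_two.dvd_mul.mp hGe).resolve_left hodd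
  obtain ⟨t0, -, ht0⟩ := exists_order Nat.prime_two (H := (⊤ : Subgroup G))
    (by rw [Subgroup.card_top]; exact hGe)
  have heven3 : ∀ d : G, cs d = n3 → 2 ∣ Nat.card (C d) := by
    intro d hd
    rw [card_C_eq (hd.trans (hinv t0 ht0).symm)]
    exact dvd_card_C ht0 (self_memC t0)
  have hxodd : ∀ t : G, orderOf t = 2 → (orderOf x).Coprime (orderOf t) := by
    intro t ht
    rw [ht, Nat.coprime_comm, Nat.prime_two.coprime_iff_not_dvd]
    intro h
    have h2 : orderOf (x ^ (orderOf x / 2)) = 2 := by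
      rw [orderOf_pow' _ (by
        intro h3
        have := Nat.div_mul_cancel h
        have := orderOf_pos x
        rw [h3] at *
        omega)]
      rw [Nat.gcd_eq_right (Nat.div_dvd_of_dvd h)]
      exact Nat.div_div_self h (orderOf_pos x).ne'
    exact hno _ h2 (H.pr1 hx (ne_one_of_prime Nat.prime_two h2) (C_pow x _))
  have hM : ∀ t : G, orderOf t = 2 → t ∈ C x → C t ≤ C x := by
    intro t ht htx
    exact H.M3 (memC.mp (memC_comm.mp htx)) (hxodd t ht) (hinv t ht)
  have hM' : ∀ g t : G, orderOf t = 2 → t ∈ C (g * x * g⁻¹) → C t ≤ C (g * x * g⁻¹) := by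
    intro g t ht htx
    refine H.M3 (memC.mp (memC_comm.mp htx)) ?_ (hinv t ht)
    have h1 : orderOf (g * x * g⁻¹) = orderOf x := by
      have := MulEquiv.orderOf_eq (MulAut.conj g) x
      simpa [MulAut.conj_apply] using this
    rw [h1]; exact hxodd t ht
  have hemb : Cfsg.IsStronglyEmbedded (C x) := by
    refine ⟨?_, ?_, ?_⟩
    · intro h
      have h1 : cs x = 1 := by rw [cs]; rw [show centralizer ({x} : Set G) = ⊤ from h]; simp
      rw [hx] at h1
      have := H.pos1
      omega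
    · rw [even_iff_two_dvd, hcx]; exact hn2
    · intro g hg
      rw [← Nat.not_even_iff_odd, even_iff_two_dvd]
      intro h
      obtain ⟨t, htm, ht⟩ := exists_order Nat.prime_two h
      obtain ⟨ht1, ht2⟩ := Subgroup.mem_inf.mp htm
      rw [mem_map_conj] at ht2
      apply hg
      have h1 : t ∈ C (g * x * g⁻¹) := by
        rw [memC] at ht2 ⊢
        calc t * (g * x * g⁻¹) = g * (g⁻¹ * t * g * x) * g⁻¹ := by group
          _ = g * (x * (g⁻¹ * t * g)) * g⁻¹ := by rw [ht2]
          _ = g * x * g⁻¹ * t := by group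
      have h2 := hM' g t ht h1 (memC_comm.mp ht1)
      have h3 := hiso x hx g (memC.mp h2)
      rw [memC]
      calc g * x = (g * x * g⁻¹) * g := by group
        _ = x * g := by rw [h3]
  -- a second point
  obtain ⟨a, ha⟩ : ∃ a : G, a ∉ C x := by
    by_contra hcon
    push Not at hcon
    exact hemb.1 (eq_top_iff.mpr fun a _ => hcon a)
  have hx0 : ∀ g : G, g • (QuotientGroup.mk 1 : G ⧸ C x) = QuotientGroup.mk 1 ↔ g ∈ C x := by
    intro g
    rw [smul_mk_eq_iff]; simp
  have hxy : (QuotientGroup.mk 1 : G ⧸ C x) ≠ QuotientGroup.mk a := by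
    intro h
    rw [QuotientGroup.eq] at h
    exact ha (by simpa using h)
  have hsw := card_swap hemb _ _ hxy
  obtain ⟨t1, ht1M, ht1⟩ := exists_involution hemb
  by_cases huniq : ∀ t : G, orderOf t = 2 → t ∈ C x → t = t1
  · -- central involution
    have h1 : C x ≤ C t1 := by
      intro g hg
      have h2 : orderOf (g * t1 * g⁻¹) = 2 := by
        have := MulEquiv.orderOf_eq (MulAut.conj g) t1
        rw [MulAut.conj_apply] at this
        rw [this, ht1]
      have h3 := huniq _ h2 (mul_mem (mul_mem hg ht1M) (inv_mem hg))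
      rw [memC]
      calc g * t1 = (g * t1 * g⁻¹) * g := by group
        _ = t1 * g := by rw [h3]
    exact hno t1 ht1 (H.pr1 hx (ne_one_of_prime Nat.prime_two ht1) h1)
  · push Not at huniq
    obtain ⟨t2, ht2, ht2M, ht21⟩ := huniq
    have h1 : 1 < Nat.card {t : G // orderOf t = 2 ∧ t ∈ C x} := by
      haveI : Nontrivial {t : G // orderOf t = 2 ∧ t ∈ C x} :=
        ⟨⟨⟨t2, ht2, ht2M⟩, ⟨t1, ht1, ht1M⟩, fun h => ht21 (congrArg Subtype.val h)⟩⟩
      exact Finite.one_lt_card
    rw [← hsw] at h1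
    haveI := Finite.one_lt_card_iff_nontrivial.mp h1
    obtain ⟨⟨s, hs, hsy⟩, ⟨i, hi, hiy⟩, hsi⟩ := exists_pair_ne
      {i : G // orderOf i = 2 ∧ i • (QuotientGroup.mk 1 : G ⧸ C x) = QuotientGroup.mk a}
    have hsi' : s ≠ i := fun h => hsi (Subtype.ext h)
    have hss := self_mul_self hs
    have hii := self_mul_self hi
    have hs1 : s⁻¹ = s := inv_eq_self_of_sq hss
    have hi1 : i⁻¹ = i := inv_eq_self_of_sq hii
    have hsy' : s • (QuotientGroup.mk a : G ⧸ C x) = QuotientGroup.mk 1 := by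
      rw [← hsy, ← mul_smul, hss, one_smul]
    have hiy' : i • (QuotientGroup.mk a : G ⧸ C x) = QuotientGroup.mk 1 := by
      rw [← hiy, ← mul_smul, hii, one_smul]
    have hsM : s ∉ C x := by
      intro h
      rw [← hx0, hsy] at h
      exact hxy h.symm
    have hd1 : s * i ∈ C x := by
      rw [← hx0, mul_smul, hiy, hsy']
    have hd2 : (s * i) • (QuotientGroup.mk a : G ⧸ C x) = QuotientGroup.mk a := by
      rw [mul_smul, hiy', hsy]
    have hdodd : Odd (orderOf (s * i)) := by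
      have h2 := hemb.2.2 a ha
      apply Odd.of_dvd_nat h2
      apply Subgroup.orderOf_dvd_natCard
      refine Subgroup.mem_inf.mpr ⟨hd1, ?_⟩
      rw [mem_map_conj, ← smul_mk_eq_iff]
      exact hd2
    have hdne : s * i ≠ 1 := by
      intro h
      exact hsi' (by rw [← hi1]; exact eq_inv_of_mul_eq_one_left h)
    have hdinv : s * (s * i) * s⁻¹ = (s * i)⁻¹ := by
      rw [mul_inv_rev, hi1, hs1, ← mul_assoc, hss, one_mul]
    obtain ⟨d, hd⟩ : ∃ d, d = s * i := ⟨_, rfl⟩
    rw [← hd] at hd1 hd2 hdodd hdne hdinv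
    rcases H.typ d hdne with h | h | h
    · have h2 := hiso d h s (by rw [hdinv]; group)
      rw [hdinv] at h2
      have h3 : d * d = 1 := by
        nth_rewrite 1 [← h2]; group
      apply hdne
      obtain ⟨r, hr⟩ := hdodd
      have h4 : d ^ (2 * r + 1) = 1 := by rw [← hr]; exact pow_orderOf_eq_one d
      rw [pow_succ, pow_mul, pow_two, h3, one_pow, one_mul] at h4
      exact h4
    · exact H.nc hna hx h (memC_comm.mp hd1)
    · obtain ⟨t, htd, ht⟩ := exists_order Nat.prime_two (heven3 d h)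
      have hcop : (orderOf t).Coprime (orderOf d) := by
        rw [ht, Nat.prime_two.coprime_iff_not_dvd]
        intro h2
        exact (Nat.not_even_iff_odd.mpr hdodd) (even_iff_two_dvd.mpr h2)
      have h2 : C d ≤ C t := H.M3 (memC.mp htd) hcop h
      have h3 : x ∈ C t := h2 (memC_comm.mp hd1)
      have h4 := hM t ht (memC_comm.mp h3)
      have h5 : s * x * s⁻¹ ∈ C d := by
        have h6 : Commute (s * x * s⁻¹) (s * d * s⁻¹) := by
          have h7 : x * d = d * x := memC.mp (memC_comm.mp hd1)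
          show s * x * s⁻¹ * (s * d * s⁻¹) = s * d * s⁻¹ * (s * x * s⁻¹)
          calc s * x * s⁻¹ * (s * d * s⁻¹) = s * (x * d) * s⁻¹ := by group
            _ = s * (d * x) * s⁻¹ := by rw [h7]
            _ = _ := by group
        rw [hdinv] at h6
        have h7 := h6.inv_right
        rw [inv_inv] at h7
        exact memC.mpr h7.eq
      have h6 := h4 (h2 h5)
      have h7 := hiso x hx s (memC.mp h6).symm
      apply hsM
      rw [memC]
      calc s * x = (s * x * s⁻¹) * s := by group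
        _ = x * s := by rw [h7]

/-- the conclusion in case B -/
theorem conclusion (hlt : n1 < n2) :
    ∃ (F : Type) (_ : Field F) (_ : Fintype F) (n : ℕ), 2 ≤ n ∧ Fintype.card F = 2 ^ n ∧
      Nonempty (G ≃* Matrix.ProjectiveSpecialLinearGroup (Fin 2) F) := by
  rcases H.alt hna with h3 | h3
  · obtain ⟨u, hu, hA, hB⟩ := H.lemS hna h3
    by_cases h2 : 2 ∣ n1
    · obtain ⟨x, -, hx⟩ := H.ex1
      obtain ⟨-, hcu, -⟩ := H.card_eq hna hx hu hB
      exact ZDat.simple_comm hna hA.comm hA.cent (by rw [hcu]; exact h2)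
    · exact (H.odd_false hna hu hA hB h2).elim
  · exfalso
    obtain ⟨x, hx, hA, hB⟩ := H.symm.lemS hna h3
    obtain ⟨u, -, hu⟩ := H.ex2
    obtain ⟨hG, hcx, -⟩ := H.symm.card_eq hna hu hx hB
    -- a disjoint conjugate
    obtain ⟨g, hg⟩ : ∃ g : G, C x ⊓ C (g * x * g⁻¹) = ⊥ := by
      by_contra hcon
      push Not at hcon
      apply H.ne_one1 hx
      apply eq_one_of_comm hna (H.ne_one1 hx)
      intro g
      obtain ⟨v, hv⟩ := Subgroup.ne_bot_iff_exists_ne_one.mp (hcon g)
      obtain ⟨hv1, hv2⟩ := Subgroup.mem_inf.mp v.2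
      have hvne : (v : G) ≠ 1 := fun h => hv (Subtype.ext h)
      have h4 := hA.cent v hv1 hvne (g * x * g⁻¹) (memC.mp (memC_comm.mp hv2))
      exact (memC.mp h4).symm
    have hcg : Nat.card (C (g * x * g⁻¹)) = n2 := by
      rw [card_C_eq (cs_conj x g), hcx]
    have hdisj : Disjoint (C x) (C (g * x * g⁻¹)) := disjoint_iff.mpr hg
    have hinj := Subgroup.mul_injective_of_disjoint hdisj
    have h4 := Nat.card_le_card_of_injective _ hinj
    rw [Nat.card_prod, hcx, hcg, hG] at h4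
    have h5 := Nat.le_of_mul_le_mul_left h4 (by have := H.pos2; omega)
    omega

end simple

end Hyp

/-- two coprime class sizes among three -/
theorem coprime_case [IsSimpleGroup G] (hna : ∃ a b : G, a * b ≠ b * a) {a b c : ℕ}
    (htyp : ∀ x : G, x ≠ 1 → cs x = a ∨ cs x = b ∨ cs x = c)
    (ha : ∃ x : G, x ≠ 1 ∧ cs x = a) (hb : ∃ x : G, x ≠ 1 ∧ cs x = b)
    (hc : ∃ x : G, x ≠ 1 ∧ cs x = c) (hlt : a < b) (hcop : a.Coprime b) :
    ∃ (F : Type) (_ : Field F) (_ : Fintype F) (n : ℕ), 2 ≤ n ∧ Fintype.card F = 2 ^ n ∧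
      Nonempty (G ≃* Matrix.ProjectiveSpecialLinearGroup (Fin 2) F) := by
  have hprod : ∀ x y : G, x ≠ 1 → y ≠ 1 → (cs x).Coprime (cs y) → x * y ≠ 1 := by
    intro x y hx hy hxy h
    have h1 := cs_lt_left hna hx hy hxy
    rw [h, cs_one] at h1
    have := cs_pos x
    omega
  have hbc : b < c := by
    obtain ⟨x, hx, hxa⟩ := ha
    obtain ⟨y, hy, hyb⟩ := hb
    have hxy : (cs x).Coprime (cs y) := by rw [hxa, hyb]; exact hcop
    have h1 := cs_lt_left hna hx hy hxy
    have h2 := cs_lt_right hna hx hy hxy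
    rw [hxa] at h1
    rw [hyb] at h2
    rcases htyp _ (hprod x y hx hy hxy) with h | h | h <;> omega
  have hcomm : ∀ d : ℕ, d < c → (∃ x : G, x ≠ 1 ∧ cs x = d) → ∃ p : ℕ, p.Prime ∧ p ∣ d ∧ p ∣ c := by
    intro d hd ⟨x, hx, hxd⟩
    obtain ⟨y, hy, hyc⟩ := hc
    apply Nat.Prime.not_coprime_iff_dvd.mp
    intro hco
    have hxy : (cs x).Coprime (cs y) := by rw [hxd, hyc]; exact hco
    have h2 := cs_lt_right hna hx hy hxy
    rw [hyc] at h2
    rcases htyp _ (hprod x y hx hy hxy) with h | h | h <;> omega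
  obtain ⟨p, hp, hpa, hpc⟩ := hcomm a (hlt.trans hbc) ha
  obtain ⟨q, hq, hqb, hqc⟩ := hcomm b hbc hb
  have H : Hyp G a b c p q :=
    { hp := hp, hq := hq, typ := htyp, ex1 := ha, ex2 := hb, ex3 := hc, cop := hcop
      lt1 := hlt.trans hbc, lt2 := hbc, p1 := hpa, p3 := hpc, q2 := hqb, q3 := hqc }
  exact H.conclusion hna hlt

/-- some class size is not divisible by a given prime divisor of the group order -/
theorem exists_not_dvd {p : ℕ} (hp : p.Prime) (hd : p ∣ Nat.card G) :
    ∃ z : G, z ≠ 1 ∧ ¬ p ∣ cs z := by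
  obtain ⟨y, -, hy⟩ := exists_order hp (H := (⊤ : Subgroup G)) (by rw [Subgroup.card_top]; exact hd)
  obtain ⟨z, hz, -, h⟩ := exists_syl hp hy
  exact ⟨z, hz, h⟩

/-- no coprime pair -/
theorem noncoprime_case [IsSimpleGroup G] (hna : ∃ a b : G, a * b ≠ b * a)
    (hnc : ∀ x y : G, x ≠ 1 → y ≠ 1 → ¬ (cs x).Coprime (cs y))
    (hthird : ∀ w z : G, w ≠ 1 → z ≠ 1 → cs w ≠ cs z → ∃ v : G, v ≠ 1 ∧
      ∀ g : G, g ≠ 1 → cs g = cs w ∨ cs g = cs z ∨ cs g = cs v) :
    ∃ (F : Type) (_ : Field F) (_ : Fintype F) (n : ℕ), 2 ≤ n ∧ Fintype.card F = 2 ^ n ∧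
      Nonempty (G ≃* Matrix.ProjectiveSpecialLinearGroup (Fin 2) F) := by
  have hF : ∀ w z : G, w ≠ 1 → z ≠ 1 → C w ≤ C z → C z ≤ C w := by
    intro w z hw hz hle
    by_cases hwz : cs w = cs z
    · exact C_le_of hle hwz
    · exfalso
      obtain ⟨v, hv, hall⟩ := hthird w z hw hz hwz
      obtain ⟨p, hp, hpz, hpv⟩ := Nat.Prime.not_coprime_iff_dvd.mp (hnc z v hz hv)
      have hpw : p ∣ cs w := hpz.trans (cs_dvd_of_le hle)
      have hpG : p ∣ Nat.card G := by
        rw [← card_C z]; exact Dvd.dvd.mul_left hpz _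
      obtain ⟨g, hg, hgp⟩ := exists_not_dvd hp hpG
      rcases hall g hg with h | h | h <;> rw [h] at hgp
      · exact hgp hpw
      · exact hgp hpz
      · exact hgp hpv
  obtain ⟨t, -, ht⟩ := exists_order Nat.prime_two (H := (⊤ : Subgroup G))
    (by rw [Subgroup.card_top]; exact even_simple hna)
  have hA := caseA hF ht
  exact ZDat.simple_comm hna hA.comm hA.cent (dvd_card_C ht (self_memC t))

theorem mem_center_iff_eq_one [IsSimpleGroup G] (hna : ∃ a b : G, a * b ≠ b * a) (x : G) :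
    x ∈ center G ↔ x = 1 := by
  constructor
  · intro h
    exact eq_one_of_central hna (Subgroup.mem_center_iff.mp h)
  · rintro rfl; exact one_mem _

theorem forward [IsSimpleGroup G] (hna : ∃ a b : G, a * b ≠ b * a)
    (hn : Set.ncard {m : ℕ | ∃ x : G, x ∉ Subgroup.center G ∧
      m = (Subgroup.centralizer ({x} : Set G)).index} = 3) :
    ∃ (F : Type) (_ : Field F) (_ : Fintype F) (n : ℕ), 2 ≤ n ∧ Fintype.card F = 2 ^ n ∧
      Nonempty (G ≃* Matrix.ProjectiveSpecialLinearGroup (Fin 2) F) := by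
  obtain ⟨a, b, c, hab, hac, hbc, hS⟩ := Set.ncard_eq_three.mp hn
  have hmem : ∀ m : ℕ, (∃ x : G, x ≠ 1 ∧ cs x = m) ↔ m = a ∨ m = b ∨ m = c := by
    intro m
    have h1 : m ∈ {m : ℕ | ∃ x : G, x ∉ Subgroup.center G ∧
      m = (Subgroup.centralizer ({x} : Set G)).index} ↔ m ∈ ({a, b, c} : Set ℕ) := by rw [hS]
    simp only [Set.mem_setOf_eq, Set.mem_insert_iff, Set.mem_singleton_iff,
      mem_center_iff_eq_one hna] at h1
    rw [← h1]
    exact ⟨fun ⟨x, h2, h3⟩ => ⟨x, h2, h3.symm⟩, fun ⟨x, h2, h3⟩ => ⟨x, h2, h3.symm⟩⟩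
  have htyp : ∀ x : G, x ≠ 1 → cs x = a ∨ cs x = b ∨ cs x = c := fun x hx =>
    (hmem _).mp ⟨x, hx, rfl⟩
  have ha := (hmem a).mpr (Or.inl rfl)
  have hb := (hmem b).mpr (Or.inr (Or.inl rfl))
  have hc := (hmem c).mpr (Or.inr (Or.inr rfl))
  by_cases hnc : ∀ x y : G, x ≠ 1 → y ≠ 1 → ¬ (cs x).Coprime (cs y)
  · apply noncoprime_case hna hnc
    intro w z hw hz hwz
    obtain ⟨xa, hxa, rfl⟩ := ha
    obtain ⟨xb, hxb, rfl⟩ := hb
    obtain ⟨xc, hxc, rfl⟩ := hc
    rcases htyp w hw with h1 | h1 | h1 <;> rcases htyp z hz with h2 | h2 | h2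
    · exact absurd (h1.trans h2.symm) hwz
    · exact ⟨xc, hxc, fun g hg => by rw [h1, h2]; rcases htyp g hg with h | h | h <;> simp [h]⟩
    · exact ⟨xb, hxb, fun g hg => by rw [h1, h2]; rcases htyp g hg with h | h | h <;> simp [h]⟩
    · exact ⟨xc, hxc, fun g hg => by rw [h1, h2]; rcases htyp g hg with h | h | h <;> simp [h]⟩
    · exact absurd (h1.trans h2.symm) hwz
    · exact ⟨xa, hxa, fun g hg => by rw [h1, h2]; rcases htyp g hg with h | h | h <;> simp [h]⟩
    · exact ⟨xb, hxb, fun g hg => by rw [h1, h2]; rcases htyp g hg with h | h | h <;> simp [h]⟩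
    · exact ⟨xa, hxa, fun g hg => by rw [h1, h2]; rcases htyp g hg with h | h | h <;> simp [h]⟩
    · exact absurd (h1.trans h2.symm) hwz
  · push Not at hnc
    obtain ⟨x, y, hx, hy, hxy⟩ := hnc
    have e1 := htyp x hx
    have e2 := htyp y hy
    have h0 := cs_ne_one hna hx
    have hne : cs x ≠ cs y := by
      intro h
      rw [h, Nat.coprime_self] at hxy
      rw [h] at h0
      exact h0 hxy
    -- all ordered pairs
    have main : ∀ a b c : ℕ, (∀ x : G, x ≠ 1 → cs x = a ∨ cs x = b ∨ cs x = c) →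
        (∃ x : G, x ≠ 1 ∧ cs x = a) → (∃ x : G, x ≠ 1 ∧ cs x = b) →
        (∃ x : G, x ≠ 1 ∧ cs x = c) → a ≠ b → a.Coprime b →
        ∃ (F : Type) (_ : Field F) (_ : Fintype F) (n : ℕ), 2 ≤ n ∧ Fintype.card F = 2 ^ n ∧
          Nonempty (G ≃* Matrix.ProjectiveSpecialLinearGroup (Fin 2) F) := by
      intro a b c ht ha hb hc hab hco
      rcases lt_or_gt_of_ne hab with h | h
      · exact coprime_case hna ht ha hb hc h hco
      · exact coprime_case hna (fun x hx => by rcases ht x hx with h | h | h <;> simp [h])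
          hb ha hc h hco.symm
    rcases e1 with h1 | h1 | h1 <;> rcases e2 with h2 | h2 | h2
    · exact absurd (h1.trans h2.symm) hne
    · exact main a b c htyp ha hb hc hab (by rw [← h1, ← h2]; exact hxy)
    · exact main a c b (fun x hx => by rcases htyp x hx with h | h | h <;> simp [h]) ha hc hb hac
        (by rw [← h1, ← h2]; exact hxy)
    · exact main a b c htyp ha hb hc hab (by rw [← h1, ← h2]; exact hxy.symm)
    · exact absurd (h1.trans h2.symm) hne
    · exact main b c a (fun x hx => by rcases htyp x hx with h | h | h <;> simp [h]) hb hc ha hbc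
        (by rw [← h1, ← h2]; exact hxy)
    · exact main a c b (fun x hx => by rcases htyp x hx with h | h | h <;> simp [h]) ha hc hb hac
        (by rw [← h1, ← h2]; exact hxy.symm)
    · exact main b c a (fun x hx => by rcases htyp x hx with h | h | h <;> simp [h]) hb hc ha hbc
        (by rw [← h1, ← h2]; exact hxy.symm)
    · exact absurd (h1.trans h2.symm) hne

end H74.Ito3
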