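import Mathlib
import Cfsg.Agent.Lib.H11.DihedralAut
import Cfsg.Agent.Lib.H5.InvTools
import Cfsg.Agent.Lib.H5.Dihedral
import Cfsg.Agent.Lib.H18.OddOrder
import Cfsg.Agent.Lib.H4.CAA

set_option autoImplicit false
set_option linter.unusedSectionVars false
set_option linter.unusedVariables false
set_option linter.style.haveILetI false

/-!
# S4369, piece K1: Frattini argument for dihedral Sylow `2`-subgroups
-/

namespace H74.K1

open Subgroup

universe u

theorem mem_of_sq {X : Type*} [Group X] {L : Subgroup X} (hL : ∀ x : X, x * x ∈ L) {x : X}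
    (ho : Odd (orderOf x)) : x ∈ L := by
  obtain ⟨k, hk⟩ := ho
  have h1 : (x ^ k) * (x ^ k) ∈ L := hL _
  have h2 : x = ((x ^ k) * (x ^ k))⁻¹ := by
    rw [eq_inv_iff_mul_eq_one, ← pow_add, ← pow_succ']
    rw [show k + k + 1 = 2 * k + 1 by ring, ← hk, pow_orderOf_eq_one]
  rw [h2]; exact L.inv_mem h1

theorem klein_odd {S : Type*} [Group S] [Finite S] (h4 : Nat.card S = 4) (σ τ : MulAut S)
    (hσ : Odd (orderOf σ)) (hτ : Odd (orderOf τ)) (hτ1 : τ ≠ 1) : σ ∈ zpowers τ := by
  classical
  have hle : Nat.card (MulAut S) ≤ 6 := by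
    have h1 : ∀ (ρ : MulAut S) (x : S), x ≠ 1 ↔ ρ.toEquiv x ≠ 1 := by
      intro ρ x
      show x ≠ 1 ↔ ρ x ≠ 1
      rw [Ne, Ne, MulEquiv.map_eq_one_iff]
    let f : MulAut S → Equiv.Perm {x : S // x ≠ 1} := fun ρ => ρ.toEquiv.subtypeEquiv (h1 ρ)
    have hf : Function.Injective f := by
      intro ρ ρ' h
      apply MulEquiv.ext
      intro x
      by_cases hx : x = 1
      · rw [hx, map_one, map_one]
      · have := congrArg (fun p : Equiv.Perm {x : S // x ≠ 1} => ((p ⟨x, hx⟩ : {x : S // x ≠ 1}) : S)) h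
        exact this
    have h2 := Nat.card_le_card_of_injective f hf
    have h3 : Nat.card {x : S // x ≠ 1} = 3 := by
      have h5 : Nat.card {x : S // x = 1} = 1 := by
        rw [Nat.card_eq_one_iff_unique]
        exact ⟨⟨fun a b => Subtype.ext (a.2.trans b.2.symm)⟩, ⟨⟨1, rfl⟩⟩⟩
      haveI := Fintype.ofFinite S
      have h6 := Fintype.card_subtype_compl (fun x : S => x = 1)
      rw [Nat.card_eq_fintype_card] at h4 h5
      rw [Nat.card_eq_fintype_card, h6, h4, h5]
    rw [Nat.card_perm, h3] at h2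
    exact h2
  have hτ3 : 3 ≤ orderOf τ := by
    have h0 := orderOf_pos τ
    have h1 : orderOf τ ≠ 1 := fun h => hτ1 (orderOf_eq_one_iff.1 h)
    obtain ⟨k, hk⟩ := hτ
    omega
  have hidx : (zpowers τ).index ≤ 2 := by
    have h1 := Subgroup.card_mul_index (zpowers τ)
    rw [Nat.card_zpowers] at h1
    by_contra hlt
    push Not at hlt
    have : 3 * 3 ≤ orderOf τ * (zpowers τ).index := Nat.mul_le_mul hτ3 hlt
    omega
  have h0 : (zpowers τ).index ≠ 0 := Subgroup.index_ne_zero_of_finite
  rcases (show (zpowers τ).index = 1 ∨ (zpowers τ).index = 2 by omega) with h | h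
  · rw [Subgroup.index_eq_one.1 h]; exact mem_top σ
  · refine mem_of_sq (fun x => ?_) hσ
    rw [Subgroup.mul_mem_iff_of_index_two h]

/-- the conjugation action of `g` on `S` -/
theorem odd_action {X : Type*} [Group X] [Finite X] (S : Subgroup X) (g : normalizer (S : Set X))
    (hg : Odd (orderOf g)) : Odd (orderOf (S.normalizerMonoidHom g)) :=
  hg.of_dvd_nat (orderOf_map_dvd _ _)

theorem two_mem {X : Type*} [Group X] [Finite X] (S : Sylow 2 X) {g : X}
    (hg : g ∈ normalizer ((S : Subgroup X) : Set X)) {k : ℕ} (hk : g ^ 2 ^ k = 1) : g ∈ (S : Subgroup X) := by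
  haveI : Fact (Nat.Prime 2) := ⟨Nat.prime_two⟩
  have hgp : IsPGroup 2 (zpowers g) := by
    have h1 : orderOf g ∣ 2 ^ k := orderOf_dvd_of_pow_eq_one hk
    obtain ⟨i, -, hi⟩ := (Nat.dvd_prime_pow Nat.prime_two).1 h1
    exact IsPGroup.of_card (n := i) (by rw [Nat.card_zpowers, hi])
  have h1 := hgp.inf_normalizer_sylow S
  have h2 : g ∈ zpowers g ⊓ normalizer (S : Set X) := ⟨mem_zpowers g, hg⟩
  rw [h1] at h2
  exact h2.2

theorem exists_pow_odd {X : Type*} [Group X] [Finite X] (x : X) : ∃ k : ℕ, Odd (orderOf (x ^ 2 ^ k)) := by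
  have hpos := orderOf_pos x
  obtain ⟨k, m, hm, hk⟩ := Nat.exists_eq_two_pow_mul_odd hpos.ne'
  refine ⟨k, ?_⟩
  rw [orderOf_pow' x (by positivity), hk, Nat.gcd_eq_right (Dvd.intro _ rfl), Nat.mul_div_cancel_left _ (by positivity)]
  exact hm

/-- it suffices to consider elements of odd order -/
theorem mem_of_parts {X : Type*} [Group X] [Finite X] {L : Subgroup X} (g : X)
    (h1 : ∀ k : ℕ, Odd (orderOf (g ^ k)) → g ^ k ∈ L) (h2 : ∀ k i : ℕ, (g ^ k) ^ 2 ^ i = 1 → g ^ k ∈ L) :
    g ∈ L := by
  obtain ⟨k, hk⟩ := exists_pow_odd g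
  set o := orderOf (g ^ 2 ^ k) with ho
  have h3 : g ^ 2 ^ k ∈ L := h1 _ hk
  have h4 : g ^ o ∈ L := by
    refine h2 o k ?_
    rw [← pow_mul, mul_comm, pow_mul, ho, pow_orderOf_eq_one]
  have hco : Nat.Coprime (2 ^ k) o := Nat.Coprime.pow_left _ (Nat.coprime_two_left.2 hk)
  have h6 : g = (g ^ 2 ^ k) ^ (Nat.gcdA (2 ^ k) o) * (g ^ o) ^ (Nat.gcdB (2 ^ k) o) := by
    rw [← zpow_natCast g (2 ^ k), ← zpow_natCast g o, ← _root_.zpow_mul, ← _root_.zpow_mul, ← _root_.zpow_add,
      ← Nat.gcd_eq_gcd_ab, hco.gcd_eq_one]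
    simp
  rw [h6]
  exact L.mul_mem (L.zpow_mem h3 _) (L.zpow_mem h4 _)

theorem frat {X : Type u} [Group X] [Finite X] (S : Sylow 2 X) (n : ℕ) (hn : 2 ≤ n)
    (e : (S : Subgroup X) ≃* DihedralGroup n)
    (hC : ∀ c : X, (∀ s ∈ (S : Subgroup X), c * s = s * c) → Odd (orderOf c) → c = 1)
    (D : Subgroup X) [hDn : D.Normal] (hSD : (S : Subgroup X) ≤ D) (hns : ¬ Group.IsSolvable D) : D = ⊤ := by
  classical
  haveI : Fact (Nat.Prime 2) := ⟨Nat.prime_two⟩
  haveI : NeZero n := ⟨by omega⟩
  set S' : Subgroup X := (S : Subgroup X) with hS'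
  -- centralizing elements
  have hCS : ∀ c : X, (∀ s ∈ S', c * s = s * c) → c ∈ S' := by
    intro c hc
    have hcp : ∀ k : ℕ, ∀ s ∈ S', c ^ k * s = s * c ^ k := fun k s hs =>
      (Commute.pow_left (show Commute c s from hc s hs) k).eq
    refine mem_of_parts c ?_ ?_
    · intro k hk
      rw [hC _ (hcp k) hk]; exact S'.one_mem
    · intro k i hki
      refine two_mem S ?_ hki
      rw [mem_normalizer_iff]
      intro y
      constructor
      · intro hy
        rw [hcp k y hy, mul_inv_cancel_right]; exact hy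
      · intro hy
        have h1 := hcp k _ hy
        have h2 : y = c ^ k * y * (c ^ k)⁻¹ := by
          have : c ^ k * (c ^ k * y * (c ^ k)⁻¹) = c ^ k * y := by rw [h1]; group
          have h3 := mul_left_cancel this
          exact h3.symm
        rw [h2]; exact hy
  have hker : ∀ g : normalizer (S' : Set X), S'.normalizerMonoidHom g = 1 → (g : X) ∈ S' := by
    intro g hg
    apply hCS
    intro s hs
    have h1 := congrArg (fun ρ : MulAut S' => ((ρ ⟨s, hs⟩ : S') : X)) hg
    have h2 : (g : X) * s * (g : X)⁻¹ = s := h1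
    calc (g : X) * s = ((g : X) * s * (g : X)⁻¹) * g := by group
      _ = s * g := by rw [h2]
  -- Frattini
  have hfr := Sylow.normalizer_sup_eq_top' S hSD
  suffices hN : normalizer (S' : Set X) ≤ D by
    rw [← hfr, eq_comm, sup_eq_right]
    exact hN
  -- it suffices to consider elements of odd order
  have hodd : (∀ g : normalizer (S' : Set X), Odd (orderOf g) → (g : X) ∈ D) → normalizer (S' : Set X) ≤ D := by
    intro H g hg
    refine mem_of_parts g ?_ ?_
    · intro k hk
      have h1 := H ⟨g ^ k, (normalizer (S' : Set X)).pow_mem hg k⟩ (by rw [Subgroup.orderOf_mk]; exact hk)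
      exact h1
    · intro k i hki
      exact hSD (two_mem S ((normalizer (S' : Set X)).pow_mem hg k) hki)
  apply hodd
  obtain ⟨R0, hcyc, hidx, hsq⟩ := H11.DihedralAut.exists_cyclic_of_embedding e.toMonoidHom e.injective
  by_cases hx : ∃ x : S', x * x ≠ 1
  · -- order at least eight
    obtain ⟨x, hx⟩ := hx
    intro g hg
    have hxR : ∀ y : S', y * y ≠ 1 → y ∈ R0 := fun y hy => by
      by_contra h; exact hy (hsq y h)
    obtain ⟨k, hk⟩ := IsPGroup.iff_orderOf.1 S.2 x
    have hk1 : 1 ≤ k := by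
      by_contra h
      have : k = 0 := by omega
      rw [this, pow_zero, orderOf_eq_one_iff] at hk
      exact hx (by rw [hk, mul_one])
    set t := x ^ 2 ^ (k - 1) with ht
    have hto : orderOf t = 2 := by
      rw [ht, orderOf_pow' x (by positivity), hk]
      have h1 : 2 ^ k = 2 ^ (k - 1) * 2 := by rw [← pow_succ]; congr 1; omega
      rw [h1, Nat.gcd_eq_right (Dvd.intro _ rfl), Nat.mul_div_cancel_left _ (by positivity)]
    have ht1 : t ≠ 1 := by
      intro h; rw [h, orderOf_one] at hto; omega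
    set ρ := S'.normalizerMonoidHom g with hρ
    have hρt : ρ t = t := by
      have h1 : ρ x ∈ R0 := by
        apply hxR
        intro h
        apply hx
        rw [← map_mul, MulEquiv.map_eq_one_iff] at h
        exact h
      have h2 : ρ t ∈ R0 := by rw [ht, map_pow]; exact R0.pow_mem h1 _
      have h3 : t ∈ R0 := R0.pow_mem (hxR x hx) _
      exact H5.InvTools.cyclic_involution_unique_mem R0 hcyc h2 h3
        (by rw [MulEquiv.orderOf_eq]; exact hto) hto
    haveI := hcyc
    have h4 := H11.DihedralAut.aut_eq_one S.2 R0 hidx hsq ρ (odd_action S' g hg) t ht1 hρt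
    exact hSD (hker g h4)
  · -- Klein four-group
    push Not at hx
    have hn2 : n = 2 := by
      have h1 : (DihedralGroup.r 1 : DihedralGroup n) * DihedralGroup.r 1 = 1 := by
        have h2 := hx (e.symm (DihedralGroup.r 1))
        rw [← map_mul, MulEquiv.map_eq_one_iff] at h2
        exact h2
      have h3 : orderOf (DihedralGroup.r 1 : DihedralGroup n) ∣ 2 := orderOf_dvd_of_pow_eq_one (by rw [pow_two]; exact h1)
      rw [DihedralGroup.orderOf_r_one] at h3
      have := Nat.le_of_dvd (by norm_num) h3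
      omega
    have hcard : Nat.card S' = 4 := by
      rw [Nat.card_congr e.toEquiv, DihedralGroup.nat_card, hn2]
    have hcomm : ∀ a b : S', a * b = b * a := by
      intro a b
      have h4 : ∀ y : S', y⁻¹ = y := fun y => inv_eq_of_mul_eq_one_right (hx y)
      rw [← h4 (a * b), _root_.mul_inv_rev, h4, h4]
    -- an element of `D` acting nontrivially
    obtain ⟨d, hd, hdD, hd1⟩ : ∃ d : normalizer (S' : Set X), Odd (orderOf d) ∧ (d : X) ∈ D ∧
        S'.normalizerMonoidHom d ≠ 1 := by
      by_contra! hno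
      apply hns
      set P : Sylow 2 D := S.subtype hSD with hP
      have hPm : ∀ y : D, y ∈ (P : Subgroup D) ↔ (y : X) ∈ S' := fun y => Iff.rfl
      apply H4.CAA.solvable_of_burnside P
      intro y hy
      rw [mem_centralizer_iff]
      -- all of the normalizer centralizes
      have hyN : (y : X) ∈ normalizer (S' : Set X) := by
        rw [mem_normalizer_iff] at hy ⊢
        intro s
        constructor
        · intro hs
          have := (hy ⟨s, hSD hs⟩).1 ((hPm _).2 hs)
          exact (hPm _).1 this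
        · intro hs
          have hsD : s ∈ D := by
            have h5 : (y : X)⁻¹ * ((y : X) * s * (y : X)⁻¹) * (y : X) ∈ D :=
              D.mul_mem (D.mul_mem (D.inv_mem y.2) (hSD hs)) y.2
            rwa [show (y : X)⁻¹ * ((y : X) * s * (y : X)⁻¹) * (y : X) = s by group] at h5
          have := (hy ⟨s, hsD⟩).2 ((hPm _).2 hs)
          exact (hPm _).1 this
      have hyc : ∀ s ∈ S', (y : X) * s = s * y := by
        have h6 : (y : X) ∈ centralizer (S' : Set X) := by
          refine mem_of_parts (y : X) ?_ ?_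
          · intro k hk
            have h7 := hno ⟨(y : X) ^ k, (normalizer (S' : Set X)).pow_mem hyN k⟩
              (by rw [Subgroup.orderOf_mk]; exact hk) (D.pow_mem y.2 k)
            have h8 := hker _ h7
            rw [mem_centralizer_iff]
            intro s hs
            exact congrArg Subtype.val (hcomm ⟨s, hs⟩ ⟨_, h8⟩)
          · intro k i hki
            have h8 := two_mem S ((normalizer (S' : Set X)).pow_mem hyN k) hki
            rw [mem_centralizer_iff]
            intro s hs
            exact congrArg Subtype.val (hcomm ⟨s, hs⟩ ⟨_, h8⟩)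
        intro s hs
        exact (mem_centralizer_iff.1 h6 s hs).symm
      intro s hs
      exact Subtype.ext (hyc s ((hPm s).1 hs)).symm
    intro g hg
    have h1 := klein_odd hcard (S'.normalizerMonoidHom g) (S'.normalizerMonoidHom d) (odd_action S' g hg)
      (odd_action S' d hd) hd1
    obtain ⟨k, hk⟩ := mem_zpowers_iff.1 h1
    have h2 : S'.normalizerMonoidHom (g * (d ^ k)⁻¹) = 1 := by
      rw [map_mul, map_inv, map_zpow, hk, mul_inv_cancel]
    have h3 := hSD (hker _ h2)
    have h4 : (g : X) = (g * (d ^ k)⁻¹ : normalizer (S' : Set X)) * (d : X) ^ k := by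
      rw [Subgroup.coe_mul, Subgroup.coe_inv, Subgroup.coe_zpow, inv_mul_cancel_right]
    rw [h4]
    exact D.mul_mem h3 (D.zpow_mem hdD k)

end H74.K1
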