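import Cfsg.Agent.Lib.H15.MH0

set_option autoImplicit false

/-!
# S4221, piece X5: the degree is eleven
-/

namespace H74.X5

open H15.MH

universe u v

variable {G : Type u} {α : Type v} [Group G] [MulAction G α]

theorem card_eleven [Finite α] (h : Hyp3 G α)
    (hu : ∀ a b c d : α, D4 a b c d → ∀ s t : G, orderOf s = 2 → orderOf t = 2 →
      s • a = a → s • b = b → s • c = d → t • a = a → t • b = b → t • c = d → s = t)
    (hw : ∀ a b c d : α, D4 a b c d → ∀ s t : G, orderOf s = 2 → orderOf t = 2 →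
      s • a = b → s • c = d → t • a = b → t • c = d → s = t)
    (h4 : 4 < Nat.card α) : Nat.card α = 11 := by
  classical
  have : Fintype α := Fintype.ofFinite α
  rw [Nat.card_eq_fintype_card] at h4 ⊢
  obtain ⟨a, b, hab⟩ := Fintype.exists_pair_of_one_lt_card (by omega : 1 < Fintype.card α)
  set S : Finset α := Finset.univ \ {a, b} with hS
  have hSc : S.card = Fintype.card α - 2 := by
    rw [hS, Finset.card_sdiff_of_subset (Finset.subset_univ _), Finset.card_univ, Finset.card_pair hab]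
  set P := S.offDiag with hP
  have hmem : ∀ p : α × α, p ∈ P ↔ D4 a b p.1 p.2 := by
    intro p
    simp only [hP, hS, Finset.mem_offDiag, Finset.mem_sdiff, Finset.mem_univ, true_and,
      Finset.mem_insert, Finset.mem_singleton, not_or, D4]
    constructor
    · rintro ⟨⟨h1, h2⟩, ⟨h3, h4⟩, h5⟩
      exact ⟨hab, Ne.symm h1, Ne.symm h3, Ne.symm h2, Ne.symm h4, h5⟩
    · rintro ⟨-, h1, h2, h3, h4, h5⟩
      exact ⟨⟨Ne.symm h1, Ne.symm h3⟩, ⟨Ne.symm h2, Ne.symm h4⟩, h5⟩
  have hinv : ∀ x : G, orderOf x = 2 → ∀ y : α, x • x • y = y := by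
    intro x hx y
    rw [← mul_smul, ← pow_two, ← hx, pow_orderOf_eq_one, one_smul]
  -- F
  have hF : ∀ p : α × α, ∃ x : G, p ∈ P → (orderOf x = 2 ∧ x • a = b ∧ x • p.1 = p.1 ∧ x • p.2 = p.2) := by
    intro p
    by_cases hp : p ∈ P
    · obtain ⟨h1, h2, h3, h4, h5, h6⟩ := (hmem p).1 hp
      obtain ⟨u, hu1, hu2, hu3, hu4, hu5⟩ := exists_u h.toHyp (a := p.1) (b := p.2) (c := a) (d := b)
        ⟨h6, h2.symm, h4.symm, h3.symm, h5.symm, h1⟩
      exact ⟨u, fun _ => ⟨hu1, hu4, hu2, hu3⟩⟩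
    · exact ⟨1, fun h => absurd h hp⟩
  choose F hF using hF
  have hF' : ∀ p : α × α, ∃ x : G, p ∈ P → (orderOf x = 2 ∧ x • a = b ∧ x • p.1 = p.2) := by
    intro p
    by_cases hp : p ∈ P
    · obtain ⟨h1, h2, h3, h4, h5, h6⟩ := (hmem p).1 hp
      obtain ⟨g, hg1, hg2, hg3, hg4⟩ := h.tr a b p.1 p.2 b a p.2 p.1 ⟨h1, h2, h3, h4, h5, h6⟩
        ⟨h1.symm, h5, h4, h3, h2, h6.symm⟩
      obtain ⟨u, hu1, hu2⟩ := exists_pow h.toHyp (⟨h1, h2, h3, h4, h5, h6⟩ : D4 a b p.1 p.2) g
        (by rw [hg1, hg2]) (by rw [hg2, hg1]) (by rw [hg3, hg4]) (by rw [hg4, hg3])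
      have hua : u • a = b := by rw [hu2 a (by rw [hg1, hg2]), hg1]
      have huc : u • p.1 = p.2 := by rw [hu2 p.1 (by rw [hg3, hg4]), hg3]
      refine ⟨u, fun _ => ⟨orderOf_eq_prime (by rw [pow_two]; exact hu1) ?_, hua, huc⟩⟩
      rintro rfl
      rw [one_smul] at hua
      exact hab hua
    · exact ⟨1, fun h => absurd h hp⟩
  choose F' hF' using hF'
  -- points fixed by an involution interchanging `a` and `b`
  have hna : ∀ x : G, orderOf x = 2 → x • a = b → ∀ z : α, x • z = z → a ≠ z ∧ b ≠ z := by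
    intro x hx2 hxa z hz
    have hxb : x • b = a := by rw [← hxa]; exact hinv _ hx2 a
    constructor
    · rintro rfl; exact hab (hz.symm.trans hxa)
    · rintro rfl; exact hab (hxb.symm.trans hz)
  have c1 : ∀ x ∈ P.image F, (P.filter (fun p => F p = x)).card = 6 := by
    intro x hx
    obtain ⟨p, hp, rfl⟩ := Finset.mem_image.1 hx
    obtain ⟨hx2, hxa, -, -⟩ := hF p hp
    obtain ⟨y1, y2, y3, h12, h13, h23, hfix⟩ := h.fx _ hx2
    have heq : P.filter (fun q => F q = F p) = ({y1, y2, y3} : Finset α).offDiag := by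
      ext q
      rw [Finset.mem_filter]
      have hm : ∀ z : α, z ∈ ({y1, y2, y3} : Finset α) ↔ F p • z = z := by
        intro z
        rw [hfix z]
        simp
      have hm' : q ∈ ({y1, y2, y3} : Finset α).offDiag ↔ (F p • q.1 = q.1 ∧ F p • q.2 = q.2 ∧ q.1 ≠ q.2) := by
        rw [Finset.mem_offDiag, hm, hm]
      rw [hm']
      constructor
      · rintro ⟨h1, h2⟩
        obtain ⟨-, -, h3, h4⟩ := hF q h1
        rw [h2] at h3 h4
        exact ⟨h3, h4, ((hmem q).1 h1).2.2.2.2.2⟩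
      · rintro ⟨h1, h2, h3⟩
        have n1 := hna _ hx2 hxa _ h1
        have n2 := hna _ hx2 hxa _ h2
        have hq : q ∈ P := (hmem q).2 ⟨hab, n1.1, n2.1, n1.2, n2.2, h3⟩
        refine ⟨hq, ?_⟩
        obtain ⟨e1, e2, e3, e4⟩ := hF q hq
        exact hu q.1 q.2 a b ⟨h3, n1.1.symm, n1.2.symm, n2.1.symm, n2.2.symm, hab⟩ _ _ e1 hx2 e3 e4 e2 h1 h2 hxa
    rw [heq, Finset.offDiag_card, Finset.card_eq_three.2 ⟨y1, y2, y3, h12, h13, h23, rfl⟩]
  have c2 : ∀ x ∈ P.image F', (P.filter (fun p => F' p = x)).card = Fintype.card α - 5 := by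
    intro x hx
    obtain ⟨p, hp, rfl⟩ := Finset.mem_image.1 hx
    obtain ⟨hx2, hxa, -⟩ := hF' p hp
    have hxb : F' p • b = a := by rw [← hxa]; exact hinv _ hx2 a
    obtain ⟨y1, y2, y3, h12, h13, h23, hfix⟩ := h.fx _ hx2
    have m1 := hna _ hx2 hxa y1 ((hfix y1).2 (Or.inl rfl))
    have m2 := hna _ hx2 hxa y2 ((hfix y2).2 (Or.inr (Or.inl rfl)))
    have m3 := hna _ hx2 hxa y3 ((hfix y3).2 (Or.inr (Or.inr rfl)))
    have hm : ∀ z : α, z ∉ ({a, b, y1, y2, y3} : Finset α) ↔ z ≠ a ∧ z ≠ b ∧ F' p • z ≠ z := by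
      intro z
      rw [Ne, Ne, Ne, hfix z]
      simp
    have heq : P.filter (fun q => F' q = F' p) =
        (Finset.univ \ ({a, b, y1, y2, y3} : Finset α)).image (fun z => (z, F' p • z)) := by
      ext q
      rw [Finset.mem_filter, Finset.mem_image]
      constructor
      · rintro ⟨h1, h2⟩
        obtain ⟨-, -, h3⟩ := hF' q h1
        rw [h2] at h3
        have h5 := (hmem q).1 h1
        refine ⟨q.1, ?_, Prod.ext rfl h3⟩
        rw [Finset.mem_sdiff, hm]
        exact ⟨Finset.mem_univ _, h5.2.1.symm, h5.2.2.2.1.symm, fun e => h5.2.2.2.2.2 (e.symm.trans h3)⟩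
      · rintro ⟨z, hz, rfl⟩
        rw [Finset.mem_sdiff, hm] at hz
        obtain ⟨-, z1, z2, z3⟩ := hz
        have k1 : F' p • z ≠ a := fun e => z2 (MulAction.injective (F' p) (e.trans hxb.symm))
        have k2 : F' p • z ≠ b := fun e => z1 (MulAction.injective (F' p) (e.trans hxa.symm))
        have hq : (z, F' p • z) ∈ P := (hmem _).2 ⟨hab, z1.symm, k1.symm, z2.symm, k2.symm, z3.symm⟩
        refine ⟨hq, ?_⟩
        obtain ⟨e1, e2, e3⟩ := hF' _ hq
        exact hw a b z (F' p • z) ⟨hab, z1.symm, k1.symm, z2.symm, k2.symm, z3.symm⟩ _ _ e1 hx2 e2 e3 hxa rfl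
    rw [heq, Finset.card_image_of_injective _ (fun z z' hz => (Prod.ext_iff.1 hz).1),
      Finset.card_sdiff_of_subset (Finset.subset_univ _), Finset.card_univ]
    congr 1
    rw [Finset.card_insert_of_notMem, Finset.card_insert_of_notMem,
      Finset.card_eq_three.2 ⟨y1, y2, y3, h12, h13, h23, rfl⟩]
    · simp only [Finset.mem_insert, Finset.mem_singleton, not_or]
      exact ⟨m1.2, m2.2, m3.2⟩
    · simp only [Finset.mem_insert, Finset.mem_singleton, not_or]
      exact ⟨hab, m1.1, m2.1, m3.1⟩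
  have hPne : P.Nonempty := by
    rw [← Finset.card_pos, hP, Finset.offDiag_card, hSc]
    have h1 : 3 ≤ Fintype.card α - 2 := by omega
    have h2 := Nat.mul_le_mul_right (Fintype.card α - 2) h1
    omega
  -- the two images coincide
  have h7 : 7 ≤ Fintype.card α := by
    obtain ⟨p, hp⟩ := hPne
    obtain ⟨hx2, hxa, hxc⟩ := hF' p hp
    obtain ⟨h1, h2, h3, h4, h5, h6⟩ := (hmem p).1 hp
    have hxb : F' p • b = a := by rw [← hxa]; exact hinv _ hx2 a
    have hxd : F' p • p.2 = p.1 := by rw [← hxc]; exact hinv _ hx2 _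
    obtain ⟨y1, y2, y3, h12, h13, h23, hfix⟩ := h.fx _ hx2
    have m1 := hna _ hx2 hxa y1 ((hfix y1).2 (Or.inl rfl))
    have m2 := hna _ hx2 hxa y2 ((hfix y2).2 (Or.inr (Or.inl rfl)))
    have m3 := hna _ hx2 hxa y3 ((hfix y3).2 (Or.inr (Or.inr rfl)))
    have hc : ∀ z : α, F' p • z = z → p.1 ≠ z ∧ p.2 ≠ z := by
      intro z hz
      constructor
      · rintro rfl; exact h6 (hz.symm.trans hxc)
      · rintro rfl; exact h6 (hxd.symm.trans hz)
    have k1 := hc y1 ((hfix y1).2 (Or.inl rfl))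
    have k2 := hc y2 ((hfix y2).2 (Or.inr (Or.inl rfl)))
    have k3 := hc y3 ((hfix y3).2 (Or.inr (Or.inr rfl)))
    have hcard : ({a, b, p.1, p.2, y1, y2, y3} : Finset α).card = 7 := by
      rw [Finset.card_insert_of_notMem, Finset.card_insert_of_notMem, Finset.card_insert_of_notMem,
        Finset.card_insert_of_notMem, Finset.card_eq_three.2 ⟨y1, y2, y3, h12, h13, h23, rfl⟩]
      · simp only [Finset.mem_insert, Finset.mem_singleton, not_or]
        exact ⟨k1.2, k2.2, k3.2⟩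
      · simp only [Finset.mem_insert, Finset.mem_singleton, not_or]
        exact ⟨h6, k1.1, k2.1, k3.1⟩
      · simp only [Finset.mem_insert, Finset.mem_singleton, not_or]
        exact ⟨h4, h5, m1.2, m2.2, m3.2⟩
      · simp only [Finset.mem_insert, Finset.mem_singleton, not_or]
        exact ⟨hab, h2, h3, m1.1, m2.1, m3.1⟩
    rw [← hcard]
    exact Finset.card_le_univ _
  have himg : P.image F = P.image F' := by
    ext x
    rw [Finset.mem_image, Finset.mem_image]
    constructor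
    · rintro ⟨p, hp, rfl⟩
      obtain ⟨hx2, hxa, -, -⟩ := hF p hp
      have hxb : F p • b = a := by rw [← hxa]; exact hinv _ hx2 a
      obtain ⟨y1, y2, y3, h12, h13, h23, hfix⟩ := h.fx _ hx2
      obtain ⟨c, -, hc⟩ : ∃ c ∈ (Finset.univ : Finset α), c ∉ ({a, b, y1, y2, y3} : Finset α) := by
        apply Finset.exists_mem_notMem_of_card_lt_card
        rw [Finset.card_univ]
        exact lt_of_le_of_lt Finset.card_le_five (by omega)
      simp only [Finset.mem_insert, Finset.mem_singleton, not_or] at hc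
      obtain ⟨z1, z2, z3⟩ := hc
      have z3' : F p • c ≠ c := by
        intro e
        rcases (hfix c).1 e with e | e | e
        · exact z3.1 e
        · exact z3.2.1 e
        · exact z3.2.2 e
      have k1 : F p • c ≠ a := fun e => z2 (MulAction.injective (F p) (e.trans hxb.symm))
      have k2 : F p • c ≠ b := fun e => z1 (MulAction.injective (F p) (e.trans hxa.symm))
      have hD : D4 a b c (F p • c) := ⟨hab, Ne.symm z1, k1.symm, Ne.symm z2, k2.symm, z3'.symm⟩
      have hq : (c, F p • c) ∈ P := (hmem _).2 hD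
      obtain ⟨e1, e2, e3⟩ := hF' _ hq
      exact ⟨_, hq, hw a b c (F p • c) hD _ _ e1 hx2 e2 e3 hxa rfl⟩
    · rintro ⟨p, hp, rfl⟩
      obtain ⟨hx2, hxa, -⟩ := hF' p hp
      obtain ⟨y1, y2, y3, h12, h13, h23, hfix⟩ := h.fx _ hx2
      have f1 := (hfix y1).2 (Or.inl rfl)
      have f2 := (hfix y2).2 (Or.inr (Or.inl rfl))
      have n1 := hna _ hx2 hxa _ f1
      have n2 := hna _ hx2 hxa _ f2
      have hq : (y1, y2) ∈ P := (hmem _).2 ⟨hab, n1.1, n2.1, n1.2, n2.2, h12⟩
      refine ⟨_, hq, ?_⟩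
      obtain ⟨e1, e2, e3, e4⟩ := hF _ hq
      exact hu y1 y2 a b ⟨h12, n1.1.symm, n1.2.symm, n2.1.symm, n2.2.symm, hab⟩ _ _ e1 hx2 e3 e4 e2 f1 f2 hxa
  have t1 : P.card = (P.image F).card * 6 := by
    rw [Finset.card_eq_sum_card_image F P, Finset.sum_congr rfl c1, Finset.sum_const, smul_eq_mul]
  have t2 : P.card = (P.image F').card * (Fintype.card α - 5) := by
    rw [Finset.card_eq_sum_card_image F' P, Finset.sum_congr rfl c2, Finset.sum_const, smul_eq_mul]
  rw [himg] at t1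
  have t3 : 0 < (P.image F').card := by
    rw [Finset.card_pos]; exact hPne.image _
  have t4 : 6 = Fintype.card α - 5 := Nat.eq_of_mul_eq_mul_left t3 (t1.symm.trans t2)
  omega

end H74.X5
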