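import Mathlib

set_option autoImplicit false

/-!
# S4221, piece X7: the orders
-/

namespace H74.X7

theorem card_eq {α : Type*} [Fintype α] [DecidableEq α] (G : Subgroup (Equiv.Perm α))
    (hG : MulAction.IsMultiplyPretransitive G α 4) (x : Fin 4 ↪ α) :
    Nat.card (MulAction.stabilizer G x) * (Fintype.card α).descFactorial 4 = Nat.card G := by
  have h1 : (MulAction.stabilizer G x).index = Nat.card (Fin 4 ↪ α) := by
    rw [MulAction.index_stabilizer, ← Set.ncard_univ]
    congr 1
    rw [Set.eq_univ_iff_forall]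
    intro y
    obtain ⟨g, hg⟩ := hG.exists_smul_eq x y
    exact ⟨g, hg⟩
  rw [← Subgroup.card_mul_index (MulAction.stabilizer G x), h1, Nat.card_eq_fintype_card (α := Fin 4 ↪ α),
    Fintype.card_embedding_eq, Fintype.card_fin]

theorem final11 {α : Type*} [Fintype α] [DecidableEq α] (G : Subgroup (Equiv.Perm α))
    (hG : MulAction.IsMultiplyPretransitive G α 4)
    (ht : ∀ x : Fin 4 ↪ α, Nat.card (MulAction.stabilizer G x) = 1) (h11 : Fintype.card α = 11) :
    Nat.card G = 7920 := by
  obtain ⟨x⟩ : Nonempty (Fin 4 ↪ α) := Function.Embedding.nonempty_of_card_le (by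
    rw [Fintype.card_fin, h11]; norm_num)
  rw [← card_eq G hG x, ht x, h11]
  decide

theorem final7 {α : Type*} [Fintype α] [DecidableEq α] (G : Subgroup (Equiv.Perm α))
    (hG : MulAction.IsMultiplyPretransitive G α 4) (h7 : Fintype.card α = 7) (x : Fin 4 ↪ α)
    (hodd : Odd (Nat.card (MulAction.stabilizer G x))) (h3 : 3 ∣ Nat.card (MulAction.stabilizer G x)) :
    G = alternatingGroup α := by
  have h1 := card_eq G hG x
  rw [h7, show Nat.descFactorial 7 4 = 840 by decide] at h1
  have h2 := Subgroup.card_mul_index G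
  rw [Nat.card_eq_fintype_card (α := Equiv.Perm α), Fintype.card_perm, h7, ← h1,
    show Nat.factorial 7 = 5040 by decide] at h2
  set s := Nat.card (MulAction.stabilizer G x) with hs
  have h4 : s * G.index = 6 := by
    have : (s * G.index) * 840 = 6 * 840 := by
      rw [show s * G.index * 840 = s * 840 * G.index by ring, h2]
    exact Nat.eq_of_mul_eq_mul_right (by norm_num) this
  have h5 : G.index = 2 := by
    have hs6 : s ≤ 6 := Nat.le_of_dvd (by norm_num) ⟨_, h4.symm⟩
    have h6 : s = 3 := by
      obtain ⟨k, hk⟩ := hodd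
      obtain ⟨l, hl⟩ := h3
      omega
    rw [h6] at h4
    omega
  exact Equiv.Perm.eq_alternatingGroup_of_index_eq_two h5

end H74.X7
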